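import Mathlib

/-!
# General lemmas for the exclusion argument
-/

set_option autoImplicit false
set_option Elab.async false
set_option linter.style.haveILetI false

namespace CfsgLib.JOneOrder

open scoped Pointwise

variable {G : Type*} [Group G] [Finite G]

/-- A group of order twice an odd number has its elements of odd order as a subgroup. -/
theorem odd_half {H : Subgroup G} {m : ℕ} (hm : ¬ 2 ∣ m) (hH : Nat.card H = 2 * m) :
    ∃ O : Subgroup G, Nat.card O = m ∧ ∀ z, z ∈ O ↔ z ∈ H ∧ ¬ 2 ∣ orderOf z := by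
  haveI : Fact (Nat.Prime 2) := ⟨Nat.prime_two⟩
  have hm0 : m ≠ 0 := fun e => hm (e ▸ dvd_zero _)
  obtain ⟨P⟩ : Nonempty (Sylow 2 H) := inferInstance
  have hP : Nat.card (P : Subgroup H) = 2 := by
    rw [P.card_eq_multiplicity, hH, Nat.factorization_mul (by norm_num) hm0, Finsupp.add_apply,
      Nat.Prime.factorization_self Nat.prime_two, Nat.factorization_eq_zero_of_not_dvd hm, pow_one]
  haveI hc : IsCyclic (P : Subgroup H) := isCyclic_of_prime_card hP
  have hmin : (Nat.card H).minFac = 2 := by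
    rw [hH, Nat.minFac_eq_two_iff]; exact dvd_mul_right _ _
  set K := (MonoidHom.transferSylow P (hc.normalizer_le_centralizer hmin)).ker with hK
  have hcompl : K.IsComplement' (P : Subgroup H) := hc.isComplement' hmin
  have hKc : Nat.card K = m := by
    have := hcompl.card_mul
    rw [hP, hH] at this
    omega
  have hidx : K.index = 2 := by rw [hcompl.symm.index_eq_card, hP]
  refine ⟨K.map H.subtype, by rw [Subgroup.card_map_of_injective Subtype.val_injective, hKc],
    fun z => ⟨?_, fun hz => ?_⟩⟩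
  · rintro ⟨a, ha, rfl⟩
    refine ⟨a.2, fun h2 => hm ?_⟩
    have h3 : orderOf (⟨a, ha⟩ : K) ∣ Nat.card K := orderOf_dvd_natCard _
    rw [hKc, Subgroup.orderOf_mk] at h3
    rw [show orderOf (H.subtype a) = orderOf a from orderOf_injective _ Subtype.val_injective _] at h2
    exact h2.trans h3
  · obtain ⟨hzH, hz⟩ := hz
    refine ⟨⟨z, hzH⟩, ?_, rfl⟩
    rw [← Subgroup.orderOf_mk z hzH] at hz
    obtain ⟨k, hk⟩ : ∃ k, orderOf (⟨z, hzH⟩ : H) + 1 = 2 * k :=
      ⟨(orderOf (⟨z, hzH⟩ : H) + 1) / 2, by omega⟩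
    have e : (⟨z, hzH⟩ : H) = ((⟨z, hzH⟩ : H) * ⟨z, hzH⟩) ^ k := by
      rw [← pow_two, ← pow_mul, ← hk, pow_succ, pow_orderOf_eq_one, one_mul]
    rw [SetLike.mem_coe, e]
    exact pow_mem (Subgroup.mul_self_mem_of_index_two hidx _) k

/-- A subgroup of odd order normalised by a 2-group has an invariant Sylow subgroup. -/
theorem invariant_sylow {O E : Subgroup G} (hO : ¬ 2 ∣ Nat.card O) (hE : IsPGroup 2 E)
    (hn : E ≤ Subgroup.normalizer (O : Set G)) (p : ℕ) [Fact p.Prime] :
    ∃ Q : Sylow p O, ∀ e ∈ E, ∀ z ∈ (Q : Subgroup O).map O.subtype,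
      e * z * e⁻¹ ∈ (Q : Subgroup O).map O.subtype := by
  haveI : Fact (Nat.Prime 2) := ⟨Nat.prime_two⟩
  let φ : E →* MulAut O := O.normalizerMonoidHom.comp (Subgroup.inclusion hn)
  letI : MulAction E (Sylow p O) := MulAction.compHom _ φ
  obtain ⟨Q₀⟩ : Nonempty (Sylow p O) := inferInstance
  have hdvd : ¬ 2 ∣ Nat.card (Sylow p O) := fun h2 =>
    hO ((h2.trans Q₀.card_dvd_index).trans (Subgroup.index_dvd_card _))
  obtain ⟨Q, hQ⟩ := hE.nonempty_fixed_point_of_prime_not_dvd_card (Sylow p O) hdvd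
  refine ⟨Q, fun e he z hz => ?_⟩
  obtain ⟨a, ha, rfl⟩ := hz
  have h1 : φ ⟨e, he⟩ • Q = Q := hQ ⟨e, he⟩
  have h2 : φ ⟨e, he⟩ a ∈ φ ⟨e, he⟩ • Q := by
    change φ ⟨e, he⟩ a ∈ φ ⟨e, he⟩ • (Q : Subgroup O)
    exact Subgroup.smul_mem_pointwise_smul a _ _ ha
  rw [h1] at h2
  exact ⟨_, h2, rfl⟩

/-- An involution without fixed points inverts. -/
theorem fpf_inverts {A : Subgroup G} {a : G} (ha : a * a = 1) (hn : ∀ z ∈ A, a * z * a ∈ A)
    (hf : ∀ z ∈ A, a * z * a = z → z = 1) {z : G} (hz : z ∈ A) : a * z * a = z⁻¹ := by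
  let φ : A →* A :=
    { toFun := fun w => ⟨a * w * a, hn _ w.2⟩
      map_one' := Subtype.ext (by simp [ha])
      map_mul' := fun v w => Subtype.ext (by
        simp only [Subgroup.coe_mul]
        rw [show a * (v : G) * a * (a * w * a) = a * (v : G) * (a * a) * w * a by group, ha]
        group) }
  have h1 : MonoidHom.FixedPointFree φ := fun w hw => Subtype.ext (hf _ w.2 (congrArg Subtype.val hw))
  have h2 : Function.Involutive φ := fun w => Subtype.ext (by
    show a * (a * w * a) * a = w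
    rw [show a * (a * (w : G) * a) * a = (a * a) * w * (a * a) by group, ha]; group)
  exact congrArg Subtype.val (congrFun (h1.coe_eq_inv_of_involutive h2) ⟨z, hz⟩)

theorem comm_of_inverts {A : Subgroup G} {a : G} (ha : a * a = 1)
    (hi : ∀ z ∈ A, a * z * a = z⁻¹) {y z : G} (hy : y ∈ A) (hz : z ∈ A) : Commute y z := by
  have h1 := hi _ (mul_mem hy hz)
  rw [show a * (y * z) * a = (a * y * a) * (a * a)⁻¹ * (a * z * a) by group, ha, inv_one, mul_one,
    hi y hy, hi z hz, ← mul_inv_rev] at h1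
  exact (inv_injective h1).symm

/-- In a group of order 125 the commutators are central. -/
theorem five_cube {P : Subgroup G} (hP : Nat.card P = 125) :
    (∀ a ∈ P, ∀ b ∈ P, ∀ c ∈ P, Commute (a * b * a⁻¹ * b⁻¹) c) ∧
      ∀ a ∈ P, ∀ b ∈ P, orderOf a = 5 → b ∉ Subgroup.zpowers a → (∀ c ∈ P, Commute a c) →
        (∀ c ∈ P, Commute b c) → ∀ c ∈ P, ∀ d ∈ P, Commute c d := by
  haveI : Fact (Nat.Prime 5) := ⟨by norm_num⟩
  haveI : Nontrivial P := Finite.one_lt_card_iff_nontrivial.mp (by rw [hP]; norm_num)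
  have hp : IsPGroup 5 P := IsPGroup.of_card (n := 3) (by rw [hP]; norm_num)
  have hmul : Nat.card (P ⧸ Subgroup.center P) * Nat.card (Subgroup.center P) = 5 ^ 3 := by
    rw [← Subgroup.card_eq_card_quotient_mul_card_subgroup, hP]; norm_num
  obtain ⟨j, hj, hq⟩ := (Nat.dvd_prime_pow (by norm_num)).mp ⟨_, hmul.symm⟩
  haveI := hp.center_nontrivial
  have hz1 : 1 < Nat.card (Subgroup.center P) := Finite.one_lt_card
  refine ⟨fun a ha b hb c hc => ?_, fun a ha b hb hoa hba haz hbz c hc d hd => ?_⟩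
  · have hcomm : ∀ x y : P ⧸ Subgroup.center P, x * y = y * x := by
      interval_cases j
      · haveI := (Nat.card_eq_one_iff_unique.mp (hq.trans (pow_zero 5))).1
        exact fun x y => Subsingleton.elim _ _
      · haveI := isCyclic_of_prime_card (hq.trans (pow_one 5))
        letI := IsCyclic.commGroup (α := P ⧸ Subgroup.center P)
        exact mul_comm
      · exact IsPGroup.commutative_of_card_eq_prime_sq hq
      · rw [hq] at hmul; omega
    have hm : (⟨a, ha⟩ * ⟨b, hb⟩ * ⟨a, ha⟩⁻¹ * ⟨b, hb⟩⁻¹ : P) ∈ Subgroup.center P := by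
      rw [← QuotientGroup.eq_one_iff]
      simp only [QuotientGroup.mk_mul, QuotientGroup.mk_inv]
      rw [hcomm (QuotientGroup.mk _) (QuotientGroup.mk _)]
      group
    exact (congrArg Subtype.val (Subgroup.mem_center_iff.mp hm ⟨c, hc⟩)).symm
  · have ma : (⟨a, ha⟩ : P) ∈ Subgroup.center P :=
      Subgroup.mem_center_iff.mpr fun z => Subtype.ext (haz z z.2).symm.eq
    have mb : (⟨b, hb⟩ : P) ∈ Subgroup.center P :=
      Subgroup.mem_center_iff.mpr fun z => Subtype.ext (hbz z z.2).symm.eq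
    obtain ⟨i, hi, hzi⟩ := (Nat.dvd_prime_pow (by norm_num : Nat.Prime 5)).mp
      (show Nat.card (Subgroup.center P) ∣ 5 ^ 3 from ⟨_, (hmul.symm.trans (mul_comm _ _))⟩)
    have hi1 : i ≠ 1 := by
      rintro rfl
      haveI := isCyclic_of_prime_card (hzi.trans (pow_one 5))
      have h1 : Subgroup.zpowers (⟨a, ha⟩ : P) = Subgroup.center P :=
        Subgroup.eq_of_le_of_card_ge (Subgroup.zpowers_le.mpr ma) (by
          rw [hzi, Nat.card_zpowers, Subgroup.orderOf_mk, hoa, pow_one])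
      rw [← h1] at mb
      obtain ⟨k, hk⟩ := Subgroup.mem_zpowers_iff.mp mb
      exact hba ⟨k, by simpa using congrArg Subtype.val hk⟩
    have hj1 : j ≤ 1 := by
      rw [hq, hzi, ← pow_add] at hmul
      have := Nat.pow_right_injective (le_refl 2 |>.trans (by norm_num)) hmul
      have h0 : i ≠ 0 := by rintro rfl; omega
      omega
    haveI : IsCyclic (P ⧸ Subgroup.center P) := by
      interval_cases j
      · haveI := (Nat.card_eq_one_iff_unique.mp (hq.trans (pow_zero 5))).1
        infer_instance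
      · exact isCyclic_of_prime_card (hq.trans (pow_one 5))
    exact congrArg Subtype.val (commutative_of_cyclic_center_quotient
      (QuotientGroup.mk' (Subgroup.center P)) (by rw [QuotientGroup.ker_mk']) ⟨c, hc⟩ ⟨d, hd⟩)

/-- A conjugation mapping a finite subgroup into itself normalises it. -/
theorem mem_normalizer_of_conj {H : Subgroup G} {r : G} (hr : ∀ z ∈ H, r * z * r⁻¹ ∈ H) :
    r ∈ Subgroup.normalizer (H : Set G) := by
  have he : H.map (MulAut.conj r).toMonoidHom = H :=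
    Subgroup.eq_of_le_of_card_ge (by rintro _ ⟨z, hz, rfl⟩; exact hr z hz)
      (le_of_eq (Subgroup.card_map_of_injective (MulAut.conj r).injective).symm)
  refine Subgroup.mem_normalizer_iff.mpr fun z => ⟨hr z, fun hz => ?_⟩
  rw [← he] at hz
  obtain ⟨a, ha, e⟩ := hz
  have : a = z := by simpa [MulAut.conj_apply] using e
  exact this ▸ ha

/-- A `p`-element normalising a Sylow subgroup lies in it. -/
theorem mem_of_normalizer {p : ℕ} [Fact p.Prime] (P : Sylow p G) {y : G}
    (hn : y ∈ Subgroup.normalizer ((P : Subgroup G) : Set G)) {k : ℕ} (hy : orderOf y = p ^ k) :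
    y ∈ (P : Subgroup G) := by
  have h1 : IsPGroup p (Subgroup.zpowers y) := IsPGroup.of_card (n := k) (by rw [Nat.card_zpowers, hy])
  have h2 := h1.to_sup_of_normal_right' P.2 (Subgroup.zpowers_le.mpr hn)
  have h3 : Subgroup.zpowers y ⊔ (P : Subgroup G) = P := P.3 h2 le_sup_right
  exact h3 ▸ Subgroup.mem_sup_left (Subgroup.mem_zpowers y)

theorem pow_mem_prime {H : Subgroup G} {c : G} (hc : c ^ 5 = 1) {n : ℕ} (hn : ¬ 5 ∣ n)
    (hm : c ^ n ∈ H) : c ∈ H := by
  obtain ⟨j, -, hj⟩ := Nat.exists_mul_mod_eq_one_of_coprime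
    ((Nat.Prime.coprime_iff_not_dvd (by norm_num)).mpr hn).symm (by norm_num : 1 < 5)
  have : (c ^ n) ^ j = c := by rw [← pow_mul, pow_eq_pow_mod (n * j) hc, hj, pow_one]
  exact this ▸ pow_mem hm j

end CfsgLib.JOneOrder
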