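import Cfsg.Agent.Lib.Char.Counting
import Cfsg.Agent.Lib.Char.Induced
import Cfsg.Agent.Lib.Char.Virtual
import Mathlib.GroupTheory.SpecificGroups.Alternating

/-!
# The character values of the alternating group of degree five used in Janko's characterisation
-/

set_option autoImplicit false
set_option Elab.async false
set_option maxRecDepth 20000
set_option linter.style.haveILetI false

namespace CfsgLib.JOneOrder

open Cfsg Equiv
open scoped ComplexConjugate CfsgLib.Char

abbrev A5 := alternatingGroup (Fin 5)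

/-- An even permutation given as a product of two transpositions. -/
def twoSwap (a b c d : Fin 5) (h : a ≠ b ∧ c ≠ d := by decide) : A5 :=
  ⟨swap a b * swap c d, Perm.mem_alternatingGroup.mpr (by
    rw [map_mul, Perm.sign_swap h.1, Perm.sign_swap h.2]; rfl)⟩

/-- A five-cycle. -/
def c5 : A5 := twoSwap 0 1 1 2 * twoSwap 2 3 3 4

/-- Representatives of the five classes: `1`, an involution, orders `3`, `5`, `5`. -/
def rep : Fin 5 → A5 := ![1, twoSwap 0 1 2 3, twoSwap 0 1 1 2, c5, c5 * c5]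

/-- The class sizes. -/
def wt : Fin 5 → ℕ := ![1, 15, 20, 12, 12]

theorem rep_facts : c5 ^ 5 = 1 ∧ c5 ≠ 1 ∧ (∀ i, rep i ^ 15 = 1 ↔ i ≠ 1) ∧ rep 0 = 1 ∧
    rep 1 * rep 1 = 1 ∧ rep 1 ≠ 1 ∧ rep 2 ^ 3 = 1 ∧ rep 2 ≠ 1 ∧ rep 3 ^ 5 = 1 ∧ rep 3 ≠ 1 ∧
    rep 4 = rep 3 ^ 2 := by
  decide +kernel

theorem rep_class : ∀ i : Fin 5, (Finset.univ.filter fun a : A5 =>
    ∃ x : A5, x * rep i * x⁻¹ = a).card = wt i := by
  decide +kernel

theorem rep_distinct : ∀ i j : Fin 5, (∃ x : A5, x * rep i * x⁻¹ = rep j) → i = j := by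
  decide +kernel

theorem rep_cover : ∀ a : A5, ∃ i : Fin 5, ∃ x : A5, x * rep i * x⁻¹ = a := by
  decide +kernel

theorem class_fibre {i : Fin 5} {a : A5} (x : A5) (e : x * rep i * x⁻¹ = a) {j : Fin 5} (y : A5)
    (e' : y * rep j * y⁻¹ = a) : i = j :=
  rep_distinct i j ⟨y⁻¹ * x, by
    rw [show y⁻¹ * x * rep i * (y⁻¹ * x)⁻¹ = y⁻¹ * (x * rep i * x⁻¹) * y by group, e, ← e']; group⟩

/-- Sums over the group by classes. -/
theorem sum_classes {M : Type*} [AddCommMonoid M] {F : A5 → M}
    (hF : ∀ a x : A5, F (x * a * x⁻¹) = F a) :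
    ∑ a : A5, F a = ∑ i : Fin 5, wt i • F (rep i) := by
  classical
  choose idx hidx using rep_cover
  rw [← Finset.sum_fiberwise Finset.univ idx]
  refine Finset.sum_congr rfl fun i _ => ?_
  rw [show (Finset.univ.filter fun a => idx a = i) =
      Finset.univ.filter fun a : A5 => ∃ x : A5, x * rep i * x⁻¹ = a from ?_]
  · rw [Finset.sum_congr rfl (g := fun _ => F (rep i)) fun a ha => ?_, Finset.sum_const,
      rep_class i]
    obtain ⟨x, hx⟩ := (Finset.mem_filter.mp ha).2
    rw [← hx, hF]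
  · ext a
    simp only [Finset.mem_filter, Finset.mem_univ, true_and]
    constructor
    · rintro rfl; exact hidx a
    · rintro ⟨x, hx⟩
      obtain ⟨y, hy⟩ := hidx a
      exact class_fibre y hy x hx

theorem card_A5 : Nat.card A5 = 60 := by
  rw [Nat.card_eq_fintype_card]; decide +kernel

/-- A primitive fifth root of unity. -/
noncomputable def ze : ℂ := Complex.exp (2 * Real.pi * Complex.I / 5)

theorem ze_prim : IsPrimitiveRoot ze 5 := Complex.isPrimitiveRoot_exp 5 (by norm_num)

theorem ze_sum : 1 + ze + ze ^ 2 + ze ^ 3 + ze ^ 4 = 0 := by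
  have h := ze_prim.geom_sum_eq_zero (by norm_num : 1 < 5)
  simpa [Finset.sum_range_succ] using h

theorem ze_conj : conj ze = ze ^ 4 := by
  have h5 := ze_prim.pow_eq_one
  rw [← Complex.inv_eq_conj (Complex.norm_eq_one_of_pow_eq_one h5 (by norm_num))]
  exact inv_eq_of_mul_eq_one_right (by rw [← pow_succ']; exact h5)

/-- The first golden value. -/
noncomputable def ga : ℂ := 1 + ze + ze ^ 4

/-- The second golden value. -/
noncomputable def gb : ℂ := 1 + ze ^ 2 + ze ^ 3

theorem ga_add : ga + gb = 1 := by unfold ga gb; linear_combination ze_sum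

theorem ga_mul : ga * gb = -1 := by
  have h5 := ze_prim.pow_eq_one
  unfold ga gb
  linear_combination 2 * ze_sum + (ze + ze ^ 2) * h5

theorem ga_sq : ga * ga = ga + 1 := by linear_combination ga * ga_add - ga_mul

theorem gb_sq : gb * gb = gb + 1 := by linear_combination gb * ga_add - ga_mul

theorem ga_ne : ga - gb ≠ 0 := by
  intro h
  have h1 : (ga - gb) * (ga - gb) = 5 := by linear_combination ga_sq + gb_sq + ga_add - 2 * ga_mul
  rw [h] at h1
  norm_num at h1

theorem golden_conj : conj ga = ga ∧ conj gb = gb := by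
  have h5 := ze_prim.pow_eq_one
  constructor <;> simp only [ga, gb, map_add, map_one, map_pow, ze_conj]
  · linear_combination (ze + ze ^ 6 + ze ^ 11) * h5
  · linear_combination (ze ^ 3 + ze ^ 2 + ze ^ 7) * h5

/-- The cyclic subgroup of order five. -/
noncomputable def H5 : Subgroup A5 := Subgroup.zpowers c5

theorem card_H5 : Nat.card H5 = 5 := by
  haveI : Fact (Nat.Prime 5) := ⟨by norm_num⟩
  rw [H5, Nat.card_zpowers, orderOf_eq_prime rep_facts.1 rep_facts.2.1]

theorem mem_H5 {a : A5} : a ∈ H5 ↔ ∃ k : Fin 5, a = c5 ^ (k : ℕ) := by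
  constructor
  · intro h
    obtain ⟨n, rfl⟩ := mem_powers_iff_mem_zpowers.mpr h
    refine ⟨⟨n % 5, Nat.mod_lt _ (by norm_num)⟩, ?_⟩
    show c5 ^ n = c5 ^ (n % 5)
    exact pow_eq_pow_mod n rep_facts.1
  · rintro ⟨k, rfl⟩; exact Subgroup.npow_mem_zpowers _ _

theorem pow_inj : ∀ k l : Fin 5, c5 ^ (k : ℕ) = c5 ^ (l : ℕ) → k = l := by decide +kernel

/-- A linear character of the cyclic subgroup, extended by zero. -/
noncomputable def lamExt (j : ℕ) (a : A5) : ℂ :=
  ∑ k : Fin 5, if a = c5 ^ (k : ℕ) then ze ^ (j * (k : ℕ)) else 0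

theorem lamExt_pow (j : ℕ) (k : Fin 5) : lamExt j (c5 ^ (k : ℕ)) = ze ^ (j * (k : ℕ)) := by
  rw [lamExt, Finset.sum_eq_single k (fun l _ hl => if_neg fun e => hl (pow_inj k l e).symm)
    (fun h => absurd (Finset.mem_univ k) h), if_pos rfl]

/-- The linear character. -/
noncomputable def lamHom (j : ℕ) : H5 →* ℂ where
  toFun h := lamExt j h
  map_one' := by
    have := lamExt_pow j 0
    simpa using this
  map_mul' := by
    rintro ⟨a, ha⟩ ⟨b, hb⟩
    obtain ⟨k, rfl⟩ := mem_H5.mp ha
    obtain ⟨l, rfl⟩ := mem_H5.mp hb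
    show lamExt j (c5 ^ (k : ℕ) * c5 ^ (l : ℕ)) = lamExt j (c5 ^ (k : ℕ)) * lamExt j (c5 ^ (l : ℕ))
    rw [← pow_add, pow_eq_pow_mod _ rep_facts.1, ← Fin.val_add, lamExt_pow, lamExt_pow, lamExt_pow,
      ← pow_add, ← mul_add, Fin.val_add]
    conv_rhs => rw [pow_eq_pow_mod _ ze_prim.pow_eq_one]
    conv_lhs => rw [pow_eq_pow_mod _ ze_prim.pow_eq_one]
    rw [Nat.mul_mod, Nat.mod_mod, ← Nat.mul_mod]

/-- The induced character. -/
noncomputable def indLam (j : ℕ) : A5 → ℂ := indFun H5 fun h => lamExt j h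

theorem isCharacter_indLam (j : ℕ) : IsCharacter A5 (indLam j) := by
  have h := Char.isCharacter_monoidHom (lamHom j).toHomUnits
  exact Char.isCharacter_indFun _ h

/-- How often a conjugate of the representative is the given power. -/
def hitCount (i : Fin 5) (k : Fin 5) : ℕ :=
  (Finset.univ.filter fun x : A5 => x⁻¹ * rep i * x = c5 ^ (k : ℕ)).card

theorem hit_table : ∀ i k : Fin 5, hitCount i k =
    (![![60, 0, 0, 0, 0], ![0, 0, 0, 0, 0], ![0, 0, 0, 0, 0], ![0, 5, 0, 0, 5],
      ![0, 0, 5, 5, 0]] : Fin 5 → Fin 5 → ℕ) i k := by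
  decide +kernel

theorem indLam_rep (j : ℕ) (i : Fin 5) :
    indLam j (rep i) = (5 : ℂ)⁻¹ * ∑ k : Fin 5, (hitCount i k : ℂ) * ze ^ (j * (k : ℕ)) := by
  classical
  have hext : ∀ a : A5, extendByZero H5 (fun h => lamExt j h) a = lamExt j a := by
    intro a
    by_cases ha : a ∈ H5
    · exact Char.extendByZero_mem _ _ ha
    · rw [Char.extendByZero_notMem _ _ ha, lamExt, Finset.sum_eq_zero fun k _ => if_neg fun e =>
        ha (mem_H5.mpr ⟨k, e⟩)]
  simp only [indLam, indFun, card_H5]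
  rw [Finset.sum_congr rfl fun x _ => hext _]
  simp only [lamExt]
  rw [Finset.sum_comm]
  congr 1
  refine Finset.sum_congr rfl fun k _ => ?_
  rw [← Finset.sum_filter, Finset.sum_const, nsmul_eq_mul]
  rfl

/-- Fixed points minus one. -/
noncomputable def fourChar : A5 → ℂ :=
  (fun g : A5 => (Nat.card (MulAction.fixedBy (Fin 5) g) : ℂ)) - fun _ => 1

theorem fix_table : ∀ i : Fin 5, (Finset.univ.filter fun p : Fin 5 => (rep i : Perm (Fin 5)) p = p).card =
    (![5, 1, 2, 0, 0] : Fin 5 → ℕ) i := by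
  decide +kernel

theorem trans_A5 : ∀ p q : Fin 5, ∃ g : A5, (g : Perm (Fin 5)) p = q := by decide +kernel

/-- The virtual characters `1, 3, 3', 4, 5`. -/
noncomputable def tab : Fin 5 → A5 → ℂ :=
  ![fun _ => 1,
    indLam 1 - fourChar - (indLam 1 + indLam 2 - indLam 0 + (fun _ => 1) - fourChar - fourChar),
    indLam 2 - fourChar - (indLam 1 + indLam 2 - indLam 0 + (fun _ => 1) - fourChar - fourChar),
    fourChar,
    indLam 1 + indLam 2 - indLam 0 + (fun _ => 1) - fourChar - fourChar]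

/-- Their values. -/
noncomputable def val : Fin 5 → Fin 5 → ℂ :=
  ![![1, 1, 1, 1, 1], ![3, -1, 0, ga, gb], ![3, -1, 0, gb, ga], ![4, 0, 1, -1, -1],
    ![5, 1, -1, 0, 0]]

theorem fourChar_rep (i : Fin 5) : fourChar (rep i) = ((![5, 1, 2, 0, 0] : Fin 5 → ℕ) i : ℂ) - 1 := by
  rw [fourChar, Pi.sub_apply, ← fix_table i, Nat.card_eq_fintype_card, ← Fintype.card_subtype]
  congr 2

theorem tab_rep (c i : Fin 5) : tab c (rep i) = val c i := by
  have h5 := ze_prim.pow_eq_one
  fin_cases c <;> simp only [tab, val, Fin.zero_eta, Fin.mk_one, Fin.reduceFinMk, Matrix.cons_val,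
      Matrix.cons_val_zero, Matrix.cons_val_one, Pi.sub_apply, Pi.add_apply, indLam_rep, fourChar_rep,
      hit_table] <;>
    fin_cases i <;>
    simp only [Fin.sum_univ_five, Fin.zero_eta, Fin.mk_one, Fin.reduceFinMk, Matrix.cons_val,
      Matrix.cons_val_zero, Matrix.cons_val_one, ga, gb] <;>
    norm_num <;>
    (try ring_nf) <;>
    first
      | linear_combination (0 : ℂ)
      | linear_combination -ze_sum
      | linear_combination ze_sum
      | linear_combination ze ^ 3 * h5
      | linear_combination -ze ^ 3 * h5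
      | linear_combination -ze_sum - ze ^ 3 * h5
      | linear_combination ze_sum + ze ^ 3 * h5
      | linear_combination (-2 : ℂ) * ze_sum + (-ze - ze ^ 3) * h5
      | linear_combination (ze - ze ^ 3) * h5
      | linear_combination ze_sum + ze * h5
      | linear_combination -ze_sum - ze * h5

theorem isGeneralized_tab (c : Fin 5) : IsGeneralizedCharacter A5 (tab c) := by
  haveI : MulAction.IsPretransitive A5 (Fin 5) := ⟨trans_A5⟩
  have h1 : IsGeneralizedCharacter A5 (fun _ : A5 => (1 : ℂ)) :=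
    Char.isGeneralized_of_isCharacter Char.isCharacter_one
  have h4 : IsGeneralizedCharacter A5 fourChar :=
    Char.isGeneralized_sub (Char.isGeneralized_of_isCharacter (Char.isCharacter_perm (Fin 5))) h1
  have hl : ∀ j, IsGeneralizedCharacter A5 (indLam j) := fun j =>
    Char.isGeneralized_of_isCharacter (isCharacter_indLam j)
  have h5 := Char.isGeneralized_sub (Char.isGeneralized_sub
    (Char.isGeneralized_add (Char.isGeneralized_sub (Char.isGeneralized_add (hl 1) (hl 2)) (hl 0)) h1)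
    h4) h4
  fin_cases c
  exacts [h1, Char.isGeneralized_sub (Char.isGeneralized_sub (hl 1) h4) h5,
    Char.isGeneralized_sub (Char.isGeneralized_sub (hl 2) h4) h5, h4, h5]

theorem tab_class (c : Fin 5) (a x : A5) : tab c (x * a * x⁻¹) = tab c a := by
  obtain ⟨φ, ψ, hφ, hψ, e⟩ := isGeneralized_tab c
  rw [e, Pi.sub_apply, Pi.sub_apply, Char.isClassFunction_of_isCharacter hφ a x,
    Char.isClassFunction_of_isCharacter hψ a x]

theorem tab_real (c : Fin 5) (a : A5) : conj (tab c a) = tab c a := by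
  obtain ⟨i, x, rfl⟩ := rep_cover a
  rw [tab_class, tab_rep]
  fin_cases c <;> fin_cases i <;> simp [val, map_ofNat, golden_conj.1, golden_conj.2]

theorem tab_norm (c : Fin 5) : classInner (tab c) (tab c) = 1 := by
  rw [classInner, sum_classes (fun a x => by rw [tab_class]), card_A5, Fin.sum_univ_five]
  simp only [tab_rep]
  fin_cases c <;> simp [val, wt, map_ofNat, golden_conj.1, golden_conj.2, ga_sq, gb_sq] <;> norm_num <;>
    linear_combination (12 / 60 : ℂ) * ga_add

theorem irr_of_pos {G : Type*} [Group G] [Fintype G] {φ : G → ℂ}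
    (hφ : IsGeneralizedCharacter G φ) (h : classInner φ φ = 1) {d : ℕ} (hd : 0 < d)
    (h1 : φ 1 = (d : ℂ)) : IsIrrCharacter G φ := by
  obtain ⟨ε, hε, ψ, hψ⟩ := Char.exists_of_norm_one hφ h
  rcases hε with rfl | rfl
  · rw [hψ, one_smul]; exact ψ.2
  · exfalso
    obtain ⟨k, -, hk⟩ := Char.exists_nat_degree_irr ψ.2
    have h2 := congrFun hψ 1
    rw [h1, Pi.smul_apply, smul_eq_mul, hk, neg_one_mul, eq_neg_iff_add_eq_zero] at h2
    have : d + k = 0 := by exact_mod_cast h2
    omega

/-- The irreducible characters `1, 3, 3', 4, 5`. -/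
noncomputable def irr (c : Fin 5) : IrrCharacter A5 :=
  ⟨tab c, irr_of_pos (isGeneralized_tab c) (tab_norm c) (d := (![1, 3, 3, 4, 5] : Fin 5 → ℕ) c)
    (by fin_cases c <;> decide) (by
      have := tab_rep c 0
      rw [rep_facts.2.2.2.1] at this
      rw [this]
      fin_cases c <;> simp [val])⟩

theorem irr_apply (c : Fin 5) : (irr c : A5 → ℂ) = tab c := rfl

end CfsgLib.JOneOrder
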