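import Cfsg.Agent.Lib.JOneOrder.Local
import Cfsg.Agent.Lib.Char.Table

/-!
# A lower bound for the order from counting pairs of involutions
-/

set_option autoImplicit false
set_option Elab.async false

namespace CfsgLib.JOneOrder

open Cfsg Equiv

variable {G : Type*} [Group G] [Finite G]

namespace Hyp

variable (h : Hyp G)

include h

theorem card_class {x : G} {c : ℕ} (hc : Nat.card (Subgroup.centralizer ({x} : Set G)) = c) :
    c * Nat.card {y : G // IsConj y x} = Nat.card G := by
  rw [Char.card_isConj_eq_index, ← hc, Subgroup.card_mul_index]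

omit [Finite G] in
/-- The count is constant on classes. -/
theorem inv_count_congr {x y : G} (hxy : IsConj x y) :
    Nat.card {s : G // IsConj h.t s ∧ IsConj h.t (s * x)} =
      Nat.card {s : G // IsConj h.t s ∧ IsConj h.t (s * y)} := by
  obtain ⟨c, rfl⟩ := isConj_iff.mp hxy
  have key : ∀ a : G, IsConj h.t a ↔ IsConj h.t ((MulAut.conj c) a) := fun a => by
    have : IsConj a ((MulAut.conj c) a) := isConj_iff.mpr ⟨c, rfl⟩
    exact ⟨fun e => e.trans this, fun e => e.trans this.symm⟩
  refine Nat.card_congr ((MulAut.conj c).toEquiv.subtypeEquiv fun s => ?_)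
  show _ ↔ IsConj h.t ((MulAut.conj c) s) ∧ IsConj h.t ((MulAut.conj c) s * (MulAut.conj c) x)
  rw [← map_mul, ← key, ← key]

variable [IsSimpleGroup G]

theorem lower : 46920 ≤ Nat.card G := by
  classical
  haveI := Fintype.ofFinite G
  set N : G → ℕ := fun x => Nat.card {s : G // IsConj h.t s ∧ IsConj h.t (s * x)} with hN
  set I := Nat.card {s : G // IsConj h.t s} with hI
  -- the total
  have total : ∑ x : G, N x = I * I := by
    rw [hN, hI, ← Nat.card_prod]
    simp only [Nat.card_eq_fintype_card]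
    rw [← Fintype.card_sigma]
    refine Fintype.card_congr
      { toFun := fun p => (⟨p.2.1, p.2.2.1⟩, ⟨p.2.1 * p.1, p.2.2.2⟩)
        invFun := fun q => ⟨q.1.1⁻¹ * q.2.1, q.1.1, q.1.2, by rw [mul_inv_cancel_left]; exact q.2.2⟩
        left_inv := fun p => ?_
        right_inv := fun q => ?_ }
    · exact Sigma.subtype_ext (by simp) rfl
    · exact Prod.ext (Subtype.ext rfl) (Subtype.ext (by simp))
  have cls : ∀ x : G, ∀ c : ℕ, Nat.card (Subgroup.centralizer ({x} : Set G)) = c →
      c * ∑ y ∈ (Finset.univ.filter fun y => IsConj y x), N y = Nat.card G * N x := by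
    intro x c hc
    rw [Finset.sum_congr rfl (g := fun _ => N x) fun y hy => h.inv_count_congr
      (Finset.mem_filter.mp hy).2, Finset.sum_const, smul_eq_mul, ← mul_assoc,
      ← Fintype.card_subtype, ← Nat.card_eq_fintype_card, h.card_class hc]
  have one : N 1 = I := Nat.card_congr (Equiv.subtypeEquivRight fun s => by simp)
  have v : ∀ i : Fin 5, i ≠ 1 → N (h.sec i) = (![30, 0, 6, 10, 10] : Fin 5 → ℕ) i :=
    fun i hi => h.inverting_count hi
  set F : Fin 5 → Finset G := fun i => Finset.univ.filter fun y => IsConj y (h.sec i) with hF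
  set J : Finset (Fin 5) := {0, 2, 3, 4} with hJ
  have hJ1 : ∀ i ∈ J, i ≠ 1 := by decide
  have disj : ∀ i ∈ J, ∀ j ∈ J, i ≠ j → Disjoint (F i) (F j) := fun i hi j hj hij =>
    Finset.disjoint_left.mpr fun y hy hy' => h.sec_not_isConj (hJ1 i hi) (hJ1 j hj) hij
      ((Finset.mem_filter.mp hy).2.symm.trans (Finset.mem_filter.mp hy').2)
  have hnot : (1 : G) ∉ J.biUnion F := by
    rw [Finset.mem_biUnion]
    rintro ⟨i, -, hy⟩
    have e1 : h.sec i = 1 := by
      obtain ⟨c, hc⟩ := isConj_iff.mp (Finset.mem_filter.mp hy).2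
      rw [mul_one, mul_inv_cancel] at hc
      exact hc.symm
    have e2 : ((zb, rep i) : Z2 × A5) = 1 := h.emb_injective (e1.trans (map_one _).symm)
    exact (show zb ≠ 1 by decide) (congrArg Prod.fst e2)
  have le : I + ∑ i ∈ J, ∑ y ∈ F i, N y ≤ I * I := by
    rw [← total, ← Finset.sum_biUnion disj, ← one, ← Finset.sum_insert hnot]
    exact Finset.sum_le_sum_of_subset (Finset.subset_univ _)
  have hIg : 120 * I = Nat.card G := by
    rw [← h.card_class h.card_centralizer, hI]
    congr 1
    exact Nat.card_congr (Equiv.subtypeEquivRight fun _ => ⟨IsConj.symm, IsConj.symm⟩)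
  have fc : ∀ i : Fin 5, i ≠ 1 → ∀ a b : ℕ, (![120, 8, 6, 10, 10] : Fin 5 → ℕ) i = a →
      (![30, 0, 6, 10, 10] : Fin 5 → ℕ) i = b → a * ∑ y ∈ F i, N y = Nat.card G * b := by
    intro i hi a b ea eb
    have e := cls _ _ (h.sec_centralizer hi)
    rwa [v i hi, ea, eb] at e
  have c0 := fc 0 (by decide) 120 30 rfl rfl
  have c2 := fc 2 (by decide) 6 6 rfl rfl
  have c3 := fc 3 (by decide) 10 10 rfl rfl
  have c4 := fc 4 (by decide) 10 10 rfl rfl
  rw [hJ, Finset.sum_insert (by decide), Finset.sum_insert (by decide),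
    Finset.sum_pair (by decide)] at le
  have hg : 0 < Nat.card G := Nat.card_pos
  have big : 391 * I ≤ I * I := by nlinarith
  have : 391 ≤ I := Nat.le_of_mul_le_mul_right big (by omega)
  omega

end Hyp

end CfsgLib.JOneOrder
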