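import Cfsg.Agent.Lib.JOneOrder.Local5

/-!
# The order 189000 does not occur
-/

set_option autoImplicit false
set_option Elab.async false
set_option maxHeartbeats 4000000

namespace CfsgLib.JOneOrder

open Cfsg Equiv

variable {G : Type*} [Group G] [Finite G] [IsSimpleGroup G]

theorem five_root {y : G} (hy : y ^ 5 = 1) {i : ℕ} (hi : ¬ 5 ∣ i) :
    ∃ j : ℕ, (y ^ i) ^ j = y := by
  obtain ⟨j, -, hj⟩ := Nat.exists_mul_mod_eq_one_of_coprime
    ((Nat.Prime.coprime_iff_not_dvd (by norm_num)).mpr hi).symm (by norm_num : 1 < 5)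
  exact ⟨j, by rw [← pow_mul, pow_eq_pow_mod (i * j) hy, hj, pow_one]⟩

theorem sign_alg {a b c : G} (hab : Commute a b) (hac : Commute a c) (hbc : Commute b c)
    (e : a * b⁻¹ * c⁻¹ = (a * b * c)⁻¹) : a * a = 1 := by
  have hz : Commute a (c⁻¹ * b⁻¹) := hac.inv_right.mul_right hab.inv_right
  rw [mul_inv_rev, mul_inv_rev, ← mul_assoc, mul_assoc a, hbc.inv_inv.eq, hz.eq] at e
  exact mul_eq_one_iff_eq_inv.mpr (mul_left_cancel e)

theorem sign_alg3 {a b c : G} (hab : Commute a b) (hac : Commute a c) (hbc : Commute b c)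
    (e : a⁻¹ * b⁻¹ * c = (a * b * c)⁻¹) : c * c = 1 := by
  rw [mul_inv_rev, mul_inv_rev, hab.inv_inv.symm.eq, (hac.inv_inv.symm.mul_right hbc.inv_inv.symm).eq] at e
  exact mul_eq_one_iff_eq_inv.mpr (mul_left_cancel e)

namespace Hyp

variable (h : Hyp G)

/-- Fixed by one involution and inverted by the two others. -/
def Signed (z k e e' : G) : Prop := k * z * k = z ∧ e * z * e = z⁻¹ ∧ e' * z * e' = z⁻¹

include h

theorem exclude (hg : Nat.card G = 189000) : False := by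
  classical
  haveI : Fact (Nat.Prime 5) := ⟨by norm_num⟩
  haveI : Fact (Nat.Prime 2) := ⟨Nat.prime_two⟩
  haveI : Fact (Nat.Prime 3) := ⟨by norm_num⟩
  obtain ⟨P, hB⟩ := h.big_exists hg
  obtain ⟨hu1, hu2⟩ := h.klein_order
  obtain ⟨kt, ku, hu, hw, kwt, ktw, kuw, kwu⟩ := h.klein_mul
  have htm : h.t ∈ h.four := h.mem_four.mpr (Or.inr (Or.inl rfl))
  have hum : h.u2 ∈ h.four := h.mem_four.mpr (Or.inr (Or.inr (Or.inl rfl)))
  have hwm : h.w2 ∈ h.four := h.mem_four.mpr (Or.inr (Or.inr (Or.inr rfl)))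
  have comm_iff : ∀ k z : G, k * k = 1 → (k * z * k = z ↔ Commute k z) := fun k z hk =>
    ⟨fun e => by
      calc k * z = k * z * k * k := by rw [mul_assoc (k * z), hk, mul_one]
        _ = z * k := by rw [e],
     fun e => by rw [e.eq, mul_assoc, hk, mul_one]⟩
  have einv : ∀ e ∈ h.four, e⁻¹ = e := fun e he => inv_eq_of_mul_eq_one_right (h.four_sq he)
  have hxc : ∀ z ∈ (P : Subgroup G), Commute h.x5 z := fun z hz => h.mem_cx.mp (hB.le hz)
  have inv2 : ∀ e ∈ h.four, ∀ z ∈ (P : Subgroup G), e * z * e ∈ (P : Subgroup G) := fun e he z hz => by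
    have := hB.inv e he z hz
    rwa [einv e he] at this
  have podd : ∀ z ∈ (P : Subgroup G), ¬ 2 ∣ orderOf z := fun z hz h2 => by
    have := h2.trans ((P : Subgroup G).orderOf_dvd_natCard hz)
    rw [hB.card] at this
    norm_num at this
  have hxu : h.x5 * h.x5 ≠ 1 := fun e => by
    have := orderOf_dvd_of_pow_eq_one ((pow_two h.x5).trans e)
    rw [h.x5_order] at this
    norm_num at this
  -- lines
  have fixt : ∀ z ∈ (P : Subgroup G), h.t * z * h.t = z → z ∈ Subgroup.zpowers h.x5 := fun z hz e =>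
    h.cent_tx_odd ((comm_iff _ _ h.t_sq).mp e) (hxc z hz) (podd z hz)
  have sgn_t : ∀ z ∈ (P : Subgroup G), h.t * z * h.t = z → Signed z h.t h.u2 h.w2 := by
    intro z hz e
    obtain ⟨k, rfl⟩ := Subgroup.mem_zpowers_iff.mp (fixt z hz e)
    refine ⟨e, ?_, ?_⟩
    · rw [show h.u2 * h.x5 ^ k * h.u2 = h.u2 * h.x5 ^ k * h.u2⁻¹ by rw [einv _ hum], ← conj_zpow,
        einv _ hum, h.u2_inv.1, inv_zpow]
    · rw [show h.w2 * h.x5 ^ k * h.w2 = h.w2 * h.x5 ^ k * h.w2⁻¹ by rw [einv _ hwm], ← conj_zpow,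
        einv _ hwm, h.u2_inv.2.1, inv_zpow]
  have triv_two : ∀ z ∈ (P : Subgroup G), h.t * z * h.t = z → h.u2 * z * h.u2 = z → z = 1 := by
    intro z hz e1 e2
    have h1 := (sgn_t z hz e1).2.1.symm.trans e2
    by_contra hne
    refine podd z hz ?_
    rw [orderOf_eq_prime (show z ^ 2 = 1 by
      rw [pow_two]; exact mul_eq_one_iff_eq_inv.mpr h1.symm) hne]
  have two_uw : ∀ z ∈ (P : Subgroup G), h.u2 * z * h.u2 = z → h.w2 * z * h.w2 = z → z = 1 := by
    intro z hz e1 e2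
    refine triv_two z hz ?_ e1
    calc h.t * z * h.t = (h.u2 * h.w2) * z * (h.w2 * h.u2) := by rw [kuw, kwu]
      _ = h.u2 * (h.w2 * z * h.w2) * h.u2 := by group
      _ = z := by rw [e2, e1]
  have two_tw : ∀ z ∈ (P : Subgroup G), h.t * z * h.t = z → h.w2 * z * h.w2 = z → z = 1 := by
    intro z hz e1 e2
    refine triv_two z hz e1 ?_
    calc h.u2 * z * h.u2 = (h.t * h.w2) * z * (h.w2 * h.t) := by rw [ktw, kwt]
      _ = h.t * (h.w2 * z * h.w2) * h.t := by group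
      _ = z := by rw [e2, e1]
  have line : ∀ k, orderOf k = 2 → ∀ y ∈ (P : Subgroup G), k * y * k = y → y ^ 5 = 1 → y ≠ 1 →
      ∀ z ∈ (P : Subgroup G), k * z * k = z → z ∈ Subgroup.zpowers y := by
    intro k hk y hy hyk hy5 hy1 z hz hzk
    have hksq : k * k = 1 := by rw [← pow_two, ← hk, pow_orderOf_eq_one]
    have mem : ∀ z, z ∈ (P : Subgroup G) → k * z * k = z →
        z ∈ (P : Subgroup G) ⊓ Subgroup.centralizer ({k} : Set G) := fun z hz e =>
      ⟨hz, Subgroup.mem_centralizer_singleton_iff.mpr ((comm_iff _ _ hksq).mp e).symm.eq⟩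
    rw [Subgroup.eq_of_le_of_card_ge (Subgroup.zpowers_le.mpr (mem y hy hyk)) (by
      rw [Nat.card_zpowers, orderOf_eq_prime hy5 hy1]
      exact Nat.le_of_dvd (by norm_num) (h.fix_card hg hk (hB.card ▸ dvd_rfl)))]
    exact mem z hz hzk
  have sgn_gen : ∀ k e, k ∈ h.four → e ∈ h.four → orderOf k = 2 → e * k = k * e →
      (∀ z ∈ (P : Subgroup G), k * z * k = z → e * z * e = z → z = 1) →
      ∀ z ∈ (P : Subgroup G), z ^ 5 = 1 → z ≠ 1 → k * z * k = z → e * z * e = z⁻¹ := by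
    intro k e hk he ho hke htriv z hz hz5 hz1 hzk
    have hfix : k * (e * z * e) * k = e * z * e := by
      calc k * (e * z * e) * k = (k * e) * z * (e * k) := by group
        _ = (e * k) * z * (k * e) := by rw [hke]
        _ = e * (k * z * k) * e := by group
        _ = e * z * e := by rw [hzk]
    obtain ⟨n, hn⟩ := mem_powers_iff_mem_zpowers.mpr (line k ho z hz hzk hz5 hz1 _ (inv2 e he z hz) hfix)
    have hn' : z ^ n = e * z * e := hn
    have hnn : z ^ (n * n) = z ^ 1 := by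
      rw [pow_one, pow_mul, hn', show e * z * e = e * z * e⁻¹ by rw [einv e he], conj_pow, hn',
        einv e he, show e * (e * z * e) * e = (e * e) * z * (e * e) by group, h.four_sq he]
      group
    have hm := pow_eq_pow_iff_modEq.mp hnn
    rw [orderOf_eq_prime hz5 hz1] at hm
    have hm' : n % 5 = 1 ∨ n % 5 = 4 := by
      have hd : ∀ b : Fin 5, (b : ℕ) * b % 5 = 1 → (b : ℕ) = 1 ∨ (b : ℕ) = 4 := by decide
      refine hd ⟨n % 5, Nat.mod_lt _ (by norm_num)⟩ ?_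
      show n % 5 * (n % 5) % 5 = 1
      rw [← Nat.mul_mod]; exact hm
    rw [pow_eq_pow_mod n hz5] at hn'
    rcases hm' with e1 | e1 <;> rw [e1] at hn'
    · rw [pow_one] at hn'
      exact absurd (htriv z hz hzk hn'.symm) hz1
    · rw [← hn']
      exact eq_inv_of_mul_eq_one_left (by rw [← pow_succ]; exact hz5)
  have sgn_u : ∀ z ∈ (P : Subgroup G), z ^ 5 = 1 → z ≠ 1 → h.u2 * z * h.u2 = z →
      Signed z h.u2 h.t h.w2 := fun z hz h5 h1 e =>
    ⟨e, sgn_gen _ _ hum htm hu1 (kt.trans ku.symm) (fun z hz a b => triv_two z hz b a) z hz h5 h1 e,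
      sgn_gen _ _ hum hwm hu1 (kwu.trans kuw.symm) two_uw z hz h5 h1 e⟩
  have sgn_w : ∀ z ∈ (P : Subgroup G), z ^ 5 = 1 → z ≠ 1 → h.w2 * z * h.w2 = z →
      Signed z h.w2 h.t h.u2 := fun z hz h5 h1 e =>
    ⟨e, sgn_gen _ _ hwm htm hu2 (ktw.trans kwt.symm) (fun z hz a b => two_tw z hz b a) z hz h5 h1 e,
      sgn_gen _ _ hwm hum hu2 (kuw.trans kwu.symm) (fun z hz a b => two_uw z hz b a) z hz h5 h1 e⟩
  -- the normalizer
  set N := Subgroup.normalizer ((P : Subgroup G) : Set G) with hN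
  have hEN : ∀ e ∈ h.four, e ∈ N := fun e he => mem_normalizer_of_conj (hB.inv e he)
  have hPN : ∀ z ∈ (P : Subgroup G), z ∈ N := fun z hz => Subgroup.le_normalizer hz
  have hCN : h.cx ≤ N := fun z hz => by
    rcases hB.coset z hz with h1 | h1
    · exact hPN _ h1
    · rw [show z = h.t * (h.t * z) by rw [← mul_assoc, h.t_sq, one_mul]]
      exact mul_mem (hEN _ htm) (hPN _ h1)
  have conjP : ∀ n ∈ N, ∀ z ∈ (P : Subgroup G), n * z * n⁻¹ ∈ (P : Subgroup G) := fun n hn z hz =>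
    (Subgroup.mem_normalizer_iff.mp hn z).mp hz
  -- the conjugates of `x5` in the normalizer
  let cls := {z : G // ∃ n ∈ N, n * h.x5 * n⁻¹ = z}
  have hxN : h.x5 ∈ N := hPN _ hB.mem
  have hw250 : 250 * Nat.card cls = Nat.card N := by
    let xN : N := ⟨h.x5, hxN⟩
    have hc : Nat.card (Subgroup.centralizer ({xN} : Set N)) = 250 := by
      rw [← hB.card_cx, ← Nat.card_congr (Subgroup.subgroupOfEquivOfLe hCN).toEquiv]
      congr 2
      ext z
      rw [Subgroup.mem_centralizer_singleton_iff, Subgroup.mem_subgroupOf, h.mem_cx]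
      exact ⟨fun e => (congrArg Subtype.val e).symm, fun e => Subtype.ext e.eq.symm⟩
    have hcl : Nat.card {y : N // IsConj y xN} = Nat.card cls :=
      Nat.card_congr
        { toFun := fun y => ⟨y.1.1, by
            obtain ⟨c, hc'⟩ := isConj_iff.mp y.2.symm
            exact ⟨c, c.2, congrArg Subtype.val hc'⟩⟩
          invFun := fun z => ⟨⟨z.1, by
            obtain ⟨n, hn, e⟩ := z.2
            exact e ▸ mul_mem (mul_mem hn hxN) (inv_mem hn)⟩, by
            obtain ⟨n, hn, e⟩ := z.2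
            exact (isConj_iff.mpr ⟨⟨n, hn⟩, Subtype.ext e⟩).symm⟩
          left_inv := fun y => rfl
          right_inv := fun z => rfl }
    rw [← hcl, Char.card_isConj_eq_index, ← hc, Subgroup.card_mul_index]
  have clsP : ∀ n ∈ N, n * h.x5 * n⁻¹ ∈ (P : Subgroup G) := fun n hn => conjP n hn _ hB.mem
  have cls5 : ∀ n : G, (n * h.x5 * n⁻¹) ^ 5 = 1 ∧ n * h.x5 * n⁻¹ ≠ 1 := fun n =>
    ⟨by rw [conj_pow, h.x5_pow, mul_one, mul_inv_cancel], fun e => h.x5_ne (conj_eq_one_iff.mp e)⟩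
  have h8 : ¬ 8 ∣ Nat.card N := by
    intro h8
    have hfl : h.four ≤ N := hEN
    obtain ⟨T, hT⟩ := (h.four_pgroup.of_equiv
      (Subgroup.subgroupOfEquivOfLe hfl).symm).exists_le_sylow
    obtain ⟨S, hS⟩ := (T.2.map N.subtype).exists_le_sylow
    have hle : (T : Subgroup N).map N.subtype ≤ h.four := by
      rintro s ⟨a, ha, rfl⟩
      have hmS : ∀ e (he : e ∈ h.four), e ∈ (S : Subgroup G) := fun e he =>
        hS ⟨⟨e, hEN e he⟩, hT he, rfl⟩
      have haS : (a : G) ∈ (S : Subgroup G) := hS ⟨a, ha, rfl⟩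
      have cT : Commute h.t (a : G) := h.comm_sq (hmS _ htm) haS
      refine h.norm_four cT (h.comm_sq (hmS _ hum) haS) (fixt _ (clsP _ a.2) ?_)
      calc h.t * ((a : G) * h.x5 * (a : G)⁻¹) * h.t
          = (h.t * a) * h.x5 * ((a : G)⁻¹ * h.t⁻¹) := by rw [h.t_inv]; group
        _ = ((a : G) * h.t) * h.x5 * ((a : G)⁻¹ * h.t⁻¹) := by rw [cT.eq]
        _ = (a : G) * h.t * h.x5 * (h.t⁻¹ * (a : G)⁻¹) := by
            rw [(cT.symm.inv_inv).eq]
        _ = (a : G) * (h.t * h.x5 * h.t⁻¹) * (a : G)⁻¹ := by group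
        _ = (a : G) * h.x5 * (a : G)⁻¹ := by rw [h.t_inv, h.u2_inv.2.2]
    have h1 := Subgroup.card_dvd_of_le hle
    rw [Subgroup.card_map_of_injective Subtype.val_injective, T.card_eq_multiplicity, h.four_card] at h1
    have := (pow_dvd_pow 2 ((Nat.prime_two.pow_dvd_iff_le_factorization Nat.card_pos.ne').mp
      (show 2 ^ 3 ∣ Nat.card N from h8))).trans h1
    norm_num at this
  have hcls : Nat.card cls = 6 := by
    have hle : Nat.card cls < 125 := by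
      have hlt : Nat.card cls ≤ Nat.card {z : (P : Subgroup G) // z ≠ 1} :=
        Nat.card_le_card_of_injective (fun z => ⟨⟨z.1, by
          obtain ⟨n, hn, e⟩ := z.2; exact e ▸ clsP n hn⟩, fun e1 => by
          obtain ⟨n, hn, e⟩ := z.2
          exact (cls5 n).2 (e.trans (congrArg Subtype.val e1))⟩)
          fun a b e => Subtype.ext (congrArg (fun w => ((w.1 : (P : Subgroup G)) : G)) e)
      haveI := Fintype.ofFinite (P : Subgroup G)
      have : Nat.card {z : (P : Subgroup G) // z ≠ 1} = 124 := by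
        rw [Nat.card_eq_fintype_card, Fintype.card_subtype_compl, Fintype.card_subtype_eq,
          ← Nat.card_eq_fintype_card, hB.card]
      omega
    have h2 : 2 ∣ Nat.card cls := by
      have h4 := Subgroup.card_dvd_of_le (show h.four ≤ N from hEN)
      rw [h.four_card, ← hw250] at h4
      omega
    have hidx := card_sylow_modEq_one 5 G
    rw [P.card_eq_index_normalizer] at hidx
    change N.index ≡ 1 [MOD 5] at hidx
    have hmul := N.card_mul_index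
    rw [hg, ← hw250] at hmul
    have hdv : 250 * Nat.card cls ∣ 189000 := ⟨N.index, hmul.symm⟩
    have hdv' : Nat.card cls ∣ 756 :=
      Nat.dvd_of_mul_dvd_mul_left (by norm_num : 0 < 250) (show 250 * Nat.card cls ∣ 250 * 756 from hdv)
    have hix : N.index = 756 / Nat.card cls := by
      obtain ⟨c, hc⟩ := hdv'
      have hpos : 0 < Nat.card cls := by
        rcases Nat.eq_zero_or_pos (Nat.card cls) with e | e
        · rw [e] at hc; omega
        · exact e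
      rw [hc, Nat.mul_div_cancel_left _ hpos]
      have : 250 * Nat.card cls * N.index = 250 * Nat.card cls * c := by
        rw [hmul, mul_assoc, ← hc]
        norm_num
      exact Nat.eq_of_mul_eq_mul_left (by positivity) this
    rw [hix] at hidx
    have key : ∀ w : Fin 125, (w : ℕ) ∣ 756 → 2 ∣ (w : ℕ) → ¬ 8 ∣ 250 * (w : ℕ) →
        756 / (w : ℕ) % 5 = 1 → (w : ℕ) = 6 := by decide +kernel
    exact key ⟨_, hle⟩ hdv' h2 (hw250 ▸ h8) hidx
  have hN1500 : Nat.card N = 1500 := by rw [← hw250, hcls]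
  -- the group `P` is abelian
  obtain ⟨n₀, hn₀, hn₀x⟩ : ∃ n ∈ N, n * h.x5 * n⁻¹ ∉ Subgroup.zpowers h.x5 := by
    by_contra hne
    push_neg at hne
    have hlt : Nat.card cls ≤ Nat.card (Subgroup.zpowers h.x5) :=
      Nat.card_le_card_of_injective (fun z => ⟨z.1, by
        obtain ⟨n, hn, e⟩ := z.2; exact e ▸ hne n hn⟩)
        fun a b e => Subtype.ext (congrArg (fun w : Subgroup.zpowers h.x5 => (w : G)) e)
    rw [hcls, Nat.card_zpowers, h.x5_order] at hlt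
    omega
  have hab : ∀ c ∈ (P : Subgroup G), ∀ d ∈ (P : Subgroup G), Commute c d :=
    (five_cube hB.card).2 _ hB.mem _ (clsP _ hn₀) h.x5_order hn₀x hxc fun c hc => by
      have := (hxc (n₀⁻¹ * c * n₀) (by
        simpa [mul_assoc] using conjP _ (inv_mem hn₀) c hc)).map (MulAut.conj n₀).toMonoidHom
      simpa [MulAut.conj_apply, mul_assoc] using this
  haveI hPcomm : IsMulCommutative (P : Subgroup G) :=
    ⟨⟨fun a b => Subtype.ext (hab _ a.2 _ b.2).eq⟩⟩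
  -- conjugates on the other lines
  have other : ∀ k, orderOf k = 2 → ∀ y ∈ (P : Subgroup G), Commute k y → y ≠ 1 → y ^ 5 = 1 →
      ∃ n ∈ N, k * (n * h.x5 * n⁻¹) * k = n * h.x5 * n⁻¹ := by
    intro k hk y hy hyk hy1 hy5
    obtain ⟨b, i, hi, hb⟩ := h.five_class hk hyk hy5 hy1
    obtain ⟨n, hn, hn'⟩ := P.conj_eq_normalizer_conj_of_mem (h.x5 ^ i) b⁻¹ (pow_mem hB.mem i)
      (by rw [inv_inv, hb]; exact hy)
    rw [inv_inv, hb] at hn'
    refine ⟨n⁻¹, inv_mem hn, ?_⟩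
    obtain ⟨j, hj⟩ := five_root (cls5 n⁻¹).1 hi
    have hksq : k * k = 1 := by rw [← pow_two, ← hk, pow_orderOf_eq_one]
    refine (comm_iff _ _ hksq).mpr (hj ▸ Commute.pow_right ?_ j)
    rw [conj_pow, inv_inv, ← hn']
    exact hyk
  obtain ⟨yu, yuP, yuc, yu1, yu5⟩ := hB.fix_u
  obtain ⟨yw, ywP, ywc, yw1, yw5⟩ := hB.fix_w
  obtain ⟨n₂, hn₂, hx2⟩ := other _ hu1 yu yuP yuc yu1 yu5
  obtain ⟨n₃, hn₃, hx3⟩ := other _ hu2 yw ywP ywc yw1 yw5
  -- six conjugates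
  have inv_cls : ∀ a : G, (∃ n ∈ N, n * h.x5 * n⁻¹ = a) → ∀ e ∈ h.four, e * a * e = a⁻¹ →
      ∃ n ∈ N, n * h.x5 * n⁻¹ = a⁻¹ := by
    rintro a ⟨n, hn, rfl⟩ e he e1
    refine ⟨e * n, mul_mem (hEN e he) hn, ?_⟩
    rw [← e1, mul_inv_rev, einv e he]
    group
  have six : ∀ a b c : G, (∃ n ∈ N, n * h.x5 * n⁻¹ = a) → (∃ n ∈ N, n * h.x5 * n⁻¹ = b) →
      (∃ n ∈ N, n * h.x5 * n⁻¹ = c) → h.t * a * h.t = a → h.u2 * b * h.u2 = b →
      h.w2 * c * h.w2 = c → ∀ z, (∃ n ∈ N, n * h.x5 * n⁻¹ = z) →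
      z = a ∨ z = a⁻¹ ∨ z = b ∨ z = b⁻¹ ∨ z = c ∨ z = c⁻¹ := by
    intro a b c ca cb cc fa fb fc z cz
    have pr : ∀ r, (∃ n ∈ N, n * h.x5 * n⁻¹ = r) →
        r ∈ (P : Subgroup G) ∧ r ^ 5 = 1 ∧ r ≠ 1 := by
      rintro r ⟨n, hn, rfl⟩
      exact ⟨clsP n hn, cls5 n⟩
    obtain ⟨aP, a5, a1⟩ := pr a ca
    obtain ⟨bP, b5, b1⟩ := pr b cb
    obtain ⟨cP, c5', c1⟩ := pr c cc
    have sa := sgn_t a aP fa
    have sb := sgn_u b bP b5 b1 fb
    have sc := sgn_w c cP c5' c1 fc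
    have ne_inv : ∀ r : G, r ^ 5 = 1 → r ≠ 1 → r ≠ r⁻¹ := fun r r5 r1 e => by
      have h2 : r ^ 2 = 1 := by rw [pow_two]; exact mul_eq_one_iff_eq_inv.mpr e
      have := Nat.dvd_gcd (orderOf_dvd_of_pow_eq_one r5) (orderOf_dvd_of_pow_eq_one h2)
      norm_num at this
      exact r1 this
    have finv : ∀ k r : G, k * k = 1 → k * r * k = r → k * r⁻¹ * k = r⁻¹ := fun k r hk e =>
      (comm_iff _ _ hk).mpr ((comm_iff _ _ hk).mp e).inv_right
    have nab : a ≠ b ∧ a ≠ b⁻¹ := ⟨fun e => a1 (triv_two a aP fa (e ▸ fb)),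
      fun e => a1 (triv_two a aP fa (e ▸ finv _ _ hu fb))⟩
    have nac : a ≠ c ∧ a ≠ c⁻¹ := ⟨fun e => a1 (two_tw a aP fa (e ▸ fc)),
      fun e => a1 (two_tw a aP fa (e ▸ finv _ _ hw fc))⟩
    have nbc : b ≠ c ∧ b ≠ c⁻¹ := ⟨fun e => b1 (two_uw b bP fb (e ▸ fc)),
      fun e => b1 (two_uw b bP fb (e ▸ finv _ _ hw fc))⟩
    have na := ne_inv a a5 a1
    have nb := ne_inv b b5 b1
    have nc := ne_inv c c5' c1
    haveI := Fintype.ofFinite G
    let F : Finset G := {a, a⁻¹, b, b⁻¹, c, c⁻¹}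
    have hF : F.card = 6 := by
      simp [F, Finset.card_insert_of_notMem, nab.1, nab.2, nac.1, nac.2, nbc.1, nbc.2, na, nb, nc,
        inv_eq_iff_eq_inv]
    let W : Finset G := Finset.univ.filter fun r => ∃ n ∈ N, n * h.x5 * n⁻¹ = r
    have hW : W.card = 6 := by
      rw [← hcls, Nat.card_eq_fintype_card, Fintype.card_subtype]
    have hFW : F ⊆ W := by
      intro r hr
      refine Finset.mem_filter.mpr ⟨Finset.mem_univ _, ?_⟩
      simp only [F, Finset.mem_insert, Finset.mem_singleton] at hr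
      rcases hr with rfl | rfl | rfl | rfl | rfl | rfl
      exacts [ca, inv_cls _ ca _ hum sa.2.1, cb, inv_cls _ cb _ htm sb.2.1, cc,
        inv_cls _ cc _ htm sc.2.1]
    have hzF : z ∈ F := by
      rw [Finset.eq_of_subset_of_card_le hFW (by rw [hW, hF])]
      exact Finset.mem_filter.mpr ⟨Finset.mem_univ _, cz⟩
    simpa [F] using hzF
  have hx1 : ∃ n ∈ N, n * h.x5 * n⁻¹ = h.x5 := ⟨1, one_mem _, by group⟩
  have fx : h.t * h.x5 * h.t = h.x5 := h.u2_inv.2.2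
  -- every four group element keeps or inverts a conjugate
  have keep : ∀ n ∈ N, ∀ e ∈ h.four,
      e * (n * h.x5 * n⁻¹) * e = n * h.x5 * n⁻¹ ∨ e * (n * h.x5 * n⁻¹) * e = (n * h.x5 * n⁻¹)⁻¹ := by
    intro n hn e he
    obtain ⟨r5, r1⟩ := cls5 n
    have rP := clsP n hn
    have hz := six _ _ _ hx1 ⟨n₂, hn₂, rfl⟩ ⟨n₃, hn₃, rfl⟩ fx hx2 hx3 _ ⟨n, hn, rfl⟩
    generalize n * h.x5 * n⁻¹ = r at hz r5 r1 rP ⊢
    have finv : ∀ k s : G, k * k = 1 → k * s * k = s → k * s⁻¹ * k = s⁻¹ := fun k s hk e =>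
      (comm_iff _ _ hk).mpr ((comm_iff _ _ hk).mp e).inv_right
    obtain ⟨k, hk, hs⟩ : ∃ k, (k = h.t ∨ k = h.u2 ∨ k = h.w2) ∧ k * r * k = r := by
      rcases hz with rfl | rfl | rfl | rfl | rfl | rfl
      exacts [⟨_, Or.inl rfl, fx⟩, ⟨_, Or.inl rfl, finv _ _ h.t_sq fx⟩,
        ⟨_, Or.inr (Or.inl rfl), hx2⟩, ⟨_, Or.inr (Or.inl rfl), finv _ _ hu hx2⟩,
        ⟨_, Or.inr (Or.inr rfl), hx3⟩, ⟨_, Or.inr (Or.inr rfl), finv _ _ hw hx3⟩]
    rcases h.mem_four.mp he with rfl | rfl | rfl | rfl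
    · exact Or.inl (by group)
    all_goals rcases hk with rfl | rfl | rfl
    · exact Or.inl hs
    · exact Or.inr (sgn_u r rP r5 r1 hs).2.1
    · exact Or.inr (sgn_w r rP r5 r1 hs).2.1
    · exact Or.inr (sgn_t r rP hs).2.1
    · exact Or.inl hs
    · exact Or.inr (sgn_w r rP r5 r1 hs).2.2
    · exact Or.inr (sgn_t r rP hs).2.2
    · exact Or.inr (sgn_u r rP r5 r1 hs).2.2
    · exact Or.inl hs
  -- the stabiliser of the line of `x5`
  let M : Subgroup G :=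
    { carrier := {n | n ∈ N ∧ (n * h.x5 * n⁻¹ = h.x5 ∨ n * h.x5 * n⁻¹ = h.x5⁻¹)}
      one_mem' := ⟨one_mem _, Or.inl (by group)⟩
      mul_mem' := by
        rintro a b ⟨ha, ha'⟩ ⟨hb, hb'⟩
        refine ⟨mul_mem ha hb, ?_⟩
        rw [show a * b * h.x5 * (a * b)⁻¹ = a * (b * h.x5 * b⁻¹) * a⁻¹ by group]
        rcases hb' with e | e <;> rw [e]
        · exact ha'
        · rw [← conj_inv]
          rcases ha' with e' | e' <;> rw [e']
          · exact Or.inr rfl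
          · exact Or.inl (inv_inv _)
      inv_mem' := by
        rintro a ⟨ha, ha'⟩
        refine ⟨inv_mem ha, ?_⟩
        rcases ha' with e | e
        · left
          calc a⁻¹ * h.x5 * a⁻¹⁻¹ = a⁻¹ * (a * h.x5 * a⁻¹) * a := by rw [e]; group
            _ = h.x5 := by group
        · right
          calc a⁻¹ * h.x5 * a⁻¹⁻¹ = a⁻¹ * (a * h.x5 * a⁻¹)⁻¹ * a := by rw [e, inv_inv]; group
            _ = h.x5⁻¹ := by group }
  have hEM : h.four ≤ M := fun e he => ⟨hEN e he, h.cx_four he⟩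
  let A : Subgroup G := h.four.map (MulAut.conj n₀⁻¹).toMonoidHom
  have hAM : A ≤ M := by
    rintro _ ⟨e, he, rfl⟩
    refine ⟨?_, ?_⟩
    · show n₀⁻¹ * e * n₀⁻¹⁻¹ ∈ N
      exact mul_mem (mul_mem (inv_mem hn₀) (hEN e he)) (inv_mem (inv_mem hn₀))
    · show n₀⁻¹ * e * n₀⁻¹⁻¹ * h.x5 * (n₀⁻¹ * e * n₀⁻¹⁻¹)⁻¹ = h.x5 ∨ _ = h.x5⁻¹
      have e1 : n₀⁻¹ * e * n₀⁻¹⁻¹ * h.x5 * (n₀⁻¹ * e * n₀⁻¹⁻¹)⁻¹ =
          n₀⁻¹ * (e * (n₀ * h.x5 * n₀⁻¹) * e) * n₀ := by
        conv_rhs => rw [show e * (n₀ * h.x5 * n₀⁻¹) * e = e * (n₀ * h.x5 * n₀⁻¹) * e⁻¹ by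
          rw [einv e he]]
        group
      show n₀⁻¹ * e * n₀⁻¹⁻¹ * h.x5 * (n₀⁻¹ * e * n₀⁻¹⁻¹)⁻¹ = h.x5 ∨
        n₀⁻¹ * e * n₀⁻¹⁻¹ * h.x5 * (n₀⁻¹ * e * n₀⁻¹⁻¹)⁻¹ = h.x5⁻¹
      rw [e1]
      rcases keep n₀ hn₀ e he with e2 | e2 <;> rw [e2]
      · exact Or.inl (by group)
      · exact Or.inr (by group)
  have hAc : Nat.card A = 4 := by
    rw [Subgroup.card_map_of_injective (MulAut.conj n₀⁻¹).injective, h.four_card]
  have hf2 : 2 ^ (Nat.card M).factorization 2 = 4 := by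
    have h1 : 4 ∣ Nat.card M := h.four_card ▸ Subgroup.card_dvd_of_le hEM
    have h2 : ¬ 8 ∣ Nat.card M := fun h2 =>
      h8 (h2.trans (Subgroup.card_dvd_of_le (fun n hn => hn.1)))
    have a := (Nat.prime_two.pow_dvd_iff_le_factorization Nat.card_pos.ne').mp
      (show 2 ^ 2 ∣ Nat.card M from h1)
    have b : ¬ 3 ≤ (Nat.card M).factorization 2 := fun hh =>
      h2 ((Nat.prime_two.pow_dvd_iff_le_factorization Nat.card_pos.ne').mpr hh)
    rw [show (Nat.card M).factorization 2 = 2 by omega]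
    norm_num
  have cE : Nat.card (h.four.subgroupOf M) = 2 ^ (Nat.card M).factorization 2 := by
    rw [hf2, Nat.card_congr (Subgroup.subgroupOfEquivOfLe hEM).toEquiv, h.four_card]
  have cA : Nat.card (A.subgroupOf M) = 2 ^ (Nat.card M).factorization 2 := by
    rw [hf2, Nat.card_congr (Subgroup.subgroupOfEquivOfLe hAM).toEquiv, hAc]
  obtain ⟨mm, hmm⟩ := MulAction.exists_smul_eq M (Sylow.ofCard _ cE) (Sylow.ofCard _ cA)
  obtain ⟨r, hr⟩ : ∃ r, r = n₀ * (mm : G) := ⟨_, rfl⟩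
  have hrN : r ∈ N := hr ▸ mul_mem hn₀ mm.2.1
  have hrE : ∀ e ∈ h.four, r * e * r⁻¹ ∈ h.four := by
    intro e he
    have h1 : MulAut.conj mm (⟨e, hEM he⟩ : M) ∈ A.subgroupOf M := by
      have h2 : MulAut.conj mm (⟨e, hEM he⟩ : M) ∈
          ((mm • Sylow.ofCard _ cE : Sylow 2 M) : Subgroup M) := by
        rw [Sylow.coe_subgroup_smul]
        exact Subgroup.smul_mem_pointwise_smul _ _ _
          (show (⟨e, hEM he⟩ : M) ∈ h.four.subgroupOf M from he)
      rw [hmm] at h2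
      exact h2
    obtain ⟨e', he', e1⟩ := Subgroup.mem_subgroupOf.mp h1
    have e2 : n₀⁻¹ * e' * n₀⁻¹⁻¹ = (mm : G) * e * (mm : G)⁻¹ := e1
    have : r * e * r⁻¹ = e' := by
      calc r * e * r⁻¹ = n₀ * ((mm : G) * e * (mm : G)⁻¹) * n₀⁻¹ := by rw [hr]; group
        _ = e' := by rw [← e2]; group
    exact this ▸ he'
  have hrM : r ∉ M := fun hm => hn₀x (by
    have h1 : n₀ ∈ M := by
      rw [show n₀ = r * (mm : G)⁻¹ by rw [hr]; group]
      exact mul_mem hm (inv_mem mm.2)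
    rcases h1.2 with e | e <;> rw [e]
    · exact Subgroup.mem_zpowers _
    · exact inv_mem (Subgroup.mem_zpowers _))
  -- an element of order three
  let R : Subgroup G := N ⊓ Subgroup.normalizer (h.four : Set G)
  have hR5 : ¬ 5 ∣ Nat.card R := by
    intro h5
    obtain ⟨p, hp⟩ := exists_prime_orderOf_dvd_card' 5 h5
    rw [← orderOf_injective R.subtype Subtype.val_injective] at hp
    have hpP : (p : G) ∈ (P : Subgroup G) := mem_of_normalizer P p.2.1 (k := 1) (by rw [pow_one]; exact hp)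
    have key : ∀ e ∈ h.four, e * (p : G) * e = p := by
      intro e he
      have h1 : (p : G) * e * (p : G)⁻¹ * e ∈ h.four :=
        mul_mem ((Subgroup.mem_normalizer_iff.mp p.2.2 e).mp he) he
      have h2 : (p : G) * e * (p : G)⁻¹ * e ∈ (P : Subgroup G) := by
        rw [show (p : G) * e * (p : G)⁻¹ * e = p * (e * (p : G)⁻¹ * e) by group]
        exact mul_mem hpP (inv2 e he _ (inv_mem hpP))
      have h3 : (p : G) * e * (p : G)⁻¹ * e = 1 := by
        by_contra hne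
        refine podd _ h2 ?_
        rw [orderOf_eq_prime (show ((p : G) * e * (p : G)⁻¹ * e) ^ 2 = 1 by
          rw [pow_two]; exact h.four_sq h1) hne]
      refine (comm_iff _ _ (h.four_sq he)).mpr ?_
      rw [mul_eq_one_iff_eq_inv, einv e he, mul_inv_eq_iff_eq_mul] at h3
      exact h3.symm
    have := triv_two _ hpP (key _ htm) (key _ hum)
    rw [show R.subtype p = 1 from this, orderOf_one] at hp
    norm_num at hp
  have hEsub : h.four ≤ R := fun e he => ⟨hEN e he, Subgroup.le_normalizer he⟩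
  have hrR : r ∈ R := ⟨hrN, mem_normalizer_of_conj hrE⟩
  have h3R : 3 ∣ Nat.card R := by
    by_contra h3
    have h1 : Nat.card R ∣ 1500 := hN1500 ▸ Subgroup.card_dvd_of_le inf_le_left
    have c5 : Nat.Coprime (Nat.card R) (5 ^ 3) :=
      ((Nat.Prime.coprime_iff_not_dvd (by norm_num)).mpr hR5).symm.pow_right 3
    have c3 : Nat.Coprime (Nat.card R) 3 :=
      ((Nat.Prime.coprime_iff_not_dvd (by norm_num)).mpr h3).symm
    have h4 : Nat.card R ∣ 4 := (c5.mul_right c3).dvd_of_dvd_mul_right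
      (show Nat.card R ∣ 4 * (5 ^ 3 * 3) by norm_num; exact h1)
    have he : h.four = R := Subgroup.eq_of_le_of_card_ge hEsub
      (by rw [h.four_card]; exact Nat.le_of_dvd (by norm_num) h4)
    exact hrM (hEM (he ▸ hrR))
  obtain ⟨ρ', hρ'⟩ := exists_prime_orderOf_dvd_card' 3 h3R
  rw [← orderOf_injective R.subtype Subtype.val_injective] at hρ'
  obtain ⟨ρ, hρ⟩ : ∃ ρ, ρ = (ρ' : G) := ⟨_, rfl⟩
  have hρN : ρ ∈ N := hρ ▸ ρ'.2.1
  have hρE : ρ ∈ Subgroup.normalizer (h.four : Set G) := hρ ▸ ρ'.2.2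
  have hρ3 : orderOf ρ = 3 := hρ ▸ hρ'
  have hρp : ρ ^ 3 = 1 := by rw [← hρ3, pow_orderOf_eq_one]
  have hρ1 : ρ ≠ 1 := fun e => by rw [e, orderOf_one] at hρ3; norm_num at hρ3
  have hρx : ρ * h.x5 * ρ⁻¹ ∉ Subgroup.zpowers h.x5 := by
    intro hm
    obtain ⟨j, hj⟩ := mem_powers_iff_mem_zpowers.mpr hm
    have hj' : h.x5 ^ j = ρ * h.x5 * ρ⁻¹ := hj
    have h3 : h.x5 ^ (j * j * j) = h.x5 ^ 1 := by
      rw [pow_mul, pow_mul, hj', conj_pow, hj', conj_pow, conj_pow, hj', pow_one]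
      calc ρ * (ρ * (ρ * h.x5 * ρ⁻¹) * ρ⁻¹) * ρ⁻¹ = ρ ^ 3 * h.x5 * (ρ ^ 3)⁻¹ := by
            simp only [pow_succ, pow_zero, one_mul, mul_inv_rev, mul_assoc]
        _ = h.x5 := by rw [hρp]; group
    have hm3 := pow_eq_pow_iff_modEq.mp h3
    rw [h.x5_order] at hm3
    have hd : ∀ b : Fin 5, (b : ℕ) * b * b % 5 = 1 → (b : ℕ) = 1 := by decide
    have hj1 : j % 5 = 1 := by
      refine hd ⟨j % 5, Nat.mod_lt _ (by norm_num)⟩ ?_
      show j % 5 * (j % 5) * (j % 5) % 5 = 1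
      rw [show j * j * j ≡ 1 [MOD 5] ↔ j * j * j % 5 = 1 from Iff.rfl] at hm3
      rw [← hm3, Nat.mul_mod (j * j) j, Nat.mul_mod j j]
      simp [Nat.mul_mod, Nat.mod_mod]
    rw [pow_eq_pow_mod j h.x5_pow, hj1, pow_one, eq_mul_inv_iff_mul_eq] at hj'
    have := h.cx.orderOf_dvd_natCard (h.mem_cx.mpr (show Commute h.x5 ρ from hj'))
    rw [hρ3, hB.card_cx] at this
    norm_num at this
  -- an involution commuting with `ρ`
  obtain ⟨s, hsE, hs1, hsρ⟩ : ∃ s ∈ Subgroup.centralizer ({h.t, h.u2} : Set G),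
      s ≠ 1 ∧ Commute ρ s := by
    let C₈ : Subgroup G := Subgroup.centralizer ({h.t, h.u2} : Set G)
    have hn : ρ ∈ Subgroup.normalizer (C₈ : Set G) := mem_normalizer_of_conj fun z hz => by
      rw [Subgroup.mem_centralizer_iff] at hz
      have hcz : ∀ e ∈ h.four, Commute e z := by
        intro e he
        have ct : Commute h.t z := hz _ (Or.inl rfl)
        have cu : Commute h.u2 z := hz _ (Or.inr rfl)
        rcases h.mem_four.mp he with rfl | rfl | rfl | rfl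
        exacts [Commute.one_left z, ct, cu, kt ▸ ct.mul_left cu]
      rw [Subgroup.mem_centralizer_iff]
      intro e he
      have hef : e ∈ h.four := by
        rcases he with rfl | rfl
        exacts [htm, hum]
      have h1 := (hcz _ ((Subgroup.mem_normalizer_iff.mp (inv_mem hρE) e).mp hef)).map
        (MulAut.conj ρ).toMonoidHom
      simpa [MulAut.conj_apply, mul_assoc] using h1.eq
    let φ : Subgroup.zpowers ρ →* MulAut C₈ :=
      C₈.normalizerMonoidHom.comp (Subgroup.inclusion (Subgroup.zpowers_le.mpr hn))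
    letI : MulAction (Subgroup.zpowers ρ) C₈ := MulAction.compHom _ φ
    have hp : IsPGroup 3 (Subgroup.zpowers ρ) :=
      IsPGroup.of_card (n := 1) (by rw [Nat.card_zpowers, hρ3, pow_one])
    have hmod := hp.card_modEq_card_fixedPoints C₈
    rw [show Nat.card C₈ = 8 from h.cent_four_card] at hmod
    by_contra hne
    push_neg at hne
    have hsub : ∀ s : MulAction.fixedPoints (Subgroup.zpowers ρ) C₈, (s.1 : G) = 1 := by
      rintro ⟨⟨s, hs⟩, hfix⟩
      by_contra hs1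
      refine hne s hs hs1 ?_
      have h1 : φ ⟨ρ, Subgroup.mem_zpowers ρ⟩ ⟨s, hs⟩ = (⟨s, hs⟩ : C₈) :=
        hfix ⟨ρ, Subgroup.mem_zpowers ρ⟩
      have h2 : ρ * s * ρ⁻¹ = s := congrArg Subtype.val h1
      exact mul_inv_eq_iff_eq_mul.mp h2
    haveI : Subsingleton (MulAction.fixedPoints (Subgroup.zpowers ρ) C₈) :=
      ⟨fun a b => Subtype.ext (Subtype.ext ((hsub a).trans (hsub b).symm))⟩
    have : Nat.card (MulAction.fixedPoints (Subgroup.zpowers ρ) C₈) ≤ 1 :=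
      Finite.card_le_one_iff_subsingleton.mpr inferInstance
    unfold Nat.ModEq at hmod
    omega
  have hss : s * s = 1 := h.cent_four_sq
    (Subgroup.mem_centralizer_iff.mp hsE _ (Or.inl rfl))
    (Subgroup.mem_centralizer_iff.mp hsE _ (Or.inr rfl))
  have hso : orderOf s = 2 := orderOf_eq_prime (by rw [pow_two]; exact hss) hs1
  -- the three lines
  obtain ⟨y, hy⟩ : ∃ y, y = ρ * h.x5 * ρ⁻¹ := ⟨_, rfl⟩
  obtain ⟨z, hz⟩ : ∃ z, z = ρ * y * ρ⁻¹ := ⟨_, rfl⟩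
  have cy : ∃ n ∈ N, n * h.x5 * n⁻¹ = y := ⟨ρ, hρN, hy.symm⟩
  have cz : ∃ n ∈ N, n * h.x5 * n⁻¹ = z := ⟨ρ * ρ, mul_mem hρN hρN, by rw [hz, hy]; group⟩
  have yP : y ∈ (P : Subgroup G) := hy ▸ clsP ρ hρN
  have zP : z ∈ (P : Subgroup G) := hz ▸ conjP ρ hρN y yP
  have y5 : y ^ 5 = 1 ∧ y ≠ 1 := hy ▸ cls5 ρ
  have hzρ : ρ * z * ρ⁻¹ = h.x5 := by
    rw [hz, hy]
    calc ρ * (ρ * (ρ * h.x5 * ρ⁻¹) * ρ⁻¹) * ρ⁻¹ = ρ ^ 3 * h.x5 * (ρ ^ 3)⁻¹ := by
            simp only [pow_succ, pow_zero, one_mul, mul_inv_rev, mul_assoc]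
      _ = h.x5 := by rw [hρp]; group
  have z5 : z ^ 5 = 1 ∧ z ≠ 1 := by
    obtain ⟨n, -, e⟩ := cz
    exact e ▸ cls5 n
  have yne : h.t * y * h.t ≠ y := fun e => hρx (hy ▸ fixt y yP e)
  have zne : h.t * z * h.t ≠ z := fun e => by
    obtain ⟨j, hj⟩ := Subgroup.mem_zpowers_iff.mp (fixt z zP e)
    refine hρx ?_
    obtain ⟨i, hi⟩ := five_root h.x5_pow (i := (j % 5).toNat) (by
      intro hd
      have h0 : j % 5 = 0 := by omega
      refine z5.2 ?_
      rw [← hj, ← zpow_mod_orderOf, h.x5_order, Nat.cast_ofNat, h0, zpow_zero])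
    have hzj : z = h.x5 ^ (j % 5).toNat := by
      rw [← hj, ← zpow_mod_orderOf, h.x5_order, Nat.cast_ofNat, ← zpow_natCast,
        Int.toNat_of_nonneg (by omega)]
    have h1 : h.x5 ^ (j % 5).toNat * 1 = z := by rw [mul_one, hzj]
    have h2 : (ρ * h.x5 * ρ⁻¹) ^ (j % 5).toNat = h.x5 := by rw [conj_pow, ← hzj, hzρ]
    obtain ⟨i', hi'⟩ := five_root (cls5 ρ).1 (i := (j % 5).toNat) (by
      intro hd
      rw [orderOf_dvd_iff_pow_eq_one.mp (by rwa [orderOf_eq_prime (cls5 ρ).1 (cls5 ρ).2])] at h2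
      exact h.x5_ne h2.symm)
    rw [← hi', h2]
    exact Subgroup.npow_mem_zpowers _ _
  have fixed_one : ∀ r, (∃ n ∈ N, n * h.x5 * n⁻¹ = r) → h.t * r * h.t ≠ r →
      h.u2 * r * h.u2 = r ∨ h.w2 * r * h.w2 = r := by
    intro r hr hne
    rcases six _ _ _ hx1 ⟨n₂, hn₂, rfl⟩ ⟨n₃, hn₃, rfl⟩ fx hx2 hx3 r hr with
      rfl | rfl | rfl | rfl | rfl | rfl
    · exact absurd fx hne
    · exact absurd ((comm_iff _ _ h.t_sq).mpr ((comm_iff _ _ h.t_sq).mp fx).inv_right) hne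
    · exact Or.inl hx2
    · exact Or.inl ((comm_iff _ _ hu).mpr ((comm_iff _ _ hu).mp hx2).inv_right)
    · exact Or.inr hx3
    · exact Or.inr ((comm_iff _ _ hw).mpr ((comm_iff _ _ hw).mp hx3).inv_right)
  have nline : ∀ k, orderOf k = 2 → k * y * k = y → k * z * k = z → False := by
    intro k hk e1 e2
    obtain ⟨j, hj⟩ := mem_powers_iff_mem_zpowers.mpr (line k hk y yP e1 y5.1 y5.2 z zP e2)
    have hj' : y ^ j = z := hj
    refine hρx ?_
    have h1 : h.x5 ^ j = y := by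
      have h2 : ρ * h.x5 ^ j * ρ⁻¹ = ρ * y * ρ⁻¹ := by
        rw [← conj_pow, ← hy, hj', hz]
      exact mul_left_cancel (mul_right_cancel h2)
    rw [← hy, ← h1]
    exact Subgroup.npow_mem_zpowers _ _
  obtain ⟨cyz, fy, fz⟩ : ∃ _ : Commute y z,
      (∃ k k', orderOf k = 2 ∧ k ∈ h.four ∧ k' ∈ h.four ∧ ({k, k'} : Set G) = {h.u2, h.w2} ∧
        k * y * k = y ∧ k' * z * k' = z) ∧ True := by
    refine ⟨hab _ yP _ zP, ?_, trivial⟩
    rcases fixed_one y cy yne with e1 | e1 <;> rcases fixed_one z cz zne with e2 | e2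
    · exact (nline _ hu1 e1 e2).elim
    · exact ⟨_, _, hu1, hum, hwm, rfl, e1, e2⟩
    · exact ⟨_, _, hu2, hwm, hum, Set.pair_comm _ _, e1, e2⟩
    · exact (nline _ hu2 e1 e2).elim
  obtain ⟨d, hd⟩ : ∃ d, d = h.x5 * y * z := ⟨_, rfl⟩
  have cxy : Commute h.x5 y := hxc y yP
  have cxz : Commute h.x5 z := hxc z zP
  have dP : d ∈ (P : Subgroup G) := hd ▸ mul_mem (mul_mem hB.mem yP) zP
  have d5 : d ^ 5 = 1 := by
    rw [hd, (cxz.mul_left cyz).mul_pow, cxy.mul_pow, h.x5_pow, y5.1, z5.1, one_mul, one_mul]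
  have dρ : Commute ρ d := by
    have h1 : ρ * d * ρ⁻¹ = d := by
      calc ρ * d * ρ⁻¹ = (ρ * h.x5 * ρ⁻¹) * (ρ * y * ρ⁻¹) * (ρ * z * ρ⁻¹) := by rw [hd]; group
        _ = y * z * h.x5 := by rw [← hy, ← hz, hzρ]
        _ = d := by rw [hd, mul_assoc h.x5, (cxy.mul_right cxz).eq]
    exact mul_inv_eq_iff_eq_mul.mp h1
  -- the signs
  have esd : ∀ e ∈ h.four, e * d * e ≠ d⁻¹ := by
    obtain ⟨k, k', hko, hk, hk', hpair, ey, ez⟩ := fy
    have sx := sgn_t h.x5 hB.mem fx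
    have sy : Signed y k h.t k' ∧ Signed z k' h.t k := by
      rcases Set.pair_eq_pair_iff.mp hpair with ⟨rfl, rfl⟩ | ⟨rfl, rfl⟩
      · exact ⟨sgn_u y yP y5.1 y5.2 ey, sgn_w z zP z5.1 z5.2 ez⟩
      · exact ⟨sgn_w y yP y5.1 y5.2 ey, sgn_u z zP z5.1 z5.2 ez⟩
    obtain ⟨⟨y1, y2, y3⟩, ⟨z1, z2, z3⟩⟩ := sy
    have xk : k * h.x5 * k = h.x5⁻¹ ∧ k' * h.x5 * k' = h.x5⁻¹ := by
      rcases Set.pair_eq_pair_iff.mp hpair with ⟨rfl, rfl⟩ | ⟨rfl, rfl⟩
      exacts [⟨sx.2.1, sx.2.2⟩, ⟨sx.2.2, sx.2.1⟩]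
    have spl : ∀ e ∈ h.four, e * d * e = (e * h.x5 * e) * (e * y * e) * (e * z * e) := by
      intro e he
      rw [hd]
      calc e * (h.x5 * y * z) * e = (e * h.x5 * e⁻¹) * (e * y * e⁻¹) * (e * z * e⁻¹) * (e * e) := by group
        _ = _ := by rw [h.four_sq he, mul_one, einv e he]
    have base : h.t * d * h.t ≠ d⁻¹ := fun e => by
      rw [spl _ htm, sx.1, y2, z2, hd] at e
      exact hxu (sign_alg cxy cxz cyz e)
    have sq5 : ∀ r : G, r ^ 5 = 1 → r ≠ 1 → r * r ≠ 1 := fun r r5 r1 e => by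
      have := Nat.dvd_gcd (orderOf_dvd_of_pow_eq_one r5)
        (orderOf_dvd_of_pow_eq_one ((pow_two r).trans e))
      norm_num at this
      exact r1 this
    intro e he e1
    rcases h.mem_four.mp he with rfl | rfl | rfl | rfl
    · rw [one_mul, mul_one] at e1
      have hd1 : d = 1 := by
        by_contra hne
        exact sq5 d d5 hne (mul_eq_one_iff_eq_inv.mpr e1)
      refine base ?_
      rw [hd1, mul_one, h.t_sq, inv_one]
    · exact base e1
    all_goals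
      have hek : h.u2 = k ∨ h.u2 = k' := by
        rcases Set.pair_eq_pair_iff.mp hpair with ⟨rfl, rfl⟩ | ⟨rfl, rfl⟩
        exacts [Or.inl rfl, Or.inr rfl]
      have hwk : h.w2 = k ∨ h.w2 = k' := by
        rcases Set.pair_eq_pair_iff.mp hpair with ⟨rfl, rfl⟩ | ⟨rfl, rfl⟩
        exacts [Or.inr rfl, Or.inl rfl]
    · rw [spl _ hum] at e1
      rcases hek with e2 | e2 <;> rw [e2] at e1
      · rw [xk.1, y1, z3, ← cxy.inv_left.eq.symm, hd, cxy.eq] at e1
        exact sq5 y y5.1 y5.2 (sign_alg cxy.symm cyz cxz e1)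
      · rw [xk.2, y3, z1, hd] at e1
        exact sq5 z z5.1 z5.2 (sign_alg3 cxy cxz cyz e1)
    · rw [spl _ hwm] at e1
      rcases hwk with e2 | e2 <;> rw [e2] at e1
      · rw [xk.1, y1, z3, ← cxy.inv_left.eq.symm, hd, cxy.eq] at e1
        exact sq5 y y5.1 y5.2 (sign_alg cxy.symm cyz cxz e1)
      · rw [xk.2, y3, z1, hd] at e1
        exact sq5 z z5.1 z5.2 (sign_alg3 cxy cxz cyz e1)
  have d1 : d ≠ 1 := fun e => esd 1 (one_mem _) (by rw [e]; group)
  -- `d` is inverted by `s`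
  have hsd : s * d * s = d⁻¹ := by
    obtain ⟨m, hm⟩ : ∃ m, m = s * d⁻¹ * s * d := ⟨_, rfl⟩
    have cm : Commute ρ m := hm ▸ ((hsρ.mul_right dρ.inv_right).mul_right hsρ).mul_right dρ
    have hsm : s * m * s = m⁻¹ := by
      rw [hm, mul_inv_rev, mul_inv_rev, mul_inv_rev, inv_inv, inv_eq_of_mul_eq_one_right hss]
      calc s * (s * d⁻¹ * s * d) * s = (s * s) * d⁻¹ * (s * d * s) := by group
        _ = d⁻¹ * (s * (d * s)) := by rw [hss]; group
    have hodd : ¬ 2 ∣ orderOf m := by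
      rintro ⟨q, hq⟩
      have hqpos : 0 < q := by
        have := orderOf_pos m
        omega
      have hiv : orderOf (m ^ q) = 2 := by
        rw [orderOf_pow' m hqpos.ne', Nat.gcd_eq_right ⟨2, by rw [hq, mul_comm]⟩, hq,
          Nat.mul_div_cancel _ hqpos]
      have hinv : (m ^ q)⁻¹ = m ^ q := by
        refine inv_eq_of_mul_eq_one_right ?_
        rw [← pow_two, ← hiv, pow_orderOf_eq_one]
      have hsq : Commute s (m ^ q) := by
        refine (comm_iff _ _ hss).mp ?_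
        rw [show s * m ^ q * s = s * m ^ q * s⁻¹ by rw [inv_eq_of_mul_eq_one_right hss], ← conj_pow,
          inv_eq_of_mul_eq_one_right hss, hsm, inv_pow, hinv]
      obtain ⟨k, hk | hk⟩ := h.three_cent' hso hsρ.symm hρp hρ1 hsq (cm.pow_right q).symm
      · have h2 : (m ^ q) ^ 3 = 1 := by rw [hk, ← pow_mul, mul_comm, pow_mul, hρp, one_pow]
        have := orderOf_dvd_of_pow_eq_one h2
        rw [hiv] at this
        norm_num at this
      · have h2 : ρ ^ k * ρ ^ k = 1 := by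
          have : (m ^ q) * (m ^ q) = 1 := by rw [← pow_two, ← hiv, pow_orderOf_eq_one]
          rw [hk, ← pow_two, (hsρ.symm.pow_right k).mul_pow, pow_two, hss, one_mul, pow_two] at this
          exact this
        have h3 : ρ ^ k = 1 := by
          calc ρ ^ k = (ρ ^ k * ρ ^ k) ^ 2 := by
                rw [← pow_two, ← pow_mul, ← pow_mul, pow_eq_pow_mod (k * (2 * 2)) hρp,
                  pow_eq_pow_mod k hρp]
                congr 1
                omega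
            _ = 1 := by rw [h2, one_pow]
        rw [h3, mul_one] at hk
        have hcm : Commute s m := hk ▸ ((Commute.refl m).pow_left q)
        have h4 := (comm_iff _ _ hss).mpr hcm
        rw [hsm] at h4
        have hm2 : m ^ 2 = 1 := by
          rw [pow_two]; exact mul_eq_one_iff_eq_inv.mpr h4.symm
        have hms : m = s := by
          have h5 := orderOf_dvd_of_pow_eq_one hm2
          rw [hq] at h5
          have : q = 1 := Nat.eq_one_of_dvd_one (Nat.dvd_of_mul_dvd_mul_left two_pos h5)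
          rwa [this, pow_one] at hk
        rw [hm] at hms
        have h6 : d⁻¹ * s * d = 1 := by
          rw [mul_assoc s d⁻¹, mul_assoc s (d⁻¹ * s)] at hms
          exact (mul_eq_left (a := s)).mp hms
        exact hs1 (by
          calc s = d * (d⁻¹ * s * d) * d⁻¹ := by group
            _ = 1 := by rw [h6]; group)
    obtain ⟨q, hq⟩ : ∃ q, orderOf m + 1 = 2 * q := ⟨(orderOf m + 1) / 2, by omega⟩
    obtain ⟨i, hi⟩ : ∃ i, i = m ^ q := ⟨_, rfl⟩
    have hi2 : i * i = m := by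
      rw [hi, ← pow_add, ← two_mul, ← hq, pow_succ, pow_orderOf_eq_one, one_mul]
    have hsi : s * i * s = i⁻¹ := by
      rw [hi, show s * m ^ q * s = s * m ^ q * s⁻¹ by rw [inv_eq_of_mul_eq_one_right hss], ← conj_pow,
        inv_eq_of_mul_eq_one_right hss, hsm, inv_pow]
    have hsds : s * d * s = d * m⁻¹ := by
      rw [hm, mul_inv_rev, mul_inv_rev, mul_inv_rev, inv_inv, inv_eq_of_mul_eq_one_right hss]
      group
    obtain ⟨c, hc⟩ : ∃ c, c = d * i⁻¹ := ⟨_, rfl⟩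
    have hsii : s * i⁻¹ * s = i := by
      calc s * i⁻¹ * s = (s * i * s)⁻¹ := by
            rw [mul_inv_rev, mul_inv_rev, inv_eq_of_mul_eq_one_right hss, mul_assoc]
        _ = i := by rw [hsi, inv_inv]
    have hsc : Commute s c := by
      refine (comm_iff _ _ hss).mp ?_
      calc s * c * s = (s * d * s) * (s * i⁻¹ * s) := by
            rw [hc]
            simp only [mul_assoc]
            rw [← mul_assoc s s, hss, one_mul]
        _ = c := by rw [hsds, hsii, hc, ← hi2, mul_inv_rev]; group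
    have hcρ : Commute c ρ := hc ▸ hi ▸ (dρ.mul_right (cm.pow_right q).inv_right).symm
    have hdc : d = c * i := by rw [hc]; group
    obtain ⟨k, hk | hk⟩ := h.three_cent' hso hsρ.symm hρp hρ1 hsc hcρ
    · have hci : Commute c i := hk ▸ hi ▸ ((cm.pow_left k).pow_right q)
      have hcd : Commute c d := hdc ▸ (Commute.refl c).mul_right hci
      have e1 : s * d * s = c * c * d⁻¹ := by
        calc s * d * s = c * i⁻¹ := by rw [hsds, hc, ← hi2, mul_inv_rev]; group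
          _ = c * (d⁻¹ * c) := by rw [hc]; group
          _ = c * c * d⁻¹ := by rw [hcd.inv_right.symm.eq, ← mul_assoc]
      have e2 : (c * c) ^ 5 = 1 := by
        have h1 : (s * d * s) ^ 5 = 1 := by
          rw [show s * d * s = s * d * s⁻¹ by rw [inv_eq_of_mul_eq_one_right hss], conj_pow, d5]
          group
        rwa [e1, (hcd.mul_left hcd).inv_right.mul_pow, inv_pow, d5, inv_one, mul_one] at h1
      have e3 : c * c = 1 := by
        rw [hk, ← pow_add, ← pow_mul] at e2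
        rw [hk, ← pow_add]
        rw [pow_eq_pow_mod _ hρp] at e2 ⊢
        have := orderOf_dvd_of_pow_eq_one e2
        rw [hρ3] at this
        rw [show (k + k) % 3 = 0 by omega, pow_zero]
      rw [e1, e3, one_mul]
    · exfalso
      have hki : Commute (ρ ^ k) i := hi ▸ ((cm.pow_left k).pow_right q)
      have hksi : Commute (ρ ^ k) (s * i) := (hsρ.pow_left k).mul_right hki
      have hdk : d = ρ ^ k * (s * i) := by
        rw [hdc, hk, ← (hsρ.pow_left k).eq, mul_assoc]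
      have hsi2 : (s * i) * (s * i) = 1 := by
        rw [← mul_assoc, hsi, inv_mul_cancel]
      have h1 : d ^ 2 = ρ ^ (2 * k) := by
        rw [hdk, hksi.mul_pow, pow_two (s * i), hsi2, mul_one, ← pow_mul, mul_comm]
      have h2 : (ρ ^ (2 * k)) ^ 5 = 1 := by rw [← h1, ← pow_mul, mul_comm, pow_mul, d5, one_pow]
      rw [← pow_mul, pow_eq_pow_mod _ hρp] at h2
      have h3 := orderOf_dvd_of_pow_eq_one h2
      rw [hρ3] at h3
      have h4 : d ^ 2 = 1 := by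
        rw [h1, pow_eq_pow_mod _ hρp, show 2 * k % 3 = 0 by omega, pow_zero]
      refine d1 ?_
      calc d = d ^ 5 * (d ^ 2)⁻¹ * (d ^ 2)⁻¹ := by group
        _ = 1 := by rw [d5, h4]; group
  -- Burnside
  obtain ⟨n, hn, hn'⟩ := P.conj_eq_normalizer_conj_of_mem d s dP (by
    rw [inv_eq_of_mul_eq_one_right hss, hsd]; exact inv_mem dP)
  rw [inv_eq_of_mul_eq_one_right hss, hsd] at hn'
  have hsix : ∀ r, (∃ n ∈ N, n * h.x5 * n⁻¹ = r) →
      r = h.x5 ∨ r = h.x5⁻¹ ∨ r = y ∨ r = y⁻¹ ∨ r = z ∨ r = z⁻¹ := by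
    intro r hr
    obtain ⟨k, k', -, -, -, hpair, ey, ez⟩ := fy
    rcases Set.pair_eq_pair_iff.mp hpair with ⟨rfl, rfl⟩ | ⟨rfl, rfl⟩
    · exact six _ _ _ hx1 cy cz fx ey ez r hr
    · rcases six _ _ _ hx1 cz cy fx ez ey r hr with e | e | e | e | e | e <;> simp [e]
  obtain ⟨j, hj⟩ : ∃ j : ℕ, ρ ^ j * h.x5 * (ρ ^ j)⁻¹ = n⁻¹ * h.x5 * n ∨
      ρ ^ j * h.x5⁻¹ * (ρ ^ j)⁻¹ = n⁻¹ * h.x5 * n := by
    have hy' : ρ ^ 1 * h.x5 * (ρ ^ 1)⁻¹ = y := by rw [pow_one, hy]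
    have hz' : ρ ^ 2 * h.x5 * (ρ ^ 2)⁻¹ = z := by
      rw [hz, hy, pow_two, mul_inv_rev]; simp only [mul_assoc]
    rcases hsix (n⁻¹ * h.x5 * n) ⟨n⁻¹, inv_mem hn, by rw [inv_inv]⟩ with e | e | e | e | e | e
    · exact ⟨0, Or.inl (by rw [e]; simp)⟩
    · exact ⟨0, Or.inr (by rw [e]; simp)⟩
    · exact ⟨1, Or.inl (by rw [e, hy'])⟩
    · exact ⟨1, Or.inr (by rw [← conj_inv, e, hy'])⟩
    · exact ⟨2, Or.inl (by rw [e, hz'])⟩
    · exact ⟨2, Or.inr (by rw [← conj_inv, e, hz'])⟩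
  obtain ⟨f, hf⟩ : ∃ f, f = (ρ ^ j)⁻¹ * n⁻¹ := ⟨_, rfl⟩
  have hfx : f * h.x5 * f⁻¹ = h.x5 ∨ f * h.x5 * f⁻¹ = h.x5⁻¹ := by
    rw [show f * h.x5 * f⁻¹ = (ρ ^ j)⁻¹ * (n⁻¹ * h.x5 * n) * ρ ^ j by rw [hf]; group]
    rcases hj with e | e <;> rw [← e]
    · exact Or.inl (by group)
    · exact Or.inr (by group)
  obtain ⟨e₀, he₀, hc₀⟩ : ∃ e ∈ h.four, e * f ∈ h.cx := by
    rcases hfx with e | e
    · exact ⟨1, one_mem _, h.mem_cx.mpr (by
        rw [one_mul]; exact (mul_inv_eq_iff_eq_mul.mp e).symm)⟩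
    · refine ⟨h.u2, hum, h.mem_cx.mpr (mul_inv_eq_iff_eq_mul.mp ?_).symm⟩
      rw [mul_inv_rev, einv _ hum, show h.u2 * f * h.x5 * (f⁻¹ * h.u2) =
        h.u2 * (f * h.x5 * f⁻¹) * h.u2 by group, e]
      calc h.u2 * h.x5⁻¹ * h.u2 = (h.u2 * h.x5 * h.u2)⁻¹ := by
            rw [mul_inv_rev, mul_inv_rev, einv _ hum, mul_assoc]
        _ = h.x5 := by rw [h.u2_inv.1, inv_inv]
  obtain ⟨e₁, he₁, p, hp, hfp⟩ : ∃ e ∈ h.four, ∃ p ∈ (P : Subgroup G), f = e * p := by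
    rcases hB.coset _ hc₀ with h1 | h1
    · exact ⟨e₀, he₀, _, h1, by rw [← mul_assoc, h.four_sq he₀, one_mul]⟩
    · refine ⟨e₀ * h.t, mul_mem he₀ htm, _, h1, ?_⟩
      rw [show e₀ * h.t * (h.t * (e₀ * f)) = e₀ * (h.t * h.t) * e₀ * f by group, h.t_sq, mul_one,
        h.four_sq he₀, one_mul]
  refine esd e₁ he₁ ?_
  have h1 : (ρ ^ j) * (e₁ * d * e₁) * (ρ ^ j)⁻¹ = d⁻¹ := by
    rw [hn', show n⁻¹ = ρ ^ j * f by rw [hf]; group, hfp,
      show n = (ρ ^ j * (e₁ * p))⁻¹ by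
        rw [← hfp, hf, ← mul_assoc, mul_inv_cancel, one_mul, inv_inv]]
    have hpd : p * d * p⁻¹ = d := by rw [(hab p hp d dP).eq, mul_inv_cancel_right]
    calc ρ ^ j * (e₁ * d * e₁) * (ρ ^ j)⁻¹
        = ρ ^ j * (e₁ * (p * d * p⁻¹) * e₁⁻¹) * (ρ ^ j)⁻¹ := by rw [hpd, einv e₁ he₁]
      _ = _ := by group
  calc e₁ * d * e₁ = (ρ ^ j)⁻¹ * ((ρ ^ j) * (e₁ * d * e₁) * (ρ ^ j)⁻¹) * ρ ^ j := by group
    _ = (ρ ^ j)⁻¹ * d⁻¹ * ρ ^ j := by rw [h1]
    _ = d⁻¹ := by rw [mul_assoc, ((dρ.pow_left j).inv_right).symm.eq, inv_mul_cancel_left]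

end Hyp

end CfsgLib.JOneOrder
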