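import Cfsg.Agent.Lib.JOneOrder.Alt5
import Cfsg.Prelude.Def_SporadicB

/-!
# Finite facts about `A5` used for the exclusion of the order 189000
-/

set_option autoImplicit false
set_option Elab.async false

namespace CfsgLib.JOneOrder

open Cfsg Equiv

/-- An involution inverting `c5`. -/
def v5 : A5 := twoSwap 1 4 2 3

theorem v5_facts : v5 * c5 * v5 = c5⁻¹ ∧ v5 * v5 = 1 ∧ v5 ≠ 1 ∧ v5⁻¹ = v5 := by decide +kernel

theorem cent_c5 : ∀ a : A5, a * c5 = c5 * a → ∃ k : Fin 5, a = c5 ^ (k : ℕ) := by decide +kernel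

theorem five_conj : ∀ a : A5, a ^ 5 = 1 → a ≠ 1 →
    ∃ b : A5, b * c5 * b⁻¹ = a ∨ b * c5 ^ 2 * b⁻¹ = a := by decide +kernel

theorem five_three : ∀ a b : A5, a ^ 5 = 1 → b ^ 3 = 1 → a ≠ 1 → b ≠ 1 →
    ∃ i : Fin 5, a ^ (i : ℕ) * b * (a ^ (i : ℕ) * b) = 1 ∧ a ^ (i : ℕ) * b ≠ 1 := by decide +kernel

theorem three_cent : ∀ a b : A5, b ^ 3 = 1 → b ≠ 1 → a * b = b * a →
    ∃ k : Fin 3, a = b ^ (k : ℕ) := by decide +kernel

theorem norm_cent : ∀ a : A5, a * v5 = v5 * a →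
    (∃ k : Fin 5, a * c5 * a⁻¹ = c5 ^ (k : ℕ)) → a = 1 ∨ a = v5 := by decide +kernel

theorem cent_v5 : ((Finset.univ : Finset A5).filter fun a => a * v5 = v5 * a).card = 4 ∧
    ∀ a : A5, a * v5 = v5 * a → a * a = 1 := by decide +kernel

theorem two_part : ∀ a : A5, a ^ 30 = 1 ∧ (a ^ 15 = 1 → a ^ 3 = 1 ∨ a ^ 5 = 1) := by decide +kernel

end CfsgLib.JOneOrder
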