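import Cfsg.Agent.Lib.JOneOrder.Count
import Cfsg.Agent.Lib.JOneOrder.Facts

/-!
# A four group inverting an element of order five
-/

set_option autoImplicit false
set_option Elab.async false

namespace CfsgLib.JOneOrder

open Cfsg Equiv

namespace Hyp

variable {G : Type*} [Group G] (h : Hyp G)

/-- The element of order five. -/
def x5 : G := h.emb (1, c5)

/-- An involution inverting `x5`. -/
def u2 : G := h.emb (1, v5)

/-- The product of the two involutions. -/
def w2 : G := h.emb (zb, v5)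

/-- The four group. -/
def four : Subgroup G :=
  Subgroup.map h.emb
    { carrier := {q : Z2 × A5 | q.2 = 1 ∨ q.2 = v5}
      one_mem' := Or.inl rfl
      mul_mem' := by
        rintro ⟨-, a⟩ ⟨-, b⟩ (rfl | rfl) (rfl | rfl)
        · exact Or.inl (one_mul _)
        · exact Or.inr (one_mul _)
        · exact Or.inr (mul_one _)
        · exact Or.inl v5_facts.2.1
      inv_mem' := by
        rintro ⟨-, a⟩ (rfl | rfl)
        · exact Or.inl inv_one
        · exact Or.inr v5_facts.2.2.2 }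

theorem zb_facts : zb * zb = 1 ∧ zb ≠ 1 ∧ zb⁻¹ = zb ∧ ∀ z : Z2, z = 1 ∨ z = zb := by decide

include h

theorem mem_four {y : G} : y ∈ h.four ↔ y = 1 ∨ y = h.t ∨ y = h.u2 ∨ y = h.w2 := by
  constructor
  · rintro ⟨⟨z, a⟩, hq | hq, rfl⟩ <;> obtain rfl : a = _ := hq <;>
      rcases zb_facts.2.2.2 z with rfl | rfl
    · exact Or.inl (map_one _)
    · exact Or.inr (Or.inl h.emb_zb)
    · exact Or.inr (Or.inr (Or.inl rfl))
    · exact Or.inr (Or.inr (Or.inr rfl))
  · rintro (rfl | rfl | rfl | rfl)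
    · exact one_mem _
    · exact ⟨(zb, 1), Or.inl rfl, h.emb_zb⟩
    · exact ⟨(1, v5), Or.inr rfl, rfl⟩
    · exact ⟨(zb, v5), Or.inr rfl, rfl⟩

theorem four_card : Nat.card h.four = 4 := by
  rw [four, Subgroup.card_map_of_injective h.emb_injective]
  have key : Fintype.card {q : Z2 × A5 // q.2 = 1 ∨ q.2 = v5} = 4 := by
    rw [Fintype.card_congr (show {q : Z2 × A5 // q.2 = 1 ∨ q.2 = v5} ≃
        Z2 × {a : A5 // a = 1 ∨ a = v5} from
      { toFun := fun q => (q.1.1, ⟨q.1.2, q.2⟩)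
        invFun := fun q => ⟨(q.1, q.2.1), q.2.2⟩
        left_inv := fun q => rfl
        right_inv := fun q => rfl }), Fintype.card_prod, Fintype.card_subtype]
    rw [show (Finset.univ.filter fun a : A5 => a = 1 ∨ a = v5) = {1, v5} by ext; simp,
      Finset.card_pair v5_facts.2.2.1.symm]
    rfl
  rw [← key, ← Nat.card_eq_fintype_card]
  rfl

theorem klein_mul : h.t * h.u2 = h.w2 ∧ h.u2 * h.t = h.w2 ∧ h.u2 * h.u2 = 1 ∧ h.w2 * h.w2 = 1 ∧
    h.w2 * h.t = h.u2 ∧ h.t * h.w2 = h.u2 ∧ h.u2 * h.w2 = h.t ∧ h.w2 * h.u2 = h.t := by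
  obtain ⟨hz, -, -, -⟩ := zb_facts
  simp only [u2, w2, ← h.emb_zb, ← map_mul, Prod.mk_mul_mk, one_mul, mul_one, hz, v5_facts.2.1,
    Prod.mk_one_one, map_one, and_self]

theorem klein_ne : h.u2 ≠ 1 ∧ h.w2 ≠ 1 := by
  constructor <;> intro e
  · exact v5_facts.2.2.1 (congrArg Prod.snd (h.emb_injective (e.trans (map_one _).symm)))
  · exact zb_facts.2.1 (congrArg Prod.fst (h.emb_injective (e.trans (map_one _).symm)))

theorem klein_order : orderOf h.u2 = 2 ∧ orderOf h.w2 = 2 :=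
  ⟨orderOf_eq_prime (by rw [pow_two]; exact h.klein_mul.2.2.1) h.klein_ne.1,
    orderOf_eq_prime (by rw [pow_two]; exact h.klein_mul.2.2.2.1) h.klein_ne.2⟩

theorem x5_order : orderOf h.x5 = 5 := by
  haveI : Fact (Nat.Prime 5) := ⟨by norm_num⟩
  rw [x5, orderOf_injective _ h.emb_injective]
  refine orderOf_eq_prime (Prod.ext (by simp) (by simpa using rep_facts.1)) fun e => ?_
  exact rep_facts.2.1 (congrArg Prod.snd e)

theorem x5_comm : Commute h.t h.x5 := h.emb_comm _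

theorem x5_pow : h.x5 ^ 5 = 1 := by rw [← h.x5_order, pow_orderOf_eq_one]

theorem x5_ne : h.x5 ≠ 1 := fun e => by
  have := h.x5_order
  rw [e, orderOf_one] at this
  norm_num at this

theorem u2_inv : h.u2 * h.x5 * h.u2 = h.x5⁻¹ ∧ h.w2 * h.x5 * h.w2 = h.x5⁻¹ ∧
    h.t * h.x5 * h.t = h.x5 := by
  refine ⟨?_, ?_, ?_⟩
  · simp only [u2, x5, ← map_mul, ← map_inv, Prod.mk_mul_mk, Prod.inv_mk, one_mul, inv_one,
      v5_facts.1]
  · simp only [w2, x5, ← map_mul, ← map_inv, Prod.mk_mul_mk, Prod.inv_mk, mul_one, inv_one,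
      zb_facts.1, v5_facts.1]
  · rw [h.x5_comm.eq, mul_assoc, h.t_sq, mul_one]

/-- The centralizer of `t` and `x5`. -/
theorem cent_tx {y : G} (h1 : Commute h.t y) (h2 : Commute h.x5 y) :
    ∃ k : ℕ, y = h.x5 ^ k ∨ y = h.t * h.x5 ^ k := by
  obtain ⟨⟨z, a⟩, rfl⟩ := h.exists_emb h1
  have e : (c5 : A5) * a = a * c5 := by
    have := h2.eq
    rw [x5, ← map_mul, ← map_mul] at this
    exact congrArg Prod.snd (h.emb_injective this)
  obtain ⟨k, rfl⟩ := cent_c5 a e.symm
  refine ⟨k, ?_⟩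
  rw [x5, ← map_pow, Prod.pow_mk, one_pow, ← h.emb_zb, ← map_mul, Prod.mk_mul_mk, mul_one, one_mul]
  rcases zb_facts.2.2.2 z with rfl | rfl
  · exact Or.inl rfl
  · exact Or.inr rfl

theorem cent_tx_odd {y : G} (h1 : Commute h.t y) (h2 : Commute h.x5 y) (ho : ¬ 2 ∣ orderOf y) :
    y ∈ Subgroup.zpowers h.x5 := by
  obtain ⟨k, rfl | rfl⟩ := h.cent_tx h1 h2
  · exact Subgroup.npow_mem_zpowers _ _
  · exfalso
    refine ho ?_
    rw [Commute.orderOf_mul_eq_mul_orderOf_of_coprime (h.x5_comm.pow_right _), h.t_order]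
    · exact dvd_mul_right _ _
    · rw [h.t_order]
      refine Nat.Coprime.coprime_dvd_right (orderOf_pow_dvd k) ?_
      rw [h.x5_order]; norm_num

/-- What normalises `⟨x5⟩` and centralises the four group lies in it. -/
theorem norm_four [Finite G] {s : G} (h1 : Commute h.t s) (h2 : Commute h.u2 s)
    (h3 : s * h.x5 * s⁻¹ ∈ Subgroup.zpowers h.x5) : s ∈ h.four := by
  obtain ⟨⟨z, a⟩, rfl⟩ := h.exists_emb h1
  obtain ⟨n, hn⟩ := mem_powers_iff_mem_zpowers.mpr h3
  refine ⟨(z, a), ?_, rfl⟩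
  refine norm_cent a ?_ ⟨⟨n % 5, Nat.mod_lt _ (by norm_num)⟩, ?_⟩
  · have := h2.eq
    rw [u2, ← map_mul, ← map_mul] at this
    exact (congrArg Prod.snd (h.emb_injective this)).symm
  · show a * c5 * a⁻¹ = c5 ^ (n % 5)
    rw [← pow_eq_pow_mod n rep_facts.1]
    simp only [x5, ← map_inv, ← map_mul, ← map_pow] at hn
    exact (congrArg Prod.snd (h.emb_injective hn)).symm

theorem cent_four_sq {s : G} (h1 : Commute h.t s) (h2 : Commute h.u2 s) : s * s = 1 := by
  obtain ⟨⟨z, a⟩, rfl⟩ := h.exists_emb h1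
  have e := h2.eq
  rw [u2, ← map_mul, ← map_mul] at e
  rw [← map_mul, Prod.mk_mul_mk, cent_v5.2 a (congrArg Prod.snd (h.emb_injective e)).symm,
    show z * z = 1 from by rcases zb_facts.2.2.2 z with rfl | rfl <;> [rfl; exact zb_facts.1],
    Prod.mk_one_one, map_one]

theorem cent_four_card : Nat.card (Subgroup.centralizer ({h.t, h.u2} : Set G)) = 8 := by
  have key : Fintype.card {q : Z2 × A5 // q.2 * v5 = v5 * q.2} = 8 := by
    rw [Fintype.card_congr (show {q : Z2 × A5 // q.2 * v5 = v5 * q.2} ≃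
        Z2 × {a : A5 // a * v5 = v5 * a} from
      { toFun := fun q => (q.1.1, ⟨q.1.2, q.2⟩)
        invFun := fun q => ⟨(q.1, q.2.1), q.2.2⟩
        left_inv := fun q => rfl
        right_inv := fun q => rfl }), Fintype.card_prod, Fintype.card_subtype, cent_v5.1]
    rfl
  rw [← key, ← Nat.card_eq_fintype_card]
  refine (Nat.card_congr (Equiv.ofBijective
    (fun q : {q : Z2 × A5 // q.2 * v5 = v5 * q.2} =>
      (⟨h.emb q.1, Subgroup.mem_centralizer_iff.mpr ?_⟩ :
        Subgroup.centralizer ({h.t, h.u2} : Set G))) ⟨?_, ?_⟩)).symm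
  · rintro y (rfl | rfl)
    · exact (h.emb_comm _).eq
    · obtain ⟨⟨z, a⟩, hq⟩ := q
      rw [u2, ← map_mul, ← map_mul, Prod.mk_mul_mk, Prod.mk_mul_mk, one_mul, mul_one]
      exact congrArg (fun b => h.emb (z, b)) hq.symm
  · exact fun a b e => Subtype.ext (h.emb_injective (by simpa using congrArg Subtype.val e))
  · rintro ⟨s, hs⟩
    rw [Subgroup.mem_centralizer_iff] at hs
    obtain ⟨⟨z, a⟩, rfl⟩ := h.exists_emb (show Commute h.t s from hs _ (Or.inl rfl))
    have e := hs _ (Or.inr rfl)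
    rw [u2, ← map_mul, ← map_mul] at e
    exact ⟨⟨(z, a), (congrArg Prod.snd (h.emb_injective e)).symm⟩, rfl⟩

variable [Finite G] [IsSimpleGroup G]

theorem card_cent_inv {k : G} (hk : orderOf k = 2) :
    Nat.card (Subgroup.centralizer ({k} : Set G)) = 120 := by
  have hc := h.conj_t hk
  have h1 := h.card_class h.card_centralizer
  have h2 := h.card_class (x := k) rfl
  have hpos : 0 < Nat.card {y : G // IsConj y h.t} := by
    haveI : Nonempty {y : G // IsConj y h.t} := ⟨⟨h.t, IsConj.refl _⟩⟩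
    exact Nat.card_pos
  rw [Nat.card_congr (Equiv.subtypeEquivRight (p := fun y => IsConj y k) (q := fun y => IsConj y h.t)
    fun y => ⟨fun e => e.trans hc.symm, fun e => e.trans hc⟩)] at h2
  exact Nat.eq_of_mul_eq_mul_right hpos (h2.trans h1.symm)

/-- Two facts inside the centralizer of an involution. -/
theorem inv_cent {k : G} (hk : orderOf k = 2) {y : G} (hy : Commute k y) :
    ∃ (c : G) (q : Z2 × A5), c * h.t * c⁻¹ = k ∧ c * h.emb q * c⁻¹ = y := by
  obtain ⟨c, hc⟩ := isConj_iff.mp (h.conj_t hk)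
  obtain ⟨q, hq⟩ := h.exists_emb (u := c⁻¹ * y * c) (by
    rw [← hc] at hy
    have := hy.map (MulAut.conj c⁻¹).toMonoidHom
    simpa [MulAut.conj_apply, mul_assoc] using this)
  exact ⟨c, q, hc, by rw [hq]; group⟩

/-- An element of order five centralising an involution. -/
theorem five_class {k : G} (hk : orderOf k = 2) {y : G} (hy : Commute k y) (h5 : y ^ 5 = 1)
    (hne : y ≠ 1) : ∃ (b : G) (i : ℕ), ¬ 5 ∣ i ∧ b * h.x5 ^ i * b⁻¹ = y := by
  obtain ⟨c, ⟨z, a⟩, -, rfl⟩ := h.inv_cent hk hy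
  have e : h.emb (z, a) ^ 5 = 1 := by rwa [conj_pow, conj_eq_one_iff] at h5
  rw [← map_pow, Prod.pow_mk] at e
  have e' := h.emb_injective (e.trans (map_one _).symm)
  have ha : a ^ 5 = 1 := congrArg Prod.snd e'
  have hz : z = 1 := by
    rcases zb_facts.2.2.2 z with rfl | rfl
    · rfl
    · exact absurd (show zb ^ 5 = 1 from congrArg Prod.fst e') (by decide)
  subst hz
  have ha1 : a ≠ 1 := fun e2 => hne (by rw [e2, Prod.mk_one_one, map_one]; group)
  obtain ⟨b, hb | hb⟩ := five_conj a ha ha1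
  · refine ⟨c * h.emb (1, b), 1, by norm_num, ?_⟩
    rw [← hb, pow_one, x5, mul_inv_rev, ← map_inv]
    simp only [mul_assoc]
    rw [← mul_assoc (h.emb (1, b)), ← mul_assoc (h.emb (1, b) * _), ← map_mul, ← map_mul]
    simp [mul_assoc]
  · refine ⟨c * h.emb (1, b), 2, by norm_num, ?_⟩
    rw [← hb, x5, ← map_pow, mul_inv_rev, ← map_inv]
    simp only [mul_assoc]
    rw [← mul_assoc (h.emb (1, b)), ← mul_assoc (h.emb (1, b) * _), ← map_mul, ← map_mul]
    simp [mul_assoc]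

/-- No subgroup of odd order of an involution centralizer contains elements of orders five and
three. -/
theorem five_three_cent {k : G} (hk : orderOf k = 2) {A : Subgroup G} (hA : ¬ 2 ∣ Nat.card A)
    {y b : G} (hyA : y ∈ A) (hbA : b ∈ A) (hy : Commute k y) (hb : Commute k b)
    (h5 : y ^ 5 = 1) (h3 : b ^ 3 = 1) (hy1 : y ≠ 1) (hb1 : b ≠ 1) : False := by
  obtain ⟨c, hc⟩ := isConj_iff.mp (h.conj_t hk)
  set f := (MulAut.conj c⁻¹).toMonoidHom with hf
  have hfk : f k = h.t := by rw [← hc]; simp [hf, mul_assoc]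
  obtain ⟨⟨z, a⟩, hq⟩ := h.exists_emb (u := f y) (hfk ▸ hy.map f)
  obtain ⟨⟨z', a'⟩, hq'⟩ := h.exists_emb (u := f b) (hfk ▸ hb.map f)
  have finj : Function.Injective f := (MulAut.conj c⁻¹).injective
  have e1 := h.emb_injective (a₁ := (z, a) ^ 5) (a₂ := 1) (by rw [map_pow, hq, ← map_pow, h5, map_one, map_one])
  have e2 := h.emb_injective (a₁ := (z', a') ^ 3) (a₂ := 1) (by rw [map_pow, hq', ← map_pow, h3, map_one, map_one])
  have odd3 : ∀ z : Z2, (z ^ 5 = 1 → z = 1) ∧ (z ^ 3 = 1 → z = 1) := by decide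
  obtain rfl := (odd3 z).1 (congrArg Prod.fst e1)
  obtain rfl := (odd3 z').2 (congrArg Prod.fst e2)
  have ha1 : a ≠ 1 := fun e => hy1 (finj (by rw [← hq, e, Prod.mk_one_one, map_one, map_one]))
  have hb1' : a' ≠ 1 := fun e => hb1 (finj (by rw [← hq', e, Prod.mk_one_one, map_one, map_one]))
  obtain ⟨i, hi, hne⟩ := five_three a a' (congrArg Prod.snd e1) (congrArg Prod.snd e2) ha1 hb1'
  have key : f (y ^ (i : ℕ) * b) = h.emb (1, a ^ (i : ℕ) * a') := by
    rw [map_mul, map_pow, ← hq, ← hq', ← map_pow, ← map_mul, Prod.pow_mk, Prod.mk_mul_mk, one_pow,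
      one_mul]
  have ho : orderOf (y ^ (i : ℕ) * b) = 2 := by
    rw [← orderOf_injective f finj, key, orderOf_injective _ h.emb_injective]
    exact orderOf_eq_prime (by rw [pow_two, Prod.mk_mul_mk, one_mul, hi, Prod.mk_one_one])
      fun e => hne (congrArg Prod.snd e)
  exact hA (ho ▸ A.orderOf_dvd_natCard (mul_mem (pow_mem hyA _) hbA))

/-- The centralizer of an involution and an element of order three. -/
theorem three_cent' {s r q : G} (hs : orderOf s = 2) (hr : Commute s r) (h3 : r ^ 3 = 1)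
    (hr1 : r ≠ 1) (hq : Commute s q) (hqr : Commute q r) :
    ∃ k : ℕ, q = r ^ k ∨ q = s * r ^ k := by
  obtain ⟨c, hc⟩ := isConj_iff.mp (h.conj_t hs)
  set f := (MulAut.conj c⁻¹).toMonoidHom with hf
  have hfs : f s = h.t := by rw [← hc]; simp [hf, mul_assoc]
  have finj : Function.Injective f := (MulAut.conj c⁻¹).injective
  obtain ⟨⟨z, a⟩, hb⟩ := h.exists_emb (u := f r) (hfs ▸ hr.map f)
  obtain ⟨⟨z', a'⟩, hb'⟩ := h.exists_emb (u := f q) (hfs ▸ hq.map f)
  have e1 := h.emb_injective (a₁ := (z, a) ^ 3) (a₂ := 1) (by rw [map_pow, hb, ← map_pow, h3, map_one, map_one])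
  have odd3 : ∀ z : Z2, z ^ 3 = 1 → z = 1 := by decide
  obtain rfl := odd3 z (congrArg Prod.fst e1)
  have ha1 : a ≠ 1 := fun e => hr1 (finj (by rw [← hb, e, Prod.mk_one_one, map_one, map_one]))
  have e2 := h.emb_injective (a₁ := (z', a') * (1, a)) (a₂ := (1, a) * (z', a')) (by
    rw [map_mul, map_mul, hb, hb', ← map_mul, ← map_mul, hqr.eq])
  obtain ⟨k, rfl⟩ := three_cent a' a (congrArg Prod.snd e1) ha1 (congrArg Prod.snd e2)
  refine ⟨k, ?_⟩
  rcases zb_facts.2.2.2 z' with rfl | rfl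
  · refine Or.inl (finj ?_)
    rw [← hb', map_pow, ← hb, ← map_pow, Prod.pow_mk, one_pow]
  · refine Or.inr (finj ?_)
    rw [← hb', map_mul, hfs, map_pow, ← hb, ← map_pow, Prod.pow_mk, one_pow, h.t_mul_emb, mul_one]

end Hyp

end CfsgLib.JOneOrder
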