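import Cfsg.Agent.Lib.JOneOrder.Alt5
import Cfsg.Agent.Lib.EightSylow.Automizer
import Cfsg.Agent.Lib.Blocks.PPart
import Cfsg.Prelude.Def_SporadicB

/-!
# The centralizer of an involution and the Sylow 2-subgroup
-/

set_option autoImplicit false
set_option Elab.async false
set_option linter.style.haveILetI false

namespace CfsgLib.JOneOrder

open Cfsg Equiv

abbrev Z2 := Multiplicative (ZMod 2)

/-- The nontrivial element of `Z2`. -/
def zb : Z2 := Multiplicative.ofAdd 1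

/-- The situation. -/
structure Hyp (G : Type*) [Group G] where
  t : G
  two : Cfsg.IsTwoCentralInvolution t
  e : Subgroup.centralizer ({t} : Set G) ≃* Z2 × A5

variable {G : Type*} [Group G] (h : Hyp G)

namespace Hyp

include h

theorem t_order : orderOf h.t = 2 := h.two.1

theorem t_sq : h.t * h.t = 1 := by
  rw [← pow_two, ← h.t_order, pow_orderOf_eq_one]

theorem t_inv : h.t⁻¹ = h.t := inv_eq_of_mul_eq_one_right h.t_sq

theorem t_ne : h.t ≠ 1 := fun e => by
  have := h.t_order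
  rw [e, orderOf_one] at this
  norm_num at this

/-- The centralizer as `Z2 × A5`. -/
def emb : Z2 × A5 →* G :=
  (Subgroup.centralizer ({h.t} : Set G)).subtype.comp h.e.symm.toMonoidHom

theorem emb_injective : Function.Injective h.emb :=
  Subtype.val_injective.comp h.e.symm.injective

theorem emb_mem (q : Z2 × A5) : h.emb q ∈ Subgroup.centralizer ({h.t} : Set G) :=
  (h.e.symm q).2

theorem emb_comm (q : Z2 × A5) : Commute h.t (h.emb q) :=
  (Subgroup.mem_centralizer_singleton_iff.mp (h.emb_mem q)).symm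

theorem exists_emb {u : G} (hu : Commute h.t u) : ∃ q, h.emb q = u :=
  ⟨h.e ⟨u, Subgroup.mem_centralizer_singleton_iff.mpr hu.symm.eq⟩, by simp [emb]⟩

omit h in
theorem center_pairs : ∀ q : Z2 × A5, q * q = 1 → q ≠ 1 → (∀ r : Z2 × A5, q * r = r * q) →
    q = (zb, 1) := by
  have hz : ∀ z : Z2, z = 1 ∨ z = zb := by decide
  have ha : ∀ a : A5, (a * rep 2 = rep 2 * a ∧ a * c5 = c5 * a) → a = 1 := by decide +kernel
  rintro ⟨z, a⟩ - hne hr
  obtain rfl := ha a ⟨congrArg Prod.snd (hr (1, rep 2)), congrArg Prod.snd (hr (1, c5))⟩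
  rcases hz z with rfl | rfl
  · exact absurd rfl hne
  · rfl

theorem emb_zb : h.emb (zb, 1) = h.t := by
  obtain ⟨q, hq⟩ := h.exists_emb (Commute.refl h.t)
  rw [← center_pairs q (h.emb_injective ?_) (fun e => h.t_ne (by rw [← hq, e, map_one]))
    (fun r => h.emb_injective ?_), hq]
  · rw [map_mul, hq, h.t_sq, map_one]
  · rw [map_mul, map_mul, hq]; exact (h.emb_comm r).eq

theorem t_mul_emb (b : Z2) (a : A5) : h.t * h.emb (b, a) = h.emb (zb * b, a) := by
  rw [← h.emb_zb, ← map_mul, Prod.mk_mul_mk, one_mul]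

/-- The representatives of the section of `t`. -/
def sec (i : Fin 5) : G := h.emb (zb, rep i)

theorem sec_zero : h.sec 0 = h.t := by rw [sec, rep_facts.2.2.2.1, h.emb_zb]

theorem sec_eq (i : Fin 5) : h.sec i = h.t * h.emb (1, rep i) := by
  rw [t_mul_emb, mul_one, sec]

variable [Finite G]

theorem card_centralizer : Nat.card (Subgroup.centralizer ({h.t} : Set G)) = 120 := by
  rw [Nat.card_congr h.e.toEquiv, Nat.card_prod, card_A5, Nat.card_eq_fintype_card]
  rfl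

theorem dvd_card : 120 ∣ Nat.card G := h.card_centralizer ▸ Subgroup.card_subgroup_dvd_card _

omit h in
theorem two_squares : ∀ q : Z2 × A5, q ^ 8 = 1 → q * q = 1 := by
  have hz : ∀ z : Z2, z * z = 1 := by decide
  have ha : ∀ a : A5, a ^ 8 = 1 → a * a = 1 := by decide +kernel
  rintro ⟨z, a⟩ e
  exact Prod.ext (hz z) (ha a (congrArg Prod.snd e))

/-- The Klein group with the central involution. -/
def sylPart : Subgroup (Z2 × A5) where
  carrier := {q | q.2 = 1 ∨ q.2 = twoSwap 0 1 2 3 ∨ q.2 = twoSwap 0 2 1 3 ∨ q.2 = twoSwap 0 3 1 2}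
  one_mem' := Or.inl rfl
  mul_mem' := by
    have key : ∀ a b : A5,
        (a = 1 ∨ a = twoSwap 0 1 2 3 ∨ a = twoSwap 0 2 1 3 ∨ a = twoSwap 0 3 1 2) →
        (b = 1 ∨ b = twoSwap 0 1 2 3 ∨ b = twoSwap 0 2 1 3 ∨ b = twoSwap 0 3 1 2) →
        (a * b = 1 ∨ a * b = twoSwap 0 1 2 3 ∨ a * b = twoSwap 0 2 1 3 ∨
          a * b = twoSwap 0 3 1 2) := by decide +kernel
    exact fun {a b} ha hb => key _ _ ha hb
  inv_mem' := by
    have key : ∀ a : A5,
        (a = 1 ∨ a = twoSwap 0 1 2 3 ∨ a = twoSwap 0 2 1 3 ∨ a = twoSwap 0 3 1 2) →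
        (a⁻¹ = 1 ∨ a⁻¹ = twoSwap 0 1 2 3 ∨ a⁻¹ = twoSwap 0 2 1 3 ∨ a⁻¹ = twoSwap 0 3 1 2) := by
      decide +kernel
    exact fun {a} ha => key _ ha

omit h in
theorem sylPart_card : Nat.card sylPart = 8 := by
  have e : ((Finset.univ : Finset (Z2 × A5)).filter fun q => q.2 = 1 ∨ q.2 = twoSwap 0 1 2 3 ∨
      q.2 = twoSwap 0 2 1 3 ∨ q.2 = twoSwap 0 3 1 2).card = 8 := by decide +kernel
  rw [← e, ← Fintype.card_subtype, ← Nat.card_eq_fintype_card]
  rfl

theorem sylow_facts : ∃ S : Sylow 2 G, (S : Subgroup G) = sylPart.map h.emb ∧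
    Nat.card (S : Subgroup G) = 8 := by
  haveI : Fact (Nat.Prime 2) := ⟨Nat.prime_two⟩
  obtain ⟨-, P, htP, hP⟩ := h.two
  have hle : (P : Subgroup G) ≤ Subgroup.centralizer ({h.t} : Set G) := fun x hx =>
    Subgroup.mem_centralizer_singleton_iff.mpr (hP x hx)
  have hd : Nat.card (P : Subgroup G) ∣ 120 := h.card_centralizer ▸ Subgroup.card_dvd_of_le hle
  have hc : Nat.card (sylPart.map h.emb) = 8 := by
    rw [Subgroup.card_map_of_injective h.emb_injective, sylPart_card]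
  have h8 : 2 ^ (Nat.card G).factorization 2 = 8 := by
    have h1 := P.card_eq_multiplicity
    have h2 : 8 ∣ Nat.card G := Dvd.dvd.trans (by norm_num) h.dvd_card
    have h3 : 3 ≤ (Nat.card G).factorization 2 :=
      (Nat.prime_two.pow_dvd_iff_le_factorization Nat.card_pos.ne').mp h2
    rw [h1] at hd
    have h4 : (Nat.card G).factorization 2 ≤ 3 := by
      by_contra h5
      have : 2 ^ 4 ∣ 120 := (pow_dvd_pow 2 (not_le.mp h5)).trans hd
      norm_num at this
    rw [le_antisymm h4 h3]; norm_num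
  refine ⟨Sylow.ofCard (sylPart.map h.emb) (hc.trans h8.symm), rfl, hc⟩

theorem not_sixteen : ¬ 16 ∣ Nat.card G := by
  haveI : Fact (Nat.Prime 2) := ⟨Nat.prime_two⟩
  obtain ⟨S, -, hS⟩ := h.sylow_facts
  intro h16
  rw [S.card_eq_multiplicity] at hS
  have := (Nat.prime_two.pow_dvd_iff_le_factorization Nat.card_pos.ne').mp
    (show 2 ^ 4 ∣ Nat.card G from h16)
  have h2 := Nat.pow_right_injective le_rfl (hS.trans (show 8 = 2 ^ 3 by norm_num))
  omega

theorem elementary {S : Sylow 2 G} : IsElementaryAbelian 2 (S : Subgroup G) ∧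
    Nat.card (S : Subgroup G) = 8 := by
  haveI : Fact (Nat.Prime 2) := ⟨Nat.prime_two⟩
  obtain ⟨S₀, e₀, h₀⟩ := h.sylow_facts
  have hc : Nat.card (S : Subgroup G) = 8 := by rw [S.card_eq_multiplicity, ← S₀.card_eq_multiplicity, h₀]
  obtain ⟨g, hg⟩ := MulAction.exists_smul_eq G S₀ S
  have hsq : ∀ x ∈ (S : Subgroup G), x * x = 1 := by
    intro x hx
    have hS : (S : Subgroup G) = (S₀ : Subgroup G).map (MulAut.conj g).toMonoidHom := by
      rw [← hg, Sylow.coe_subgroup_smul]; rfl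
    rw [hS, e₀] at hx
    obtain ⟨_, ⟨q, hq, rfl⟩, rfl⟩ := hx
    rw [← map_mul, ← map_mul, two_squares q ?_, map_one, map_one]
    rw [← Subgroup.coe_mk (sylPart : Subgroup _) q hq, ← Subgroup.coe_pow, ← sylPart_card,
      pow_card_eq_one', Subgroup.coe_one]
  refine ⟨⟨⟨⟨fun a b => Subtype.ext ?_⟩⟩, fun a ha => by rw [pow_two]; exact hsq a ha⟩, hc⟩
  have ha := hsq _ a.2
  have hb := hsq _ b.2
  have hab := hsq _ (mul_mem a.2 b.2)
  calc (a : G) * b = (a : G) * b * ((b : G) * a * (a * b)) := by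
        rw [show (b : G) * a * (a * b) = 1 by
          rw [show (b : G) * a * (a * b) = b * ((a : G) * a) * b by group, ha, mul_one, hb], mul_one]
    _ = ((a : G) * b) * ((b : G) * a) * ((a : G) * b) := by group
    _ = b * a := by
      rw [show ((a : G) * b) * ((b : G) * a) = (a : G) * ((b : G) * b) * a by group, hb, mul_one, ha,
        one_mul]
      calc (a : G) * b = ((b : G) * a) * (((a : G) * b) * ((a : G) * b)) := by
            rw [show ((b : G) * a) * (((a : G) * b) * ((a : G) * b)) =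
              b * ((a : G) * a) * b * ((a : G) * b) by group, ha, mul_one, hb, one_mul]
        _ = b * a := by rw [hab, mul_one]

theorem not_comm : ¬ IsMulCommutative G := by
  intro hc
  have h1 : (rep 2 : A5) * c5 = c5 * rep 2 :=
    congrArg Prod.snd (h.emb_injective (a₁ := (1, rep 2) * (1, c5)) (a₂ := (1, c5) * (1, rep 2)) (by
      rw [map_mul, map_mul]; exact hc.is_comm.comm _ _))
  revert h1
  decide +kernel

variable [IsSimpleGroup G]

/-- All involutions are conjugate. -/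
theorem conj_t {u : G} (hu : orderOf u = 2) : IsConj h.t u := by
  haveI : Fact (Nat.Prime 2) := ⟨Nat.prime_two⟩
  obtain ⟨S, eS, hS8⟩ := h.sylow_facts
  rcases EightSylow.automizer_cases h.not_comm S h.elementary.1 hS8 with h7 | ⟨-, htr⟩
  · exfalso
    have hn : h.emb (1, rep 2) ∈ Subgroup.normalizer ((S : Subgroup G) : Set G) := by
      rw [Subgroup.mem_normalizer_iff]
      intro x
      rw [eS]
      have key : ∀ a : A5,
          (a = 1 ∨ a = twoSwap 0 1 2 3 ∨ a = twoSwap 0 2 1 3 ∨ a = twoSwap 0 3 1 2) ↔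
          (rep 2 * a * (rep 2)⁻¹ = 1 ∨ rep 2 * a * (rep 2)⁻¹ = twoSwap 0 1 2 3 ∨
            rep 2 * a * (rep 2)⁻¹ = twoSwap 0 2 1 3 ∨ rep 2 * a * (rep 2)⁻¹ = twoSwap 0 3 1 2) := by
        decide +kernel
      constructor
      · rintro ⟨q, hq, rfl⟩
        exact ⟨(1, rep 2) * q * (1, rep 2)⁻¹, (key q.2).mp hq, by rw [map_mul, map_mul, map_inv]⟩
      · rintro ⟨q, hq, e⟩
        refine ⟨(1, rep 2)⁻¹ * q * (1, rep 2), ?_, ?_⟩
        · have hq' : q.2 = 1 ∨ q.2 = twoSwap 0 1 2 3 ∨ q.2 = twoSwap 0 2 1 3 ∨ q.2 = twoSwap 0 3 1 2 := hq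
          refine (key _).mpr ?_
          simpa [mul_assoc] using hq'
        · rw [map_mul, map_mul, map_inv, e]; group
    have h3 : EightSylow.act S ⟨_, hn⟩ ^ 3 = 1 := by
      rw [← map_pow, show (⟨h.emb (1, rep 2), hn⟩ : Subgroup.normalizer ((S : Subgroup G) : Set G)) ^ 3
        = 1 from Subtype.ext (by
          rw [Subgroup.coe_pow, ← map_pow, Prod.pow_mk, one_pow, rep_facts.2.2.2.2.2.2.1,
            Prod.mk_one_one, map_one]; rfl), map_one]
    have hne : EightSylow.act S ⟨_, hn⟩ ≠ 1 := by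
      intro e1
      have hm : h.emb (1, twoSwap 0 1 2 3) ∈ (S : Subgroup G) := by
        rw [eS]; exact ⟨_, Or.inr (Or.inl rfl), rfl⟩
      have := congrArg Subtype.val (DFunLike.congr_fun e1 ⟨_, hm⟩)
      rw [EightSylow.act_apply, ← map_inv, ← map_mul, ← map_mul] at this
      have hn2 : rep 2 * twoSwap 0 1 2 3 * (rep 2)⁻¹ ≠ twoSwap 0 1 2 3 := by decide +kernel
      exact hn2 (congrArg Prod.snd (h.emb_injective this))
    haveI : Fact (Nat.Prime 3) := ⟨Nat.prime_three⟩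
    have h37 : 3 ∣ Nat.card (EightSylow.act S).range := by
      have hd := orderOf_dvd_natCard (⟨EightSylow.act S ⟨_, hn⟩, MonoidHom.mem_range.mpr ⟨_, rfl⟩⟩ :
        (EightSylow.act S).range)
      rwa [Subgroup.orderOf_mk, orderOf_eq_prime h3 hne] at hd
    omega
  · obtain ⟨Q, hQ⟩ := IsPGroup.exists_le_sylow
      (IsPGroup.of_card (n := 1) (show Nat.card (Subgroup.zpowers u) = 2 ^ 1 by
        rw [Nat.card_zpowers, hu, pow_one]) : IsPGroup 2 (Subgroup.zpowers u))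
    obtain ⟨g, hg⟩ := MulAction.exists_smul_eq G Q S
    have hgu : g * u * g⁻¹ ∈ (S : Subgroup G) := by
      rw [← hg, Sylow.coe_subgroup_smul]
      exact ⟨u, hQ (Subgroup.mem_zpowers u), rfl⟩
    have htS : h.t ∈ (S : Subgroup G) := by
      rw [eS]; exact ⟨(zb, 1), Or.inl rfl, h.emb_zb⟩
    obtain ⟨n, -, hn⟩ := htr _ htS _ hgu h.t_ne (fun e1 => by
      rw [conj_eq_one_iff] at e1
      rw [e1, orderOf_one] at hu
      norm_num at hu)
    exact (isConj_iff.mpr ⟨n, hn⟩).trans (isConj_iff.mpr ⟨g⁻¹, by group⟩)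

theorem seven_dvd : 7 ∣ Nat.card G := by
  obtain ⟨S, -, hS8⟩ := h.sylow_facts
  have hr : Nat.card (EightSylow.act S).range ∣ Nat.card G :=
    (Subgroup.card_range_dvd _).trans (Subgroup.card_subgroup_dvd_card _)
  rcases EightSylow.automizer_cases h.not_comm S h.elementary.1 hS8 with h7 | ⟨h21, -⟩
  · rwa [h7] at hr
  · exact Dvd.dvd.trans (by norm_num) (h21 ▸ hr)

theorem div840 : 840 ∣ Nat.card G :=
  Nat.Coprime.mul_dvd_of_dvd_of_dvd (show Nat.Coprime 120 7 by norm_num) h.dvd_card h.seven_dvd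

end Hyp

/-! ### Sections -/

variable [Finite G]

theorem part_unique {t y y' g : G} (ht : orderOf t = 2) (hc : Commute t y)
    (hy : ¬ 2 ∣ orderOf y) (hc' : Commute t y') (hy' : ¬ 2 ∣ orderOf y')
    (e : g * (t * y) * g⁻¹ = t * y') : g * t = t * g ∧ g * y * g⁻¹ = y' := by
  have hk : ∃ k : ℕ, orderOf t = 2 ^ k := ⟨1, by rw [ht, pow_one]⟩
  have h1 := Blocks.IsPPart.conj (Blocks.isPPart_mul (p := 2) hc hk hy) g
  rw [e] at h1
  have h2 := Blocks.IsPPart.unique Nat.prime_two h1 (Blocks.isPPart_mul (p := 2) hc' hk hy')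
  refine ⟨mul_inv_eq_iff_eq_mul.mp h2, mul_left_cancel (a := t) ?_⟩
  calc t * (g * y * g⁻¹) = g * t * g⁻¹ * (g * y * g⁻¹) := by rw [h2]
    _ = g * (t * y) * g⁻¹ := by group
    _ = t * y' := e

namespace Hyp

include h

theorem odd_rep {i : Fin 5} (hi : i ≠ 1) : ¬ 2 ∣ orderOf (h.emb (1, rep i)) := by
  have h15 : h.emb (1, rep i) ^ 15 = 1 := by
    rw [← map_pow, Prod.pow_mk, one_pow, (rep_facts.2.2.1 i).mpr hi, Prod.mk_one_one, map_one]
  intro hd
  have := hd.trans (orderOf_dvd_of_pow_eq_one h15)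
  omega

theorem sec_conj_centralizes {i j : Fin 5} (hi : i ≠ 1) (hj : j ≠ 1) {g : G}
    (e : g * h.sec i * g⁻¹ = h.sec j) :
    ∃ q : Z2 × A5, h.emb q = g ∧ q.2 * rep i * q.2⁻¹ = rep j := by
  rw [h.sec_eq, h.sec_eq] at e
  obtain ⟨h1, h2⟩ := part_unique h.t_order (h.emb_comm _) (h.odd_rep hi) (h.emb_comm _)
    (h.odd_rep hj) e
  obtain ⟨q, rfl⟩ := h.exists_emb (u := g) h1.symm
  rw [← map_inv, ← map_mul, ← map_mul] at h2
  exact ⟨q, rfl, congrArg Prod.snd (h.emb_injective h2)⟩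

theorem sec_not_isConj {i j : Fin 5} (hi : i ≠ 1) (hj : j ≠ 1) (hij : i ≠ j) :
    ¬ IsConj (h.sec i) (h.sec j) := fun hc => by
  obtain ⟨g, hg⟩ := isConj_iff.mp hc
  obtain ⟨q, -, hq⟩ := h.sec_conj_centralizes hi hj hg
  exact hij (rep_distinct i j ⟨q.2, hq⟩)

theorem sec_centralizer {i : Fin 5} (hi : i ≠ 1) :
    Nat.card (Subgroup.centralizer ({h.sec i} : Set G)) =
      (![120, 8, 6, 10, 10] : Fin 5 → ℕ) i := by
  have key : ∀ i : Fin 5, i ≠ 1 → ((Finset.univ : Finset (Z2 × A5)).filter fun q =>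
      q.2 * rep i * q.2⁻¹ = rep i).card = (![120, 8, 6, 10, 10] : Fin 5 → ℕ) i := by
    decide +kernel
  rw [← key i hi, ← Fintype.card_subtype, ← Nat.card_eq_fintype_card]
  refine (Nat.card_congr (Equiv.ofBijective
    (fun q : {q : Z2 × A5 // q.2 * rep i * q.2⁻¹ = rep i} =>
      (⟨h.emb q.1, Subgroup.mem_centralizer_singleton_iff.mpr ?_⟩ :
        Subgroup.centralizer ({h.sec i} : Set G))) ⟨?_, ?_⟩)).symm
  · obtain ⟨q, hq⟩ := q
    show h.emb q * h.emb (zb, rep i) = h.emb (zb, rep i) * h.emb q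
    rw [← map_mul, ← map_mul]
    exact congrArg h.emb (Prod.ext (mul_comm _ _) (mul_inv_eq_iff_eq_mul.mp hq))
  · intro a b e
    exact Subtype.ext (h.emb_injective (by simpa using congrArg Subtype.val e))
  · rintro ⟨g, hg⟩
    obtain ⟨q, rfl, hq⟩ := h.sec_conj_centralizes hi hi
      (mul_inv_eq_iff_eq_mul.mpr (Subgroup.mem_centralizer_singleton_iff.mp hg))
    exact ⟨⟨q, hq⟩, rfl⟩

variable [IsSimpleGroup G]

/-- The involutions carrying a section element to an involution. -/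
theorem inverting_count {i : Fin 5} (hi : i ≠ 1) :
    Nat.card {s : G // IsConj h.t s ∧ IsConj h.t (s * h.sec i)} =
      (![30, 0, 6, 10, 10] : Fin 5 → ℕ) i := by
  have inv_iff : ∀ u : G, IsConj h.t u ↔ u * u = 1 ∧ u ≠ 1 := by
    intro u
    constructor
    · intro hc
      obtain ⟨c, rfl⟩ := isConj_iff.mp hc
      exact ⟨by rw [show c * h.t * c⁻¹ * (c * h.t * c⁻¹) = c * (h.t * h.t) * c⁻¹ by group, h.t_sq,
        mul_one, mul_inv_cancel], fun e => h.t_ne (conj_eq_one_iff.mp e)⟩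
    · rintro ⟨h1, h2⟩
      exact h.conj_t (orderOf_eq_prime (by rw [pow_two]; exact h1) h2)
  have key : ∀ i : Fin 5, i ≠ 1 → ((Finset.univ : Finset (Z2 × A5)).filter fun q =>
      (q * q = 1 ∧ q ≠ 1) ∧ q * (zb, rep i) * (q * (zb, rep i)) = 1 ∧ q * (zb, rep i) ≠ 1).card =
      (![30, 0, 6, 10, 10] : Fin 5 → ℕ) i := by decide +kernel
  rw [← key i hi, ← Fintype.card_subtype, ← Nat.card_eq_fintype_card]
  have hmap : ∀ q : Z2 × A5, (IsConj h.t (h.emb q) ∧ IsConj h.t (h.emb q * h.sec i)) ↔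
      ((q * q = 1 ∧ q ≠ 1) ∧ q * (zb, rep i) * (q * (zb, rep i)) = 1 ∧ q * (zb, rep i) ≠ 1) := by
    intro q
    simp only [inv_iff, sec, ← map_mul, ← h.emb.map_one, h.emb_injective.eq_iff, ne_eq]
  refine (Nat.card_congr (Equiv.ofBijective
    (fun q : {q : Z2 × A5 // (q * q = 1 ∧ q ≠ 1) ∧ q * (zb, rep i) * (q * (zb, rep i)) = 1 ∧
        q * (zb, rep i) ≠ 1} =>
      (⟨h.emb q.1, (hmap q.1).mpr q.2⟩ : {s : G // IsConj h.t s ∧ IsConj h.t (s * h.sec i)}))
    ⟨fun a b e => Subtype.ext (h.emb_injective (by simpa using congrArg Subtype.val e)), ?_⟩)).symm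
  rintro ⟨s, hs1, hs2⟩
  obtain ⟨hss, -⟩ := (inv_iff s).mp hs1
  obtain ⟨hsx, -⟩ := (inv_iff _).mp hs2
  have hsi : s⁻¹ = s := inv_eq_of_mul_eq_one_right hss
  have hinv : s * (h.t * h.emb (1, rep i)) * s⁻¹ = h.t * h.emb (1, (rep i)⁻¹) := by
    rw [hsi]
    have h3 : s * h.sec i * s = (h.sec i)⁻¹ :=
      eq_inv_of_mul_eq_one_left (by simpa only [mul_assoc] using hsx)
    rw [← h.sec_eq, h3, h.sec_eq, mul_inv_rev, h.t_inv, ← map_inv, Prod.inv_mk, inv_one]
    exact ((h.emb_comm _).eq).symm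
  have ho : ¬ 2 ∣ orderOf (h.emb (1, (rep i)⁻¹)) := by
    have := h.odd_rep hi
    rwa [← orderOf_inv, ← map_inv, Prod.inv_mk, inv_one] at this
  obtain ⟨h1, -⟩ := part_unique h.t_order (h.emb_comm _) (h.odd_rep hi) (h.emb_comm _) ho hinv
  obtain ⟨q, rfl⟩ := h.exists_emb (u := s) h1.symm
  exact ⟨⟨q, (hmap q).mp ⟨hs1, hs2⟩⟩, rfl⟩

end Hyp

end CfsgLib.JOneOrder
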