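import Cfsg.Agent.Lib.JOneOrder.Klein
import Cfsg.Agent.Lib.JOneOrder.Gen

/-!
# The centralizer of the element of order five when the order is 189000
-/

set_option autoImplicit false
set_option Elab.async false

namespace CfsgLib.JOneOrder

open Cfsg Equiv

variable {G : Type*} [Group G] [Finite G] [IsSimpleGroup G]

namespace Hyp

variable (h : Hyp G)

/-- The centralizer of the element of order five. -/
def cx : Subgroup G := Subgroup.centralizer ({h.x5} : Set G)

include h

theorem mem_cx {z : G} : z ∈ h.cx ↔ Commute h.x5 z :=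
  Subgroup.mem_centralizer_singleton_iff.trans ⟨fun e => e.symm, fun e => e.symm⟩

theorem t_mem_cx : h.t ∈ h.cx := h.mem_cx.mpr h.x5_comm.symm

theorem cx_four {e : G} (he : e ∈ h.four) :
    e * h.x5 * e⁻¹ = h.x5 ∨ e * h.x5 * e⁻¹ = h.x5⁻¹ := by
  obtain ⟨h1, h2, h3⟩ := h.u2_inv
  obtain ⟨-, -, hu, hw, -⟩ := h.klein_mul
  rcases h.mem_four.mp he with rfl | rfl | rfl | rfl
  · exact Or.inl (by group)
  · exact Or.inl (by rw [h.t_inv, h3])
  · exact Or.inr (by rw [inv_eq_of_mul_eq_one_right hu, h1])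
  · exact Or.inr (by rw [inv_eq_of_mul_eq_one_right hw, h2])

theorem four_sq {e : G} (he : e ∈ h.four) : e * e = 1 := by
  obtain ⟨-, -, hu, hw, -⟩ := h.klein_mul
  rcases h.mem_four.mp he with rfl | rfl | rfl | rfl
  exacts [one_mul 1, h.t_sq, hu, hw]

theorem four_pgroup : IsPGroup 2 h.four :=
  IsPGroup.of_card (n := 2) (by rw [h.four_card]; norm_num)

theorem comm_sq {S : Sylow 2 G} {a b : G} (ha : a ∈ (S : Subgroup G)) (hb : b ∈ (S : Subgroup G)) :
    Commute a b :=
  congrArg Subtype.val ((h.elementary (S := S)).1.1.is_comm.comm ⟨a, ha⟩ ⟨b, hb⟩)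

theorem not_four : ¬ 4 ∣ Nat.card h.cx := by
  haveI : Fact (Nat.Prime 2) := ⟨Nat.prime_two⟩
  intro h4
  have hz : IsPGroup 2 (Subgroup.zpowers (⟨h.t, h.t_mem_cx⟩ : h.cx)) :=
    IsPGroup.of_card (n := 1) (by rw [Nat.card_zpowers, Subgroup.orderOf_mk, h.t_order, pow_one])
  obtain ⟨T, hT⟩ := hz.exists_le_sylow
  obtain ⟨S, hS⟩ := (T.2.map h.cx.subtype).exists_le_sylow
  have htT : h.t ∈ (T : Subgroup h.cx).map h.cx.subtype :=
    ⟨_, hT (Subgroup.mem_zpowers _), rfl⟩
  have hle : (T : Subgroup h.cx).map h.cx.subtype ≤ Subgroup.zpowers h.t := by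
    intro z hz'
    have hzC : Commute h.x5 z := by
      obtain ⟨a, -, rfl⟩ := hz'
      exact h.mem_cx.mp a.2
    have hsq : z * z = 1 := by
      have := (h.elementary (S := S)).1.2 _ (hS hz')
      rwa [pow_two] at this
    obtain ⟨k, rfl | rfl⟩ := h.cent_tx (h.comm_sq (hS htT) (hS hz')) hzC
    · have h5 : 5 ∣ k + k := by
        rw [← h.x5_order]; exact orderOf_dvd_of_pow_eq_one (by rw [pow_add]; exact hsq)
      have hk : h.x5 ^ k = 1 :=
        orderOf_dvd_iff_pow_eq_one.mp (by rw [h.x5_order]; omega)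
      rw [hk]; exact one_mem _
    · rw [← pow_two, (h.x5_comm.pow_right k).mul_pow, pow_two h.t, h.t_sq, one_mul,
        ← pow_mul] at hsq
      have h5 : 5 ∣ k * 2 := by rw [← h.x5_order]; exact orderOf_dvd_of_pow_eq_one hsq
      have hk : h.x5 ^ k = 1 := orderOf_dvd_iff_pow_eq_one.mp (by rw [h.x5_order]; omega)
      rw [hk, mul_one]; exact Subgroup.mem_zpowers _
  have h2 := Subgroup.card_dvd_of_le hle
  rw [Nat.card_zpowers, h.t_order, Subgroup.card_map_of_injective Subtype.val_injective,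
    T.card_eq_multiplicity] at h2
  have h22 : 2 ≤ (Nat.card h.cx).factorization 2 :=
    (Nat.prime_two.pow_dvd_iff_le_factorization Nat.card_pos.ne').mp h4
  have := (pow_dvd_pow 2 h22).trans h2
  norm_num at this

omit h in
theorem cent_card_conj {a b : G} (hab : IsConj a b) :
    Nat.card (Subgroup.centralizer ({a} : Set G)) = Nat.card (Subgroup.centralizer ({b} : Set G)) := by
  obtain ⟨c, rfl⟩ := isConj_iff.mp hab
  refine Nat.card_congr ((MulAut.conj c).toEquiv.subtypeEquiv fun z => ?_)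
  show _ ↔ (MulAut.conj c) z ∈ _
  rw [Subgroup.mem_centralizer_singleton_iff, Subgroup.mem_centralizer_singleton_iff,
    show c * a * c⁻¹ = MulAut.conj c a from rfl, ← map_mul, ← map_mul,
    (MulAut.conj c).injective.eq_iff]

/-- A conjugate of a power of `x5` is not centralised by a subgroup of order 125 unless `x5` is. -/
theorem dvd_cx_of_conj {b y : G} {i : ℕ} (hi : ¬ 5 ∣ i) (hy : b * h.x5 ^ i * b⁻¹ = y)
    {P : Subgroup G} (hP : Nat.card P = 125) (hc : ∀ z ∈ P, Commute y z) : 125 ∣ Nat.card h.cx := by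
  have h1 : P ≤ Subgroup.centralizer ({y} : Set G) := fun z hz =>
    Subgroup.mem_centralizer_singleton_iff.mpr (hc z hz).symm.eq
  have h2 := Subgroup.card_dvd_of_le h1
  rw [hP, ← cent_card_conj (isConj_iff.mpr ⟨b, hy⟩)] at h2
  refine h2.trans (Subgroup.card_dvd_of_le fun z hz => h.mem_cx.mpr ?_)
  obtain ⟨j, -, hj⟩ := Nat.exists_mul_mod_eq_one_of_coprime
    ((Nat.Prime.coprime_iff_not_dvd (by norm_num)).mpr hi).symm (by norm_num : 1 < 5)
  have := ((show Commute (h.x5 ^ i) z from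
    (Subgroup.mem_centralizer_singleton_iff.mp hz).symm).pow_left j)
  rwa [← pow_mul, pow_eq_pow_mod (i * j) h.x5_pow, hj, pow_one] at this

/-- What is known about the centralizer. -/
structure Big (P : Sylow 5 G) : Prop where
  card : Nat.card (P : Subgroup G) = 125
  le : (P : Subgroup G) ≤ h.cx
  card_cx : Nat.card h.cx = 250
  mem : h.x5 ∈ (P : Subgroup G)
  coset : ∀ z ∈ h.cx, z ∈ (P : Subgroup G) ∨ h.t * z ∈ (P : Subgroup G)
  inv : ∀ e ∈ h.four, ∀ z ∈ (P : Subgroup G), e * z * e⁻¹ ∈ (P : Subgroup G)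
  fix_u : ∃ y ∈ (P : Subgroup G), Commute h.u2 y ∧ y ≠ 1 ∧ y ^ 5 = 1
  fix_w : ∃ y ∈ (P : Subgroup G), Commute h.w2 y ∧ y ≠ 1 ∧ y ^ 5 = 1

variable (hg : Nat.card G = 189000)

include hg

theorem card_five (P : Sylow 5 G) : Nat.card (P : Subgroup G) = 125 := by
  haveI : Fact (Nat.Prime 5) := ⟨by norm_num⟩
  rw [P.card_eq_multiplicity, hg, show (189000 : ℕ) = 5 ^ 3 * 1512 by norm_num,
    Nat.factorization_mul (by norm_num) (by norm_num), Finsupp.add_apply,
    Nat.Prime.factorization_pow (by norm_num), Finsupp.single_eq_same,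
    Nat.factorization_eq_zero_of_not_dvd (n := 1512) (by norm_num)]
  norm_num

/-- The fixed points of an involution on a 5-group have order at most five. -/
theorem fix_card {k : G} (hk : orderOf k = 2) {P : Subgroup G} (hP : Nat.card P ∣ 125) :
    Nat.card (P ⊓ Subgroup.centralizer ({k} : Set G) : Subgroup G) ∣ 5 := by
  have h1 := (Subgroup.card_dvd_of_le (inf_le_left (a := P) (b := Subgroup.centralizer ({k} : Set G)))).trans hP
  have h2 := Subgroup.card_dvd_of_le (inf_le_right (a := P) (b := Subgroup.centralizer ({k} : Set G)))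
  rw [h.card_cent_inv hk] at h2
  exact (Nat.dvd_gcd h1 h2).trans (by norm_num)

theorem big_exists : ∃ P : Sylow 5 G, h.Big P := by
  haveI : Fact (Nat.Prime 5) := ⟨by norm_num⟩
  obtain ⟨hu1, hu2⟩ := h.klein_order
  obtain ⟨kt, ku, hu, hw, -, -, -, -⟩ := h.klein_mul
  have h2C : 2 ∣ Nat.card h.cx := h.t_order ▸ h.cx.orderOf_dvd_natCard h.t_mem_cx
  obtain ⟨m, hm⟩ := h2C
  have hmodd : ¬ 2 ∣ m := fun hd => h.not_four (hm ▸ Nat.mul_dvd_mul_left 2 hd)
  obtain ⟨O, hOc, hO⟩ := odd_half hmodd hm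
  have hOC : O ≤ h.cx := fun z hz => ((hO z).mp hz).1
  have hOodd : ¬ 2 ∣ Nat.card O := hOc ▸ hmodd
  have hxO : h.x5 ∈ O := (hO _).mpr ⟨h.mem_cx.mpr (Commute.refl _), by rw [h.x5_order]; norm_num⟩
  have hEn : h.four ≤ Subgroup.normalizer (O : Set G) := by
    intro e he
    refine mem_normalizer_of_conj fun z hz => (hO _).mpr ⟨?_, ?_⟩
    · have hzC := h.mem_cx.mp (hOC hz)
      have h1 := hzC.map (MulAut.conj e).toMonoidHom
      simp only [MulEquiv.coe_toMonoidHom, MulAut.conj_apply] at h1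
      rcases h.cx_four he with e1 | e1 <;> rw [e1] at h1
      · exact h.mem_cx.mpr h1
      · exact h.mem_cx.mpr (inv_inv h.x5 ▸ h1.inv_left)
    · rw [show e * z * e⁻¹ = MulAut.conj e z from rfl, MulEquiv.orderOf_eq]
      exact ((hO z).mp hz).2
  -- fixed points of `t`
  have fixt : ∀ z ∈ O, Commute h.t z → z ∈ Subgroup.zpowers h.x5 := fun z hz hc =>
    h.cent_tx_odd hc (h.mem_cx.mp (hOC hz)) ((hO z).mp hz).2
  obtain ⟨Q, hQ⟩ := invariant_sylow hOodd h.four_pgroup hEn 5
  set P₀ := (Q : Subgroup O).map O.subtype with hP₀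
  have hP₀O : P₀ ≤ O := Subgroup.map_subtype_le _
  have hP₀g : IsPGroup 5 P₀ := Q.2.map _
  have hP₀c : Nat.card P₀ = 5 ^ m.factorization 5 := by
    rw [hP₀, Subgroup.card_map_of_injective Subtype.val_injective, Q.card_eq_multiplicity, hOc]
  -- a 5-subgroup of `O` containing `P₀` equals it
  have hmax : ∀ A : Subgroup G, IsPGroup 5 A → A ≤ O → P₀ ≤ A → A ≤ P₀ := by
    intro A hA hAO hle z hz
    have h3 : A.subgroupOf O = (Q : Subgroup O) :=
      Q.3 (hA.of_equiv (Subgroup.subgroupOfEquivOfLe hAO).symm) fun a ha => hle ⟨a, ha, rfl⟩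
    exact ⟨⟨z, hAO hz⟩, h3 ▸ (show (⟨z, hAO hz⟩ : O) ∈ A.subgroupOf O from hz), rfl⟩
  have hxP₀ : h.x5 ∈ P₀ := by
    have hz : IsPGroup 5 (Subgroup.zpowers h.x5) :=
      IsPGroup.of_card (n := 1) (by rw [Nat.card_zpowers, h.x5_order, pow_one])
    refine hmax _ (hP₀g.to_sup_of_normal_left' hz (Subgroup.zpowers_le.mpr
      (mem_normalizer_of_conj fun z hz' => ?_))) (sup_le hP₀O (Subgroup.zpowers_le.mpr hxO))
      le_sup_left (Subgroup.mem_sup_right (Subgroup.mem_zpowers _))
    rwa [show h.x5 * z * h.x5⁻¹ = z by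
      rw [(h.mem_cx.mp (hOC (hP₀O hz'))).eq, mul_inv_cancel_right]]
  have hQinv : ∀ e ∈ h.four, ∀ z ∈ P₀, e * z * e⁻¹ ∈ P₀ := hQ
  have hinv2 : ∀ e ∈ h.four, ∀ z ∈ P₀, e * z * e ∈ P₀ := fun e he z hz => by
    have := hQinv e he z hz
    rwa [inv_eq_of_mul_eq_one_right (h.four_sq he)] at this
  have htm : h.t ∈ h.four := h.mem_four.mpr (Or.inr (Or.inl rfl))
  have hum : h.u2 ∈ h.four := h.mem_four.mpr (Or.inr (Or.inr (Or.inl rfl)))
  have hwm : h.w2 ∈ h.four := h.mem_four.mpr (Or.inr (Or.inr (Or.inr rfl)))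
  obtain ⟨P, hP₀P⟩ := hP₀g.exists_le_sylow
  have hPc := h.card_five hg P
  by_cases h125 : 125 ∣ Nat.card h.cx
  swap
  · -- the order is too small
    exfalso
    have hPnot : ¬ (P : Subgroup G) ≤ h.cx := fun hle =>
      h125 (hPc ▸ Subgroup.card_dvd_of_le hle)
    obtain ⟨p, hp, hpC⟩ := SetLike.not_le_iff_exists.mp hPnot
    have hPC : (P : Subgroup G) ⊓ h.cx ≤ P₀ := by
      refine hmax _ (P.2.to_le inf_le_left) (fun z hz => (hO z).mpr ⟨hz.2, fun h2 => ?_⟩)
        (le_inf hP₀P (hP₀O.trans hOC))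
      have := h2.trans ((P : Subgroup G).orderOf_dvd_natCard hz.1)
      rw [hPc] at this
      norm_num at this
    have hxP : h.x5 ∈ (P : Subgroup G) := hP₀P hxP₀
    obtain ⟨c, hc⟩ : ∃ c, c = p * h.x5 * p⁻¹ * h.x5⁻¹ := ⟨_, rfl⟩
    have hcP : c ∈ (P : Subgroup G) := by
      rw [hc]; exact mul_mem (mul_mem (mul_mem hp hxP) (inv_mem hp)) (inv_mem hxP)
    have hcz : ∀ z ∈ (P : Subgroup G), Commute c z := fun z hz =>
      hc ▸ (five_cube hPc).1 p hp _ hxP z hz
    have hcP₀ : c ∈ P₀ := hPC ⟨hcP, h.mem_cx.mpr (hcz _ hxP).symm⟩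
    have hpx : p * h.x5 * p⁻¹ = c * h.x5 := by rw [hc]; group
    have hc1 : c ≠ 1 := fun e => hpC (h.mem_cx.mpr (by
      rw [e, one_mul, mul_inv_eq_iff_eq_mul] at hpx
      exact hpx.symm))
    have hc5 : c ^ 5 = 1 := by
      have h1 : (c * h.x5) ^ 5 = 1 := by rw [← hpx, conj_pow, h.x5_pow, mul_one, mul_inv_cancel]
      rwa [(hcz _ hxP).mul_pow, h.x5_pow, mul_one] at h1
    have hco : orderOf c = 5 := orderOf_eq_prime hc5 hc1
    have hcx : c ∉ Subgroup.zpowers h.x5 := by
      intro hcx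
      refine hpC (h.mem_cx.mpr ?_)
      have h1 : h.x5 ∈ Subgroup.zpowers c := by
        rw [Subgroup.eq_of_le_of_card_ge (Subgroup.zpowers_le.mpr hcx)
          (by rw [Nat.card_zpowers, Nat.card_zpowers, hco, h.x5_order])]
        exact Subgroup.mem_zpowers _
      obtain ⟨k, hk⟩ := h1
      exact hk ▸ (hcz p hp).zpow_left k
    have hcard : Nat.card P₀ = 25 := by
      have h1 : Nat.card P₀ ∣ 125 := hPc ▸ Subgroup.card_dvd_of_le hP₀P
      have h2 : ¬ Nat.card P₀ ∣ 5 := fun h5 => hcx (by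
        rw [Subgroup.eq_of_le_of_card_ge (Subgroup.zpowers_le.mpr hxP₀)
          (by rw [Nat.card_zpowers, h.x5_order]; exact Nat.le_of_dvd (by norm_num) h5)]
        exact hcP₀)
      have h3 : Nat.card P₀ ≠ 125 := fun e =>
        h125 (e ▸ Subgroup.card_dvd_of_le (hP₀O.trans hOC))
      obtain ⟨j, hj, hj'⟩ := (Nat.dvd_prime_pow (by norm_num : Nat.Prime 5)).mp
        (show Nat.card P₀ ∣ 5 ^ 3 from h1)
      rw [hj'] at h2 h3 ⊢
      interval_cases j <;> revert h2 h3 <;> norm_num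
    have hgen : ∀ z ∈ P₀, ∃ a b : Fin 5, z = h.x5 ^ (a : ℕ) * c ^ (b : ℕ) := by
      haveI := Fintype.ofFinite P₀
      let f : Fin 5 × Fin 5 → P₀ := fun r =>
        ⟨h.x5 ^ (r.1 : ℕ) * c ^ (r.2 : ℕ), mul_mem (pow_mem hxP₀ _) (pow_mem hcP₀ _)⟩
      have finj : Function.Injective f := by
        rintro ⟨a, b⟩ ⟨a', b'⟩ e
        have e' : h.x5 ^ (a : ℕ) * c ^ (b : ℕ) = h.x5 ^ (a' : ℕ) * c ^ (b' : ℕ) :=
          congrArg Subtype.val e
        have hb : b = b' := by
          by_contra hne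
          have hm' : c ^ ((b : ℕ) + (5 - b')) ∈ Subgroup.zpowers h.x5 := by
            have : c ^ ((b : ℕ) + (5 - b')) = (h.x5 ^ (a : ℕ))⁻¹ * h.x5 ^ (a' : ℕ) := by
              rw [pow_add, eq_inv_mul_iff_mul_eq, ← mul_assoc, e', mul_assoc, ← pow_add,
                show (b' : ℕ) + (5 - b') = 5 by omega, hc5, mul_one]
            rw [this]
            exact mul_mem (inv_mem (Subgroup.npow_mem_zpowers _ _)) (Subgroup.npow_mem_zpowers _ _)
          refine hcx (pow_mem_prime hc5 ?_ hm')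
          have := Fin.val_ne_of_ne hne
          omega
        subst hb
        have := pow_injOn_Iio_orderOf (x := h.x5) (Set.mem_Iio.mpr (by rw [h.x5_order]; exact a.2))
          (Set.mem_Iio.mpr (by rw [h.x5_order]; exact a'.2)) (mul_right_cancel e')
        exact Prod.ext (Fin.ext this) rfl
      intro z hz
      have hb : Function.Bijective f := (Fintype.bijective_iff_injective_and_card f).mpr
        ⟨finj, by rw [← Nat.card_eq_fintype_card (α := P₀), hcard]; rfl⟩
      obtain ⟨⟨a, b⟩, hab⟩ := hb.2 ⟨z, hz⟩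
      exact ⟨a, b, (congrArg Subtype.val hab).symm⟩
    obtain ⟨a, b, hab⟩ := hgen _ (hinv2 _ htm c hcP₀)
    have hxc : Commute h.x5 c := (hcz _ hxP).symm
    by_cases ha : a = 0
    · subst ha
      rw [Fin.val_zero, pow_zero, one_mul] at hab
      have hbb : c ^ ((b : ℕ) * b) = c ^ 1 := by
        rw [pow_one, pow_mul, ← hab, show h.t * c * h.t = h.t * c * h.t⁻¹ by rw [h.t_inv],
          conj_pow, ← hab, h.t_inv]
        rw [show h.t * (h.t * c * h.t) * h.t = (h.t * h.t) * c * (h.t * h.t) by group, h.t_sq]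
        group
      have hm5 := pow_eq_pow_iff_modEq.mp hbb
      rw [hco] at hm5
      have hb14 : b = 1 ∨ b = 4 := by
        have : ∀ b : Fin 5, (b : ℕ) * b % 5 = 1 → b = 1 ∨ b = 4 := by decide
        exact this b hm5
      rcases hb14 with rfl | rfl
      · refine hcx (fixt c (hP₀O hcP₀) ?_)
        rw [Fin.val_one, pow_one] at hab
        calc h.t * c = h.t * c * h.t * h.t := by rw [mul_assoc (h.t * c), h.t_sq, mul_one]
          _ = c * h.t := by rw [hab]
      · -- inverted by `t`, fixed by one of the others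
        have hinv : h.t * c * h.t = c⁻¹ := by
          rw [hab]; exact eq_inv_of_mul_eq_one_left (by rw [← pow_succ]; exact hc5)
        obtain ⟨i, j, hij⟩ := hgen _ (hinv2 _ hum c hcP₀)
        have ht1 : h.t * (h.u2 * c * h.u2) * h.t = (h.u2 * c * h.u2)⁻¹ := by
          calc h.t * (h.u2 * c * h.u2) * h.t = (h.t * h.u2) * c * (h.u2 * h.t) := by group
            _ = (h.u2 * h.t) * c * (h.t * h.u2) := by rw [kt, ku]
            _ = h.u2 * (h.t * c * h.t) * h.u2 := by group
            _ = h.u2 * c⁻¹ * h.u2 := by rw [hinv]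
            _ = (h.u2 * c * h.u2)⁻¹ := by
                rw [mul_inv_rev, mul_inv_rev, inv_eq_of_mul_eq_one_right hu]; group
        have hcij : Commute (h.x5 ^ (i : ℕ)) (c ^ (j : ℕ)) := hxc.pow_pow _ _
        rw [hij, show h.t * (h.x5 ^ (i : ℕ) * c ^ (j : ℕ)) * h.t =
          h.t * h.x5 ^ (i : ℕ) * h.t⁻¹ * (h.t * c ^ (j : ℕ) * h.t⁻¹) by
            simp only [mul_assoc, inv_mul_cancel_left, h.t_inv]
            rw [← mul_assoc h.t h.t, h.t_sq, one_mul],
          ← conj_pow, ← conj_pow, h.t_inv, h.u2_inv.2.2, hinv, mul_inv_rev, inv_pow,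
          ← hcij.inv_inv.eq] at ht1
        have hi : i = 0 := by
          have h1 : h.x5 ^ (i : ℕ) = (h.x5 ^ (i : ℕ))⁻¹ := mul_right_cancel ht1
          rw [eq_inv_iff_mul_eq_one, ← pow_add] at h1
          have := orderOf_dvd_of_pow_eq_one h1
          rw [h.x5_order] at this
          apply Fin.ext
          have := i.2
          show (i : ℕ) = 0
          omega
        subst hi
        rw [Fin.val_zero, pow_zero, one_mul] at hij
        have hjj : c ^ ((j : ℕ) * j) = c ^ 1 := by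
          rw [pow_one, pow_mul, ← hij,
            show h.u2 * c * h.u2 = h.u2 * c * h.u2⁻¹ by rw [inv_eq_of_mul_eq_one_right hu],
            conj_pow, ← hij, inv_eq_of_mul_eq_one_right hu]
          rw [show h.u2 * (h.u2 * c * h.u2) * h.u2 = (h.u2 * h.u2) * c * (h.u2 * h.u2) by group, hu]
          group
        have hm5' := pow_eq_pow_iff_modEq.mp hjj
        rw [hco] at hm5'
        have hj14 : j = 1 ∨ j = 4 := by
          have : ∀ b : Fin 5, (b : ℕ) * b % 5 = 1 → b = 1 ∨ b = 4 := by decide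
          exact this j hm5'
        have hex : ∃ k, orderOf k = 2 ∧ Commute k c := by
          rcases hj14 with rfl | rfl
          · refine ⟨h.u2, hu1, ?_⟩
            rw [Fin.val_one, pow_one] at hij
            calc h.u2 * c = h.u2 * c * h.u2 * h.u2 := by rw [mul_assoc (h.u2 * c), hu, mul_one]
              _ = c * h.u2 := by rw [hij]
          · refine ⟨h.w2, hu2, ?_⟩
            have hij' : h.u2 * c * h.u2 = c⁻¹ := by
              rw [hij]; exact eq_inv_of_mul_eq_one_left (by rw [← pow_succ]; exact hc5)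
            have hwc : h.w2 * c * h.w2 = c := by
              calc h.w2 * c * h.w2 = (h.u2 * h.t) * c * (h.t * h.u2) := by rw [kt, ku]
                _ = h.u2 * (h.t * c * h.t) * h.u2 := by group
                _ = h.u2 * c⁻¹ * h.u2 := by rw [hinv]
                _ = (h.u2 * c * h.u2)⁻¹ := by
                    rw [mul_inv_rev, mul_inv_rev, inv_eq_of_mul_eq_one_right hu]; group
                _ = c := by rw [hij', inv_inv]
            calc h.w2 * c = h.w2 * c * h.w2 * h.w2 := by rw [mul_assoc (h.w2 * c), hw, mul_one]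
              _ = c * h.w2 := by rw [hwc]
        obtain ⟨k, hk, hkc⟩ := hex
        obtain ⟨b', i', hi', hb'⟩ := h.five_class hk hkc hc5 hc1
        exact h125 (h.dvd_cx_of_conj hi' hb' hPc hcz)
    · obtain ⟨s, hs⟩ : ∃ s : Fin 5, (a : ℕ) * s % 5 = b := by
        have : ∀ a b : Fin 5, a ≠ 0 → ∃ s : Fin 5, (a : ℕ) * s % 5 = b := by decide
        exact this a b ha
      have hpk : ∀ n : ℕ, p ^ n * h.x5 * (p ^ n)⁻¹ = h.x5 * c ^ n := by
        intro n
        induction n with
        | zero => simp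
        | succ n ih =>
          calc p ^ (n + 1) * h.x5 * (p ^ (n + 1))⁻¹ = p * (p ^ n * h.x5 * (p ^ n)⁻¹) * p⁻¹ := by
                rw [pow_succ']; group
            _ = (p * h.x5 * p⁻¹) * (p * c ^ n * p⁻¹) := by rw [ih]; group
            _ = c * h.x5 * c ^ n := by
                rw [hpx, (((hcz p hp).pow_left n).symm).eq, mul_inv_cancel_right]
            _ = h.x5 * c ^ (n + 1) := by rw [pow_succ', ← hxc.eq, mul_assoc]
      have hconj : p ^ (s : ℕ) * h.x5 ^ (a : ℕ) * (p ^ (s : ℕ))⁻¹ = h.t * c * h.t := by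
        rw [← conj_pow, hpk, ((hxc.pow_right _)).mul_pow, ← pow_mul, mul_comm (s : ℕ),
          pow_eq_pow_mod _ hc5, hs, hab]
      refine h125 (h.dvd_cx_of_conj (i := (a : ℕ)) ?_ hconj
        (P := (P : Subgroup G).map (MulAut.conj h.t).toMonoidHom)
        ((Subgroup.card_map_of_injective (MulAut.conj h.t).injective).trans hPc) ?_)
      · have := a.2
        have : (a : ℕ) ≠ 0 := fun e => ha (Fin.ext e)
        omega
      · rintro _ ⟨z, hz, rfl⟩
        have := (hcz z hz).map (MulAut.conj h.t).toMonoidHom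
        simpa [MulAut.conj_apply, h.t_inv] using this
  -- a full Sylow subgroup
  have hP₀125 : Nat.card P₀ = 125 := by
    refine Nat.dvd_antisymm (hPc ▸ Subgroup.card_dvd_of_le hP₀P) ?_
    rw [hP₀c]
    have h1 : 125 ∣ m := (Nat.Coprime.dvd_mul_left (by norm_num : Nat.Coprime 125 2)).mp (hm ▸ h125)
    have hm0 : m ≠ 0 := fun e => hmodd (e ▸ dvd_zero _)
    exact (show 125 = 5 ^ 3 by norm_num) ▸ pow_dvd_pow 5
      ((Nat.Prime.pow_dvd_iff_le_factorization (by norm_num) hm0).mp (show 5 ^ 3 ∣ m from h1))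
  have hPeq : P₀ = (P : Subgroup G) := Subgroup.eq_of_le_of_card_ge hP₀P (by rw [hPc, hP₀125])
  have hxcomm : ∀ z ∈ P₀, Commute h.x5 z := fun z hz => h.mem_cx.mp (hOC (hP₀O hz))
  -- an involution other than `t` has fixed points
  have hfix : ∀ k k' : G, k ∈ h.four → orderOf k = 2 → orderOf k' = 2 → k * h.t = k' →
      h.t * k = k' → ∃ y ∈ P₀, Commute k y ∧ y ≠ 1 ∧ y ^ 5 = 1 := by
    intro k k' hk ho ho' e1 e2
    have hksq := h.four_sq hk
    by_cases hex : ∀ z ∈ P₀, k * z * k = z → z = 1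
    · exfalso
      have hi : ∀ z ∈ P₀, k * z * k = z⁻¹ := fun z hz => fpf_inverts hksq (hinv2 k hk) hex hz
      have hcomm : ∀ y ∈ P₀, ∀ z ∈ P₀, Commute y z := fun y hy z hz => comm_of_inverts hksq hi hy hz
      let φ : P₀ →* P₀ :=
        { toFun := fun q => ⟨q * (h.t * q * h.t), mul_mem q.2 (hinv2 _ htm _ q.2)⟩
          map_one' := Subtype.ext (by simp [h.t_sq])
          map_mul' := fun q r => Subtype.ext (by
            simp only [Subgroup.coe_mul]
            calc (q : G) * r * (h.t * (q * r) * h.t)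
                = q * r * ((h.t * q * h.t) * (h.t * r * h.t)) := by
                  rw [show h.t * (q : G) * h.t * (h.t * r * h.t) = h.t * q * (h.t * h.t) * r * h.t by
                    group, h.t_sq]
                  group
              _ = q * ((r : G) * (h.t * q * h.t)) * (h.t * r * h.t) := by group
              _ = q * ((h.t * q * h.t) * r) * (h.t * r * h.t) := by
                  rw [(hcomm _ r.2 _ (hinv2 _ htm _ q.2)).eq]
              _ = _ := by group) }
      have hrange : φ.range.map P₀.subtype ≤ Subgroup.zpowers h.x5 := by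
        rintro _ ⟨_, ⟨q, rfl⟩, rfl⟩
        refine fixt _ (hP₀O (φ q).2) ?_
        show h.t * ((q : G) * (h.t * q * h.t)) = (q : G) * (h.t * q * h.t) * h.t
        have := (hcomm _ q.2 _ (hinv2 _ htm _ q.2)).eq
        calc h.t * ((q : G) * (h.t * q * h.t)) = h.t * q * h.t * q * h.t := by group
          _ = (q : G) * (h.t * q * h.t) * h.t := by rw [this]
      have hker : φ.ker.map P₀.subtype ≤ P₀ ⊓ Subgroup.centralizer ({k'} : Set G) := by
        rintro _ ⟨q, hq, rfl⟩
        refine ⟨q.2, Subgroup.mem_centralizer_singleton_iff.mpr ?_⟩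
        have h1 : (q : G) * (h.t * q * h.t) = 1 := congrArg Subtype.val (MonoidHom.mem_ker.mp hq)
        have h2 : h.t * (q : G) * h.t = (q : G)⁻¹ := eq_inv_of_mul_eq_one_right h1
        have h3 : k' * (q : G) * k' = q := by
          calc k' * (q : G) * k' = (k * h.t) * q * (h.t * k) := by rw [e1, e2]
            _ = k * (h.t * q * h.t) * k := by group
            _ = k * (q : G)⁻¹ * k := by rw [h2]
            _ = q := by rw [hi _ (inv_mem q.2), inv_inv]
        have hk'2 : k' * k' = 1 := by rw [← pow_two, ← ho', pow_orderOf_eq_one]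
        calc (q : G) * k' = k' * q * k' * k' := by rw [h3]
          _ = k' * q := by rw [mul_assoc (k' * (q : G)), hk'2, mul_one]
      have h1 := Subgroup.card_dvd_of_le hrange
      have h2 := (Subgroup.card_dvd_of_le hker).trans (h.fix_card hg ho' (hP₀125 ▸ dvd_rfl))
      rw [Subgroup.card_map_of_injective Subtype.val_injective, Nat.card_zpowers, h.x5_order] at h1
      rw [Subgroup.card_map_of_injective Subtype.val_injective] at h2
      have h3 := φ.ker.card_mul_index
      rw [Subgroup.index_ker, hP₀125] at h3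
      have := Nat.le_of_dvd (by norm_num) h1
      have := Nat.le_of_dvd (by norm_num) h2
      nlinarith
    · push_neg at hex
      obtain ⟨y, hy, hyk, hy1⟩ := hex
      have hc : Commute k y := by
        calc k * y = k * y * k * k := by rw [mul_assoc (k * y), hksq, mul_one]
          _ = y * k := by rw [hyk]
      have h2 := (Subgroup.orderOf_dvd_natCard _ (show y ∈ P₀ ⊓ Subgroup.centralizer ({k} : Set G)
        from ⟨hy, Subgroup.mem_centralizer_singleton_iff.mpr hc.symm.eq⟩)).trans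
        (h.fix_card hg ho (hP₀125 ▸ dvd_rfl))
      exact ⟨y, hy, hc, hy1, orderOf_dvd_iff_pow_eq_one.mp h2⟩
  obtain ⟨yu, yuP, yuc, yu1, yu5⟩ := hfix _ _ hum hu1 hu2 ku kt
  obtain ⟨yw, ywP, ywc, yw1, yw5⟩ := hfix _ _ hwm hu2 hu1 h.klein_mul.2.2.2.2.1 h.klein_mul.2.2.2.2.2.1
  -- no other primes
  have hprime : ∀ p, p = 3 ∨ p = 7 → ¬ p ∣ m := by
    intro p hp hd
    haveI : Fact p.Prime := ⟨by rcases hp with rfl | rfl <;> norm_num⟩
    obtain ⟨R, hR⟩ := invariant_sylow hOodd h.four_pgroup hEn p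
    set R₀ := (R : Subgroup O).map O.subtype with hR₀
    have hRO : R₀ ≤ O := Subgroup.map_subtype_le _
    have hRg : IsPGroup p R₀ := R.2.map _
    have hRinv : ∀ e ∈ h.four, ∀ z ∈ R₀, e * z * e ∈ R₀ := fun e he z hz => by
      have := hR e he z hz
      rwa [inv_eq_of_mul_eq_one_right (h.four_sq he)] at this
    have hord : ∀ z ∈ R₀, ∃ j, orderOf z = p ^ j := fun z hz => by
      obtain ⟨j, hj⟩ := IsPGroup.iff_orderOf.mp hRg ⟨z, hz⟩
      exact ⟨j, by rw [← hj, Subgroup.orderOf_mk]⟩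
    have hzero : ∀ z ∈ R₀, Commute h.t z → z = 1 := by
      intro z hz hc
      obtain ⟨j, hj⟩ := hord z hz
      have h1 := (Subgroup.orderOf_dvd_natCard _ (fixt z (hRO hz) hc))
      rw [Nat.card_zpowers, h.x5_order, hj] at h1
      rw [← orderOf_eq_one_iff, hj]
      rcases j with _ | j
      · rfl
      · have := (dvd_pow_self p j.succ_ne_zero).trans h1
        rcases hp with rfl | rfl <;> norm_num at this
    have hfixk : ∀ k, orderOf k = 2 → ∀ y ∈ P₀, Commute k y → y ≠ 1 → y ^ 5 = 1 →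
        ∀ z ∈ R₀, Commute k z → z = 1 := by
      intro k ho y hy hyc hy1 hy5 z hz hzc
      by_contra hz1
      obtain ⟨j, hj⟩ := hord z hz
      have h1 := Subgroup.orderOf_dvd_natCard (Subgroup.centralizer ({k} : Set G))
        (Subgroup.mem_centralizer_singleton_iff.mpr hzc.symm.eq)
      rw [h.card_cent_inv ho, hj] at h1
      have hj0 : j ≠ 0 := fun e => hz1 (orderOf_eq_one_iff.mp (by rw [hj, e, pow_zero]))
      rcases hp with rfl | rfl
      · have hj2 : ¬ 2 ≤ j := fun h2 => by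
          have := (pow_dvd_pow 3 h2).trans h1
          norm_num at this
        obtain rfl : j = 1 := by omega
        exact h.five_three_cent ho hOodd (hP₀O hy) (hRO hz) hyc hzc hy5
          (orderOf_dvd_iff_pow_eq_one.mp (by rw [hj]; norm_num)) hy1 hz1
      · have := (dvd_pow_self 7 hj0).trans h1
        norm_num at this
    have hcm : ∀ (k z : G), k * k = 1 → k * z * k = z → Commute k z := fun k z hk e => by
      calc k * z = k * z * k * k := by rw [mul_assoc (k * z), hk, mul_one]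
        _ = z * k := by rw [e]
    have htr : ∀ z ∈ R₀, h.t * z * h.t = z⁻¹ := fun z hz => fpf_inverts h.t_sq (hRinv _ htm)
      (fun y hy e => hzero y hy (hcm _ _ h.t_sq e)) hz
    have hur : ∀ z ∈ R₀, h.u2 * z * h.u2 = z⁻¹ := fun z hz => fpf_inverts hu (hRinv _ hum)
      (fun y hy e => hfixk _ hu1 yu yuP yuc yu1 yu5 y hy (hcm _ _ hu e)) hz
    have htriv : R₀ = ⊥ := (Subgroup.eq_bot_iff_forall _).mpr fun z hz => by
      refine hfixk _ hu2 yw ywP ywc yw1 yw5 z hz (hcm _ _ hw ?_)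
      calc h.w2 * z * h.w2 = (h.u2 * h.t) * z * (h.t * h.u2) := by rw [kt, ku]
        _ = h.u2 * (h.t * z * h.t) * h.u2 := by group
        _ = z := by rw [htr z hz, hur _ (inv_mem hz), inv_inv]
    have h1 : Nat.card R₀ = 1 := by rw [htriv, Subgroup.card_bot]
    rw [hR₀, Subgroup.card_map_of_injective Subtype.val_injective, R.card_eq_multiplicity, hOc] at h1
    have hm0 : m ≠ 0 := fun e => hmodd (e ▸ dvd_zero _)
    have h2 := ((Fact.out : p.Prime).pow_dvd_iff_le_factorization hm0).mp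
      (show p ^ 1 ∣ m by rwa [pow_one])
    have := Nat.one_lt_pow (show m.factorization p ≠ 0 by omega) (Fact.out : p.Prime).one_lt
    omega
  have hmd : m ∣ 125 := by
    have h1 : m ∣ 189000 := hg ▸ hOc ▸ Subgroup.card_subgroup_dvd_card O
    have c2 : Nat.Coprime m 2 := ((Nat.Prime.coprime_iff_not_dvd Nat.prime_two).mpr hmodd).symm
    have c3 : Nat.Coprime m 3 :=
      ((Nat.Prime.coprime_iff_not_dvd (by norm_num)).mpr (hprime 3 (Or.inl rfl))).symm
    have c7 : Nat.Coprime m 7 :=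
      ((Nat.Prime.coprime_iff_not_dvd (by norm_num)).mpr (hprime 7 (Or.inr rfl))).symm
    exact (((c2.pow_right 3).mul_right (c3.pow_right 3)).mul_right c7).dvd_of_dvd_mul_right
      (show m ∣ 125 * (2 ^ 3 * 3 ^ 3 * 7) by norm_num; exact h1)
  have hm125 : m = 125 := Nat.dvd_antisymm hmd
    (hP₀125 ▸ hOc ▸ Subgroup.card_dvd_of_le hP₀O)
  have hOP : O = P₀ := (Subgroup.eq_of_le_of_card_ge hP₀O (by rw [hOc, hm125, hP₀125])).symm
  refine ⟨P, ?_⟩
  refine
    { card := hPc
      le := hPeq ▸ hP₀O.trans hOC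
      card_cx := by rw [hm, hm125]
      mem := hPeq ▸ hxP₀
      coset := fun z hz => ?_
      inv := hPeq ▸ hQinv
      fix_u := ⟨yu, hPeq ▸ yuP, yuc, yu1, yu5⟩
      fix_w := ⟨yw, hPeq ▸ ywP, ywc, yw1, yw5⟩ }
  rw [← hPeq, ← hOP]
  have hidx : (O.subgroupOf h.cx).index = 2 := by
    have h3 := (O.subgroupOf h.cx).card_mul_index
    rw [Nat.card_congr (Subgroup.subgroupOfEquivOfLe hOC).toEquiv, hOc, hm, hm125] at h3
    omega
  have ht : (⟨h.t, h.t_mem_cx⟩ : h.cx) ∉ O.subgroupOf h.cx := fun hmem => by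
    have := ((hO _).mp (Subgroup.mem_subgroupOf.mp hmem)).2
    rw [h.t_order] at this
    exact this dvd_rfl
  have key := Subgroup.mul_mem_iff_of_index_two hidx (a := ⟨h.t, h.t_mem_cx⟩) (b := ⟨z, hz⟩)
  by_cases hzO : (⟨z, hz⟩ : h.cx) ∈ O.subgroupOf h.cx
  · exact Or.inl (Subgroup.mem_subgroupOf.mp hzO)
  · exact Or.inr (Subgroup.mem_subgroupOf.mp (key.mpr ⟨fun e => absurd e ht, fun e => absurd e hzO⟩))

end Hyp

end CfsgLib.JOneOrder
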