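import Mathlib

/-!
# The degree equations of the principal 2-block in Janko's characterisation
-/

set_option autoImplicit false
set_option Elab.async false

namespace CfsgLib.JOneOrder

/-- The `k`-th number of the progression `r` modulo `8`. -/
def span8 (r : ℤ) (k : ℕ) : ℤ := 8 * ((k : ℤ) - 164) + r

/-- Equality of integers as a Boolean. -/
def zEq (x y : ℤ) : Bool := (Int.decEq x y).decide

/-- The second equation, for given `A`, `B`. -/
def secondOK (a b d e g A B D : ℤ) : Bool :=
  let E := -A - B - D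
  cond (zEq E 0) true
    (!zEq ((a * (B * D * E) + b * (A * D * E) + d * (A * B * E) + e * (A * B * D)) * g)
      (57600 * (A * B * D * E)))

/-- The first equation fails, or the conclusion `fin` holds. -/
def firstOK (a b c : ℤ) (fin : ℤ → ℤ → ℤ → Bool) (A B : ℤ) : Bool :=
  let C := 1 - A - B
  let den := A * B * C
  let num := den - a * (B * C) - b * (A * C) - c * (A * B)
  cond (zEq num 0) true
    (cond (zEq (86400 * den % num) 0)
      (let g := 86400 * den / num
       cond (zEq (g % 840) 0)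
        (cond (decide (g < 46920) || decide (g ≤ A * A) || decide (g ≤ B * B) || decide (g ≤ C * C))
          true (fin g A B)) true) true)

/-- The conclusion in the first configuration. -/
def finA (g A B : ℤ) : Bool :=
  cond (zEq g 175560 || zEq g 189000) true
    (decide (g ≤ 1690000) && (List.range 328).all fun k => secondOK 25 25 9 9 g A B (span8 3 k))

/-- The conclusion in the second configuration. -/
def finB (g A B : ℤ) : Bool :=
  decide (g ≤ 1690000) && (List.range 328).all fun k => secondOK 25 4 36 9 g A B (span8 6 k)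

theorem tableA : ((List.range 328).all fun i => (List.range 328).all fun j =>
    firstOK 25 25 1 finA (span8 5 i) (span8 5 j)) = true := by
  decide +kernel

theorem tableB : ((List.range 328).all fun i => (List.range 328).all fun j =>
    firstOK 25 4 4 finB (span8 5 i) (span8 2 j)) = true := by
  decide +kernel

theorem exists_span {r X : ℤ} (hr : 0 ≤ r ∧ r < 8) (h : X % 8 = r) (hb : |X| ≤ 1300) :
    ∃ k < 328, X = span8 r k := by
  rw [abs_le] at hb
  exact ⟨(X / 8 + 164).toNat, by omega, by unfold span8; omega⟩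

theorem small_term {a X : ℚ} (ha : 0 ≤ a) (hX : 650 ≤ |X|) : |a / X| ≤ a / 650 := by
  rw [abs_div, abs_of_nonneg ha]
  exact div_le_div_of_nonneg_left ha (by norm_num) hX

theorem no_middle {X : ℤ} (h : X % 8 = 5) (h1 : (0.87 : ℚ) < 25 / X) (h2 : (25 : ℚ) / X < 1.09) :
    False := by
  have hpos : (0 : ℚ) < X := by
    by_contra hn
    have : (25 : ℚ) / X ≤ 0 := div_nonpos_of_nonneg_of_nonpos (by norm_num) (not_lt.mp hn)
    linarith
  rw [lt_div_iff₀ hpos] at h1
  rw [div_lt_iff₀ hpos] at h2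
  have h3 : (X : ℚ) < (29 : ℤ) := by norm_num; linarith
  have h4 : ((22 : ℤ) : ℚ) < X := by norm_num; linarith
  have h3' : X < 29 := by exact_mod_cast h3
  have h4' : 22 < X := by exact_mod_cast h4
  omega

/-- A term with a large denominator on at least two places bounds every variable. -/
theorem box {A B C : ℤ} {g : ℕ} {a b c : ℚ} (ha : 0 ≤ a ∧ a ≤ 25) (hb : 0 ≤ b ∧ b ≤ 25)
    (hc : 0 ≤ c ∧ c ≤ 4) (hgA : A * A < g) (hgB : B * B < g) (hgC : C * C < g)
    (hsum : A + B + C = 1) (heq : 1 - a / A - b / B - c / C = 86400 / (g : ℚ))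
    (hA : ∀ lo hi : ℚ, 0.87 ≤ lo → hi ≤ 1.09 → lo < a / A → a / A < hi → False)
    (hB : ∀ lo hi : ℚ, 0.87 ≤ lo → hi ≤ 1.09 → lo < b / B → b / B < hi → False)
    (hC : c / C ≤ 0.7) : |A| ≤ 1300 ∧ |B| ≤ 1300 := by
  by_contra hne
  have hbig : 1300 * 1300 < (g : ℤ) := by
    rw [not_and_or, not_le, not_le] at hne
    rcases hne with h | h
    · nlinarith [abs_mul_abs_self A, abs_nonneg A]
    · nlinarith [abs_mul_abs_self B, abs_nonneg B]
  have hg : ((1690000 : ℤ) : ℚ) < ((g : ℤ) : ℚ) := by exact_mod_cast (by linarith : (1690000 : ℤ) < g)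
  have hg' : (1690000 : ℚ) < (g : ℚ) := by push_cast at hg; exact hg
  have hK1 : (0 : ℚ) < 86400 / (g : ℚ) := by positivity
  have hK2 : 86400 / (g : ℚ) < 0.052 := by
    rw [div_lt_iff₀ (by linarith)]; linarith
  have cast : ∀ {X : ℤ}, 650 ≤ |X| → (650 : ℚ) ≤ |(X : ℚ)| := fun h => by exact_mod_cast h
  have htwo : (650 ≤ |A| ∧ 650 ≤ |B|) ∨ (650 ≤ |A| ∧ 650 ≤ |C|) ∨ (650 ≤ |B| ∧ 650 ≤ |C|) := by
    rw [not_and_or, not_le, not_le] at hne
    rcases abs_cases A with ⟨e1, s1⟩ | ⟨e1, s1⟩ <;> rcases abs_cases B with ⟨e2, s2⟩ | ⟨e2, s2⟩ <;>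
      rcases abs_cases C with ⟨e3, s3⟩ | ⟨e3, s3⟩ <;> omega
  rcases htwo with ⟨u, v⟩ | ⟨u, v⟩ | ⟨u, v⟩
  · have h1 := abs_le.mp (small_term ha.1 (cast u))
    have h2 := abs_le.mp (small_term hb.1 (cast v))
    linarith [ha.2, hb.2]
  · have h1 := abs_le.mp (small_term ha.1 (cast u))
    have h2 := abs_le.mp (small_term hc.1 (cast v))
    exact hB (b / B - 1e-9) (b / B + 1e-9) (by linarith [ha.2, hc.2]) (by linarith [ha.2, hc.2])
      (by linarith) (by linarith)
  · have h1 := abs_le.mp (small_term hb.1 (cast u))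
    have h2 := abs_le.mp (small_term hc.1 (cast v))
    exact hA (a / A - 1e-9) (a / A + 1e-9) (by linarith [hb.2, hc.2]) (by linarith [hb.2, hc.2])
      (by linarith) (by linarith)

theorem clear_first {A B C g a b c : ℤ} (hA : A ≠ 0) (hB : B ≠ 0) (hC : C ≠ 0) (hg : g ≠ 0)
    (h : 1 - (a : ℚ) / A - b / B - c / C = 86400 / g) :
    86400 * (A * B * C) = g * (A * B * C - a * (B * C) - b * (A * C) - c * (A * B)) := by
  have hA' : (A : ℚ) ≠ 0 := by exact_mod_cast hA
  have hB' : (B : ℚ) ≠ 0 := by exact_mod_cast hB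
  have hC' : (C : ℚ) ≠ 0 := by exact_mod_cast hC
  have hg' : (g : ℚ) ≠ 0 := by exact_mod_cast hg
  field_simp at h
  have : ((86400 * (A * B * C) : ℤ) : ℚ) =
      ((g * (A * B * C - a * (B * C) - b * (A * C) - c * (A * B)) : ℤ) : ℚ) := by
    push_cast; linear_combination -h
  exact_mod_cast this

theorem clear_second {A B D E g a b d e : ℤ} (hA : A ≠ 0) (hB : B ≠ 0) (hD : D ≠ 0) (hE : E ≠ 0)
    (hg : g ≠ 0) (h : (a : ℚ) / A + b / B + d / D + e / E = 57600 / g) :
    (a * (B * D * E) + b * (A * D * E) + d * (A * B * E) + e * (A * B * D)) * g =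
      57600 * (A * B * D * E) := by
  have hA' : (A : ℚ) ≠ 0 := by exact_mod_cast hA
  have hB' : (B : ℚ) ≠ 0 := by exact_mod_cast hB
  have hD' : (D : ℚ) ≠ 0 := by exact_mod_cast hD
  have hE' : (E : ℚ) ≠ 0 := by exact_mod_cast hE
  have hg' : (g : ℚ) ≠ 0 := by exact_mod_cast hg
  field_simp at h
  have : (((a * (B * D * E) + b * (A * D * E) + d * (A * B * E) + e * (A * B * D)) * g : ℤ) : ℚ) =
      ((57600 * (A * B * D * E) : ℤ) : ℚ) := by
    push_cast; linear_combination h
  exact_mod_cast this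

theorem zEq_iff {x y : ℤ} : zEq x y = true ↔ x = y := by
  unfold zEq; exact decide_eq_true_iff

theorem extract {a b c : ℤ} {fin : ℤ → ℤ → ℤ → Bool} {A B C : ℤ} {g : ℕ}
    (hok : firstOK a b c fin A B = true) (hsum : A + B + C = 1) (hA : A ≠ 0) (hB : B ≠ 0) (hC : C ≠ 0)
    (h840 : 840 ∣ g) (hlo : 46920 ≤ g) (hgA : A * A < g) (hgB : B * B < g) (hgC : C * C < g)
    (h : 86400 * (A * B * C) = (g : ℤ) * (A * B * C - a * (B * C) - b * (A * C) - c * (A * B))) :
    fin g A B = true := by
  obtain rfl : C = 1 - A - B := by omega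
  set num := A * B * (1 - A - B) - a * (B * (1 - A - B)) - b * (A * (1 - A - B)) - c * (A * B)
    with hnum
  have hn0 : num ≠ 0 := by
    intro e
    rw [e, mul_zero] at h
    rcases mul_eq_zero.mp h with h' | h'
    · omega
    · rcases mul_eq_zero.mp h' with h'' | h''
      · rcases mul_eq_zero.mp h'' with h3 | h3 <;> contradiction
      · contradiction
  have hdiv : 86400 * (A * B * (1 - A - B)) / num = g := by rw [h, Int.mul_ediv_cancel _ hn0]
  have hmod : 86400 * (A * B * (1 - A - B)) % num = 0 := by rw [h]; exact Int.mul_emod_left _ _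
  have h8 : (g : ℤ) % 840 = 0 := by omega
  unfold firstOK at hok
  simp only [← hnum] at hok
  rw [show zEq num 0 = false from Bool.eq_false_iff.mpr fun e => hn0 (zEq_iff.mp e), cond_false,
    zEq_iff.mpr hmod, cond_true, hdiv, zEq_iff.mpr h8, cond_true] at hok
  rw [show (decide ((g : ℤ) < 46920) || decide ((g : ℤ) ≤ A * A) || decide ((g : ℤ) ≤ B * B) ||
      decide ((g : ℤ) ≤ (1 - A - B) * (1 - A - B))) = false from by
    simp only [Bool.or_eq_false_iff, decide_eq_false_iff_not, not_le, not_lt]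
    exact ⟨⟨⟨by omega, hgA⟩, hgB⟩, hgC⟩, cond_false] at hok
  exact hok

theorem secondOK_false {a b d e g A B D E : ℤ} (hsum : A + B + D + E = 0) (hE : E ≠ 0)
    (h : (a * (B * D * E) + b * (A * D * E) + d * (A * B * E) + e * (A * B * D)) * g =
      57600 * (A * B * D * E)) (hok : secondOK a b d e g A B D = true) : False := by
  obtain rfl : E = -A - B - D := by omega
  simp only [secondOK] at hok
  rw [show zEq (-A - B - D) 0 = false from Bool.eq_false_iff.mpr fun e => hE (zEq_iff.mp e),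
    cond_false, zEq_iff.mpr h] at hok
  exact Bool.noConfusion hok

theorem span_of_bound {r X : ℤ} {g : ℕ} (hr : 0 ≤ r ∧ r < 8) (h : X % 8 = r) (hb : (g : ℤ) ≤ 1690000)
    (hX : X * X < g) : ∃ k < 328, X = span8 r k :=
  exists_span hr h (by nlinarith [abs_mul_abs_self X, abs_nonneg X])

/-- The first configuration leaves two orders. -/
theorem caseA {g : ℕ} {A B C D E : ℤ} (h840 : 840 ∣ g) (hlo : 46920 ≤ g)
    (mA : A % 8 = 5) (mB : B % 8 = 5) (mC : C % 8 = 7) (mD : D % 8 = 3) (mE : E % 8 = 3)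
    (nA : 6 ≤ |A|) (nB : 6 ≤ |B|) (nC : 2 ≤ |C|)
    (qA : A * A < g) (qB : B * B < g) (qC : C * C < g) (qD : D * D < g)
    (hp : A + B + C = 1) (hu : A + B + D + E = 0)
    (e1 : 1 - 25 / (A : ℚ) - 25 / B - 1 / C = 86400 / g)
    (e2 : 25 / (A : ℚ) + 25 / B + 9 / D + 9 / E = 57600 / g) :
    g = 175560 ∨ g = 189000 := by
  have hA0 : A ≠ 0 := fun e => by simp [e] at nA
  have hB0 : B ≠ 0 := fun e => by simp [e] at nB
  have hC0 : C ≠ 0 := fun e => by simp [e] at nC
  obtain ⟨bA, bB⟩ := box (a := 25) (b := 25) (c := 1) (by norm_num) (by norm_num) (by norm_num) qA qB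
    qC hp e1 (fun lo hi l h x y => no_middle mA (by linarith) (by linarith))
    (fun lo hi l h x y => no_middle mB (by linarith) (by linarith)) (by
      have : (2 : ℚ) ≤ |(C : ℚ)| := by exact_mod_cast nC
      have h1 : |(1 : ℚ) / C| ≤ 1 / 2 := by
        rw [abs_div, abs_one]; exact div_le_div_of_nonneg_left zero_le_one two_pos this
      linarith [(abs_le.mp h1).2])
  obtain ⟨i, hi, hiA⟩ := exists_span (by norm_num) mA bA
  obtain ⟨j, hj, hjB⟩ := exists_span (by norm_num) mB bB
  have hok := List.all_eq_true.mp (List.all_eq_true.mp tableA i (List.mem_range.mpr hi)) j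
    (List.mem_range.mpr hj)
  rw [← hiA, ← hjB] at hok
  have hfin := extract hok hp (by omega) (by omega) (by omega) h840 hlo qA qB qC
    (clear_first (g := (g : ℤ)) (by omega) (by omega) (by omega) (by omega) (by push_cast; exact e1))
  simp only [finA] at hfin
  by_cases hg : zEq (g : ℤ) 175560 || zEq (g : ℤ) 189000
  · simp only [Bool.or_eq_true, zEq_iff] at hg
    omega
  · exfalso
    rw [Bool.eq_false_iff.mpr hg, cond_false, Bool.and_eq_true, decide_eq_true_iff] at hfin
    obtain ⟨hgb, hfin⟩ := hfin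
    obtain ⟨k, hk, hkD⟩ := span_of_bound (by norm_num) mD hgb qD
    refine secondOK_false hu (by omega)
      (clear_second (g := (g : ℤ)) (a := 25) (b := 25) (d := 9) (e := 9) (by omega) (by omega) (by omega) (by omega)
        (by omega) (by push_cast; exact e2)) ?_
    rw [hkD]
    exact List.all_eq_true.mp hfin k (List.mem_range.mpr hk)

/-- The second configuration does not occur. -/
theorem caseB {g : ℕ} {A B C D E : ℤ} (h840 : 840 ∣ g) (hlo : 46920 ≤ g)
    (mA : A % 8 = 5) (mB : B % 8 = 2) (mD : D % 8 = 6) (mE : E % 8 = 3)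
    (nA : 6 ≤ |A|) (nB : 6 ≤ |B|) (nC : 6 ≤ |C|)
    (qA : A * A < g) (qB : B * B < g) (qC : C * C < g) (qD : D * D < g)
    (hp : A + B + C = 1) (hu : A + B + D + E = 0)
    (e1 : 1 - 25 / (A : ℚ) - 4 / B - 4 / C = 86400 / g)
    (e2 : 25 / (A : ℚ) + 4 / B + 36 / D + 9 / E = 57600 / g) : False := by
  have small : ∀ {X : ℤ}, 6 ≤ |X| → |(4 : ℚ) / X| ≤ 2 / 3 := fun {X} h => by
    have : (6 : ℚ) ≤ |(X : ℚ)| := by exact_mod_cast h
    rw [abs_div, abs_of_nonneg (by norm_num : (0 : ℚ) ≤ 4)]
    exact (div_le_div_of_nonneg_left (by norm_num) (by norm_num) this).trans (le_of_eq (by norm_num))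
  have hA0 : A ≠ 0 := fun e => by simp [e] at nA
  have hB0 : B ≠ 0 := fun e => by simp [e] at nB
  have hC0 : C ≠ 0 := fun e => by simp [e] at nC
  obtain ⟨bA, bB⟩ := box (a := 25) (b := 4) (c := 4) (by norm_num) (by norm_num) (by norm_num) qA qB
    qC hp e1 (fun lo hi l h x y => no_middle mA (by linarith) (by linarith))
    (fun lo hi l h x y => by have := (abs_le.mp (small nB)).2; linarith)
    (by linarith [(abs_le.mp (small nC)).2])
  obtain ⟨i, hi, hiA⟩ := exists_span (by norm_num) mA bA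
  obtain ⟨j, hj, hjB⟩ := exists_span (by norm_num) mB bB
  have hok := List.all_eq_true.mp (List.all_eq_true.mp tableB i (List.mem_range.mpr hi)) j
    (List.mem_range.mpr hj)
  rw [← hiA, ← hjB] at hok
  have hfin := extract hok hp (by omega) (by omega) (by omega) h840 hlo qA qB qC
    (clear_first (g := (g : ℤ)) (by omega) (by omega) (by omega) (by omega) (by push_cast; exact e1))
  simp only [finB, Bool.and_eq_true, decide_eq_true_iff] at hfin
  obtain ⟨hgb, hfin⟩ := hfin
  obtain ⟨k, hk, hkD⟩ := span_of_bound (by norm_num) mD hgb qD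
  refine secondOK_false hu (by omega)
    (clear_second (g := (g : ℤ)) (a := 25) (b := 4) (d := 36) (e := 9) (by omega) (by omega) (by omega) (by omega)
      (by omega) (by push_cast; exact e2)) ?_
  rw [hkD]
  exact List.all_eq_true.mp hfin k (List.mem_range.mpr hk)

end CfsgLib.JOneOrder
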