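import Cfsg.Agent.Lib.JOneOrder.Section
import Cfsg.Agent.Lib.JOneOrder.Num

/-!
# The two configurations of the three norm-four vectors
-/

set_option autoImplicit false
set_option Elab.async false
set_option maxHeartbeats 800000

namespace CfsgLib.JOneOrder

variable {ι : Type*} [DecidableEq ι] {S : Finset ι} {o : ι} {d : Fin 3 → ι → ℤ} {n : ι → ℕ}
  {g : ℕ}

theorem split_sum {M : Type*} [AddCommMonoid M] (F : ι → M) {T : Finset ι} (hT : T ⊆ S)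
    (hF : ∀ χ ∈ S, χ ∉ T → F χ = 0) : ∑ χ ∈ S, F χ = ∑ χ ∈ T, F χ :=
  (Finset.sum_subset hT hF).symm

theorem four_support {v : ι → ℤ} (hn : ∀ χ ∈ S, 0 < n χ) (h4 : ∑ χ ∈ S, v χ * v χ = 4)
    (hdeg : ∑ χ ∈ S, (n χ : ℤ) * v χ = 0) :
    (∀ χ ∈ S, v χ = -1 ∨ v χ = 0 ∨ v χ = 1) ∧ (S.filter fun χ => v χ ≠ 0).card = 4 := by
  have hsmall : ∀ χ ∈ S, v χ = -1 ∨ v χ = 0 ∨ v χ = 1 := by
    intro χ hχ
    have hle : v χ * v χ ≤ 4 :=
      h4 ▸ Finset.single_le_sum (fun ψ _ => mul_self_nonneg (v ψ)) hχ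
    by_contra hne
    have h1 : v χ ≤ 2 := by nlinarith
    have h2 : -2 ≤ v χ := by nlinarith
    have hsq : v χ * v χ = 4 := by interval_cases v χ <;> omega
    have hz : ∀ ψ ∈ S, ψ ≠ χ → v ψ = 0 := by
      intro ψ hψ hψχ
      rw [← Finset.add_sum_erase S _ hχ] at h4
      have hrest : ∑ φ ∈ S.erase χ, v φ * v φ = 0 := by linarith
      exact mul_self_eq_zero.mp ((Finset.sum_eq_zero_iff_of_nonneg
        (fun φ _ => mul_self_nonneg (v φ))).mp hrest ψ (Finset.mem_erase.mpr ⟨hψχ, hψ⟩))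
    rw [Finset.sum_eq_single_of_mem χ hχ fun ψ hψ hne => by rw [hz ψ hψ hne, mul_zero]] at hdeg
    rcases mul_eq_zero.mp hdeg with h' | h'
    · have := hn χ hχ
      omega
    · rw [h'] at hsq; norm_num at hsq
  refine ⟨hsmall, ?_⟩
  rw [← Finset.sum_filter_of_ne (p := fun χ => v χ ≠ 0) (fun χ _ hne h0 => hne (by rw [h0, mul_zero])),
    Finset.sum_congr rfl (g := fun _ => (1 : ℤ)) fun χ hχ => ?_, Finset.sum_const, nsmul_eq_mul,
    mul_one] at h4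
  · exact_mod_cast h4
  · obtain ⟨h1, h2⟩ := Finset.mem_filter.mp hχ
    rcases hsmall χ h1 with e | e | e
    · rw [e]; rfl
    · exact absurd e h2
    · rw [e]; rfl

theorem small_fin {x : ℤ} (hx : x = -1 ∨ x = 0 ∨ x = 1) : ∃ k : Fin 3, x = (k : ℤ) - 1 := by
  rcases hx with rfl | rfl | rfl
  exacts [⟨0, rfl⟩, ⟨1, rfl⟩, ⟨2, rfl⟩]

theorem agree_fin : ∀ x y z u v w : Fin 3, let f := fun k : Fin 3 => (k : ℤ) - 1
    f x ≠ 0 → f y ≠ 0 → f z ≠ 0 → f x * f u + (f y * f v + f z * f w) = 2 →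
    (f u = f x ∧ f v = f y ∧ f w = 0) ∨ (f u = f x ∧ f w = f z ∧ f v = 0) ∨
      (f v = f y ∧ f w = f z ∧ f u = 0) := by
  decide +kernel

theorem agree_int {x y z u v w : ℤ} (hx : x = -1 ∨ x = 0 ∨ x = 1) (hy : y = -1 ∨ y = 0 ∨ y = 1)
    (hz : z = -1 ∨ z = 0 ∨ z = 1) (hu : u = -1 ∨ u = 0 ∨ u = 1) (hv : v = -1 ∨ v = 0 ∨ v = 1)
    (hw : w = -1 ∨ w = 0 ∨ w = 1) (x0 : x ≠ 0) (y0 : y ≠ 0) (z0 : z ≠ 0)
    (e : x * u + (y * v + z * w) = 2) :
    (u = x ∧ v = y ∧ w = 0) ∨ (u = x ∧ w = z ∧ v = 0) ∨ (v = y ∧ w = z ∧ u = 0) := by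
  obtain ⟨a, rfl⟩ := small_fin hx
  obtain ⟨b, rfl⟩ := small_fin hy
  obtain ⟨c, rfl⟩ := small_fin hz
  obtain ⟨p, rfl⟩ := small_fin hu
  obtain ⟨q, rfl⟩ := small_fin hv
  obtain ⟨r, rfl⟩ := small_fin hw
  exact agree_fin a b c p q r x0 y0 z0 e

variable (h : Rows S o d n g)

namespace Rows

include h

theorem norm4 {i : Fin 3} (hi : i = 1 ∨ i = 2) : ∑ χ ∈ S, d i χ * d i χ = 4 := by
  rcases hi with rfl | rfl <;> exact h.gram _ _

/-- The value at the involution. -/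
theorem sign_facts {χ : ι} (hχ : χ ∈ S) (hne : χ ≠ o) :
    ∃ m : ℕ, (n χ : ℤ) + 7 * (d 0 χ + 2 * d 1 χ + 2 * d 2 χ) = 8 * m ∧
      (n χ : ℤ) ≠ d 0 χ + 2 * d 1 χ + 2 * d 2 χ ∧ 0 < n χ := by
  obtain ⟨m, hm⟩ := h.mult χ hχ
  exact ⟨m, hm, h.lt χ hχ hne, h.pos χ hχ⟩

theorem qp : ∑ χ ∈ S, (d 1 χ + d 2 χ - d 0 χ) * (d 1 χ + d 2 χ - d 0 χ) = 4 := by
  have e : ∀ χ, (d 1 χ + d 2 χ - d 0 χ) * (d 1 χ + d 2 χ - d 0 χ) = d 1 χ * d 1 χ + d 2 χ * d 2 χ +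
      d 0 χ * d 0 χ + 2 * (d 1 χ * d 2 χ) - 2 * (d 0 χ * d 1 χ) - 2 * (d 0 χ * d 2 χ) := fun χ => by
    ring
  simp only [e, Finset.sum_add_distrib, Finset.sum_sub_distrib, ← Finset.mul_sum, h.gram]
  rfl

theorem qpi {i : Fin 3} (hi : i = 1 ∨ i = 2) :
    ∑ χ ∈ S, (d 1 χ + d 2 χ - d 0 χ) * d i χ = 2 := by
  simp only [sub_mul, add_mul, Finset.sum_add_distrib, Finset.sum_sub_distrib, h.gram]
  rcases hi with rfl | rfl <;> rfl

theorem pdeg : ∑ χ ∈ S, (n χ : ℤ) * (d 1 χ + d 2 χ - d 0 χ) = 0 := by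
  simp only [mul_sub, mul_add, Finset.sum_add_distrib, Finset.sum_sub_distrib, h.deg]
  ring

theorem p_weight : ∑ χ ∈ S, (((d 0 χ + 2 * d 1 χ + 2 * d 2 χ) ^ 2 *
    (d 1 χ + d 2 χ - d 0 χ) : ℤ) : ℚ) / (n χ : ℚ) = -(86400 / (g : ℚ)) := by
  have e : ∀ χ, (((d 0 χ + 2 * d 1 χ + 2 * d 2 χ) ^ 2 * (d 1 χ + d 2 χ - d 0 χ) : ℤ) : ℚ) /
      (n χ : ℚ) = (((d 0 χ + 2 * d 1 χ + 2 * d 2 χ) ^ 2 * d 1 χ : ℤ) : ℚ) / (n χ : ℚ) +
        (((d 0 χ + 2 * d 1 χ + 2 * d 2 χ) ^ 2 * d 2 χ : ℤ) : ℚ) / (n χ : ℚ) -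
        (((d 0 χ + 2 * d 1 χ + 2 * d 2 χ) ^ 2 * d 0 χ : ℤ) : ℚ) / (n χ : ℚ) := fun χ => by
    push_cast; ring
  simp only [e, Finset.sum_add_distrib, Finset.sum_sub_distrib, h.weight]
  simp
  ring

/-- Outside the support of the first vector the two others agree where both are nonzero. -/
theorem common {χ : ι} (hχ : χ ∈ S) (hp : d 1 χ + d 2 χ - d 0 χ = 0) (h1 : d 1 χ ≠ 0)
    (h2 : d 2 χ ≠ 0) : d 1 χ = d 2 χ := by
  have s1 := (four_support h.pos (h.norm4 (Or.inl rfl)) (h.deg 1)).1 χ hχ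
  have s2 := (four_support h.pos (h.norm4 (Or.inr rfl)) (h.deg 2)).1 χ hχ
  by_contra hne
  have hop : d 1 χ + d 2 χ = 0 := by omega
  obtain ⟨m, hm⟩ := h.mult χ hχ
  have h8 : 8 ∣ n χ := by omega
  exact h1 (h.vanish χ hχ h8 1)

theorem agree {a b c : ι} (hab : a ≠ b) (hac : a ≠ c) (hbc : b ≠ c)
    (he : (S.filter fun χ => d 1 χ + d 2 χ - d 0 χ ≠ 0) = {o, a, b, c}) (hoa : o ≠ a) (hob : o ≠ b)
    (hoc : o ≠ c) {i : Fin 3} (hi : i = 1 ∨ i = 2) :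
    (d i a = d 1 a + d 2 a - d 0 a ∧ d i b = d 1 b + d 2 b - d 0 b ∧ d i c = 0) ∨
      (d i a = d 1 a + d 2 a - d 0 a ∧ d i c = d 1 c + d 2 c - d 0 c ∧ d i b = 0) ∨
      (d i b = d 1 b + d 2 b - d 0 b ∧ d i c = d 1 c + d 2 c - d 0 c ∧ d i a = 0) := by
  have hio : d i o = 0 := by rcases hi with rfl | rfl <;> first | exact h.triv1 | exact h.triv2
  have hg := h.qpi hi
  have hm : ∀ χ ∈ ({o, a, b, c} : Finset ι), χ ∈ S ∧ d 1 χ + d 2 χ - d 0 χ ≠ 0 := fun χ hχ => by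
    rw [← he] at hχ; exact Finset.mem_filter.mp hχ
  rw [split_sum (T := {o, a, b, c}) _ (fun χ hχ => (hm χ hχ).1) fun χ hχ hT => ?_,
    Finset.sum_insert (by simp [hoa, hob, hoc]), Finset.sum_insert (by simp [hab, hac]),
    Finset.sum_pair hbc, hio, mul_zero, zero_add] at hg
  · have sp := (four_support h.pos h.qp h.pdeg).1
    have si := (four_support h.pos (v := d i)
      (h.norm4 hi) (h.deg i)).1
    obtain ⟨haS, ha0⟩ := hm a (by simp)
    obtain ⟨hbS, hb0⟩ := hm b (by simp)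
    obtain ⟨hcS, hc0⟩ := hm c (by simp)
    exact agree_int (sp a haS) (sp b hbS) (sp c hcS) (si a haS) (si b hbS) (si c hcS) ha0 hb0 hc0 hg
  · rw [← he, Finset.mem_filter, not_and, not_not] at hT
    rw [hT hχ, zero_mul]

/-- The two remaining points of a vector. -/
theorem two_rest {i : Fin 3} (hi : i = 1 ∨ i = 2) {a b : ι} (hab : a ≠ b) (haS : a ∈ S) (hbS : b ∈ S)
    (ha : d i a ≠ 0) (hb : d i b ≠ 0) :
    ∃ D E : ι, D ≠ E ∧ a ≠ D ∧ a ≠ E ∧ b ≠ D ∧ b ≠ E ∧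
      (S.filter fun χ => d i χ ≠ 0) = {a, b, D, E} := by
  have hc := (four_support h.pos (v := d i)
    (h.norm4 hi) (h.deg i)).2
  have ha' : a ∈ S.filter fun χ => d i χ ≠ 0 := Finset.mem_filter.mpr ⟨haS, ha⟩
  have hb' : b ∈ (S.filter fun χ => d i χ ≠ 0).erase a :=
    Finset.mem_erase.mpr ⟨hab.symm, Finset.mem_filter.mpr ⟨hbS, hb⟩⟩
  rw [← Finset.card_erase_add_one ha', ← Finset.card_erase_add_one hb'] at hc
  obtain ⟨D, E, hDE, he⟩ := Finset.card_eq_two.mp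
    (show (((S.filter fun χ => d i χ ≠ 0).erase a).erase b).card = 2 by omega)
  have hnb : b ∉ ({D, E} : Finset ι) := he ▸ Finset.notMem_erase _ _
  have hna : a ∉ ({D, E} : Finset ι) := he ▸ fun hh =>
    Finset.notMem_erase a _ (Finset.mem_of_mem_erase hh)
  simp only [Finset.mem_insert, Finset.mem_singleton, not_or] at hna hnb
  refine ⟨D, E, hDE, hna.1, hna.2, hnb.1, hnb.2, ?_⟩
  rw [← Finset.insert_erase ha', ← Finset.insert_erase hb', he]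

/-- The common points of the two vectors outside the first. -/
theorem ext_count {a b c : ι} (hab : a ≠ b) (hac : a ≠ c) (hbc : b ≠ c)
    (he : (S.filter fun χ => d 1 χ + d 2 χ - d 0 χ ≠ 0) = {o, a, b, c}) (hoa : o ≠ a) (hob : o ≠ b)
    (hoc : o ≠ c) :
    ((S.filter fun χ => d 1 χ + d 2 χ - d 0 χ = 0 ∧ d 1 χ ≠ 0 ∧ d 2 χ ≠ 0).card : ℤ) +
      (d 1 a * d 2 a + d 1 b * d 2 b + d 1 c * d 2 c) = 2 := by
  have hg : ∑ χ ∈ S, d 1 χ * d 2 χ = 2 := h.gram 1 2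
  rw [← Finset.sum_filter_add_sum_filter_not S (fun χ => d 1 χ + d 2 χ - d 0 χ ≠ 0), he,
    Finset.sum_insert (by simp [hoa, hob, hoc]), Finset.sum_insert (by simp [hab, hac]),
    Finset.sum_pair hbc, h.triv1, zero_mul, zero_add] at hg
  have key : ∑ χ ∈ S with ¬d 1 χ + d 2 χ - d 0 χ ≠ 0, d 1 χ * d 2 χ =
      ((S.filter fun χ => d 1 χ + d 2 χ - d 0 χ = 0 ∧ d 1 χ ≠ 0 ∧ d 2 χ ≠ 0).card : ℤ) := by
    rw [← Finset.sum_filter_of_ne (p := fun χ => d 1 χ ≠ 0 ∧ d 2 χ ≠ 0) (fun χ _ hne => ⟨fun e =>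
      hne (by rw [e, zero_mul]), fun e => hne (by rw [e, mul_zero])⟩), Finset.filter_filter,
      Finset.sum_congr rfl (g := fun _ => (1 : ℤ)) fun χ hχ => ?_, Finset.sum_const, nsmul_eq_mul,
      mul_one]
    · simp only [not_not]
    · simp only [Finset.mem_filter, not_not] at hχ
      obtain ⟨hS, hp, h1, h2⟩ := hχ
      have s1 := (four_support h.pos (h.norm4 (Or.inl rfl)) (h.deg 1)).1 χ hS
      rw [← h.common hS hp h1 h2]
      rcases s1 with e | e | e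
      · rw [e]; rfl
      · exact absurd e h1
      · rw [e]; rfl
  rw [key] at hg
  linarith

theorem sqX {χ : ι} (hχ : χ ∈ S) {s : ℤ} (hs : s = 1 ∨ s = -1) :
    s * (n χ : ℤ) * (s * (n χ : ℤ)) < g := by
  have := h.sq χ hχ
  rcases hs with rfl | rfl <;> ring_nf <;> nlinarith

omit h in
theorem term {N : ℕ} {s : ℤ} (hs : s = 1 ∨ s = -1) {k : ℤ} :
    ((k * s : ℤ) : ℚ) / (N : ℚ) = (k : ℚ) / ((s * (N : ℤ) : ℤ) : ℚ) := by
  rcases hs with rfl | rfl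
  · push_cast; ring
  · push_cast; rw [neg_one_mul, div_neg]; ring

/-- The two vectors with the same pair. -/
theorem configA {a b c : ι} (hg : 840 ∣ g) (hlo : 46920 ≤ g) (hab : a ≠ b) (hac : a ≠ c)
    (hbc : b ≠ c) (he : (S.filter fun χ => d 1 χ + d 2 χ - d 0 χ ≠ 0) = {o, a, b, c}) (hoa : o ≠ a)
    (hob : o ≠ b) (hoc : o ≠ c)
    (h1 : d 1 a = d 1 a + d 2 a - d 0 a ∧ d 1 b = d 1 b + d 2 b - d 0 b ∧ d 1 c = 0)
    (h2 : d 2 a = d 1 a + d 2 a - d 0 a ∧ d 2 b = d 1 b + d 2 b - d 0 b ∧ d 2 c = 0) :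
    g = 175560 ∨ g = 189000 := by
  have hm : ∀ χ ∈ ({o, a, b, c} : Finset ι), χ ∈ S ∧ d 1 χ + d 2 χ - d 0 χ ≠ 0 := fun χ hχ => by
    rw [← he] at hχ; exact Finset.mem_filter.mp hχ
  obtain ⟨haS, ha0⟩ := hm a (by simp)
  obtain ⟨hbS, hb0⟩ := hm b (by simp)
  obtain ⟨hcS, hc0⟩ := hm c (by simp)
  have sp := (four_support h.pos h.qp h.pdeg).1
  have hzero : ∀ χ ∈ S, d 1 χ + d 2 χ - d 0 χ = 0 → ¬ (d 1 χ ≠ 0 ∧ d 2 χ ≠ 0) := by
    intro χ hχ hp hh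
    have hc := h.ext_count hab hac hbc he hoa hob hoc
    have hpos : 0 < (S.filter fun χ => d 1 χ + d 2 χ - d 0 χ = 0 ∧ d 1 χ ≠ 0 ∧ d 2 χ ≠ 0).card :=
      Finset.card_pos.mpr ⟨χ, Finset.mem_filter.mpr ⟨hχ, hp, hh.1, hh.2⟩⟩
    rw [h1.2.2, h2.2.2] at hc
    have unit : ∀ χ ∈ S, d 1 χ ≠ 0 → d 1 χ * d 1 χ = 1 := fun χ hχ hne => by
      rcases (four_support h.pos (h.norm4 (Or.inl rfl)) (h.deg 1)).1 χ hχ with e | e | e
      · rw [e]; rfl
      · exact absurd e hne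
      · rw [e]; rfl
    have u1 := unit a haS (by omega)
    have u2 := unit b hbS (by omega)
    rw [show d 2 a = d 1 a by omega, show d 2 b = d 1 b by omega, u1, u2] at hc
    omega
  obtain ⟨D, E, hDE, haD, haE, hbD, hbE, hs1⟩ := h.two_rest (i := 1) (Or.inl rfl) hab haS hbS
    (by omega) (by omega)
  have mem1 : ∀ χ ∈ ({a, b, D, E} : Finset ι), χ ∈ S ∧ d 1 χ ≠ 0 := fun χ hχ => by
    rw [← hs1] at hχ; exact Finset.mem_filter.mp hχ
  obtain ⟨hDS, hD1⟩ := mem1 D (by simp)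
  obtain ⟨hES, hE1⟩ := mem1 E (by simp)
  have outP : ∀ χ ∈ S, d 1 χ ≠ 0 → χ ≠ a → χ ≠ b →
      d 1 χ + d 2 χ - d 0 χ = 0 ∧ d 2 χ = 0 ∧ χ ≠ o := by
    intro χ hχ h1' na nb
    have hp : d 1 χ + d 2 χ - d 0 χ = 0 := by
      by_contra hne
      have hh : χ ∈ ({o, a, b, c} : Finset ι) := he ▸ Finset.mem_filter.mpr ⟨hχ, hne⟩
      simp only [Finset.mem_insert, Finset.mem_singleton] at hh
      rcases hh with rfl | rfl | rfl | rfl
      exacts [h1' h.triv1, na rfl, nb rfl, h1' h1.2.2]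
    exact ⟨hp, by_contra fun hh => hzero χ hχ hp ⟨h1', hh⟩, fun e => h1' (e ▸ h.triv1)⟩
  obtain ⟨hDp, hD2, hDo⟩ := outP D hDS hD1 haD.symm hbD.symm
  obtain ⟨hEp, hE2, hEo⟩ := outP E hES hE1 haE.symm hbE.symm
  have s1 := (four_support h.pos (v := d 1) (h.norm4 (Or.inl rfl)) (h.deg 1)).1
  have sa : d 1 a = 1 ∨ d 1 a = -1 := by rcases s1 a haS with e | e | e <;> omega
  have sb : d 1 b = 1 ∨ d 1 b = -1 := by rcases s1 b hbS with e | e | e <;> omega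
  have sc : -d 0 c = 1 ∨ -d 0 c = -1 := by rcases sp c hcS with e | e | e <;> omega
  have sD : d 1 D = 1 ∨ d 1 D = -1 := by rcases s1 D hDS with e | e | e <;> omega
  have sE : d 1 E = 1 ∨ d 1 E = -1 := by rcases s1 E hES with e | e | e <;> omega
  -- degrees
  have dp := h.pdeg
  rw [split_sum (T := {o, a, b, c}) _ (fun χ hχ => (hm χ hχ).1) fun χ hχ hT => by
    rw [← he, Finset.mem_filter, not_and, not_not] at hT; rw [hT hχ, mul_zero],
    Finset.sum_insert (by simp [hoa, hob, hoc]), Finset.sum_insert (by simp [hab, hac]),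
    Finset.sum_pair hbc, h.triv, h.triv0, h.triv1, h.triv2, ← h1.1, ← h1.2.1, h1.2.2, h2.2.2] at dp
  have du := h.deg 1
  rw [split_sum (T := {a, b, D, E}) _ (fun χ hχ => (mem1 χ hχ).1) fun χ hχ hT => by
    rw [← hs1, Finset.mem_filter, not_and, not_not] at hT; rw [hT hχ, mul_zero],
    Finset.sum_insert (by simp [hab, haD, haE]), Finset.sum_insert (by simp [hbD, hbE]),
    Finset.sum_pair hDE] at du
  -- weights
  have qa : (d 0 a + 2 * d 1 a + 2 * d 2 a) ^ 2 * d 1 a = 25 * d 1 a := by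
    rw [show d 2 a = d 1 a by omega, show d 0 a = d 1 a by omega]
    rcases sa with e | e <;> rw [e] <;> norm_num
  have qb : (d 0 b + 2 * d 1 b + 2 * d 2 b) ^ 2 * d 1 b = 25 * d 1 b := by
    rw [show d 2 b = d 1 b by omega, show d 0 b = d 1 b by omega]
    rcases sb with e | e <;> rw [e] <;> norm_num
  have qc : (d 0 c + 2 * d 1 c + 2 * d 2 c) ^ 2 * (d 1 c + d 2 c - d 0 c) = 1 * (-d 0 c) := by
    rw [h1.2.2, h2.2.2]
    rcases sc with e | e <;> rw [show d 0 c = _ from neg_eq_iff_eq_neg.mp e] <;> norm_num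
  have qD : (d 0 D + 2 * d 1 D + 2 * d 2 D) ^ 2 * d 1 D = 9 * d 1 D := by
    rw [hD2, show d 0 D = d 1 D by omega]
    rcases sD with e | e <;> rw [e] <;> norm_num
  have qE : (d 0 E + 2 * d 1 E + 2 * d 2 E) ^ 2 * d 1 E = 9 * d 1 E := by
    rw [hE2, show d 0 E = d 1 E by omega]
    rcases sE with e | e <;> rw [e] <;> norm_num
  have wp := h.p_weight
  rw [split_sum (T := {o, a, b, c}) _ (fun χ hχ => (hm χ hχ).1) fun χ hχ hT => by
    rw [← he, Finset.mem_filter, not_and, not_not] at hT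
    rw [hT hχ, mul_zero, Int.cast_zero, zero_div],
    Finset.sum_insert (by simp [hoa, hob, hoc]), Finset.sum_insert (by simp [hab, hac]),
    Finset.sum_pair hbc, h.triv, h.triv0, h.triv1, h.triv2, ← h1.1, ← h1.2.1, qa, qb, qc,
    term sa, term sb, term sc] at wp
  have wu := h.weight 1
  rw [split_sum (T := {a, b, D, E}) _ (fun χ hχ => (mem1 χ hχ).1) fun χ hχ hT => by
    rw [← hs1, Finset.mem_filter, not_and, not_not] at hT
    rw [hT hχ, mul_zero, Int.cast_zero, zero_div],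
    Finset.sum_insert (by simp [hab, haD, haE]), Finset.sum_insert (by simp [hbD, hbE]),
    Finset.sum_pair hDE, qa, qb, qD, qE, term sa, term sb, term sD, term sE] at wu
  obtain ⟨ma, ea, la, pa⟩ := h.sign_facts haS hoa.symm
  obtain ⟨mb, eb, lb, pb⟩ := h.sign_facts hbS hob.symm
  obtain ⟨mc, ec, lc, pc⟩ := h.sign_facts hcS hoc.symm
  obtain ⟨mD, eD, lD, pD⟩ := h.sign_facts hDS hDo
  obtain ⟨mE, eE, lE, pE⟩ := h.sign_facts hES hEo
  refine caseA (A := d 1 a * n a) (B := d 1 b * n b) (C := -d 0 c * n c) (D := d 1 D * n D)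
    (E := d 1 E * n E) hg hlo ?_ ?_ ?_ ?_ ?_ ?_ ?_ ?_ (h.sqX haS sa) (h.sqX hbS sb) (h.sqX hcS sc)
    (h.sqX hDS sD) ?_ ?_ ?_ ?_
  · rcases sa with e | e <;> rw [e] <;> omega
  · rcases sb with e | e <;> rw [e] <;> omega
  · rcases sc with e | e <;> rw [e] <;> omega
  · rcases sD with e | e <;> rw [e] <;> omega
  · rcases sE with e | e <;> rw [e] <;> omega
  · rcases sa with e | e <;> rw [e] <;> rw [le_abs] <;> omega
  · rcases sb with e | e <;> rw [e] <;> rw [le_abs] <;> omega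
  · rcases sc with e | e <;> rw [e] <;> rw [le_abs] <;> omega
  · push_cast at dp; linarith
  · linarith
  · push_cast at wp ⊢
    linear_combination -wp
  · rw [show (![14, 4, 4] : Fin 3 → ℚ) 1 = 4 from rfl] at wu
    push_cast at wu ⊢
    linear_combination wu

/-- The two vectors with different pairs. -/
theorem configB {a b c : ι} (hg : 840 ∣ g) (hlo : 46920 ≤ g) (hab : a ≠ b) (hac : a ≠ c)
    (hbc : b ≠ c) (he : (S.filter fun χ => d 1 χ + d 2 χ - d 0 χ ≠ 0) = {o, a, b, c}) (hoa : o ≠ a)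
    (hob : o ≠ b) (hoc : o ≠ c)
    (h1 : d 1 a = d 1 a + d 2 a - d 0 a ∧ d 1 b = d 1 b + d 2 b - d 0 b ∧ d 1 c = 0)
    (h2 : d 2 a = d 1 a + d 2 a - d 0 a ∧ d 2 c = d 1 c + d 2 c - d 0 c ∧ d 2 b = 0) : False := by
  have hm : ∀ χ ∈ ({o, a, b, c} : Finset ι), χ ∈ S ∧ d 1 χ + d 2 χ - d 0 χ ≠ 0 := fun χ hχ => by
    rw [← he] at hχ; exact Finset.mem_filter.mp hχ
  obtain ⟨haS, ha0⟩ := hm a (by simp)
  obtain ⟨hbS, hb0⟩ := hm b (by simp)
  obtain ⟨hcS, hc0⟩ := hm c (by simp)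
  have sp := (four_support h.pos h.qp h.pdeg).1
  have hcount := h.ext_count hab hac hbc he hoa hob hoc
  rw [h1.2.2, h2.2.2, zero_mul, mul_zero, add_zero, add_zero] at hcount
  have haa : d 1 a * d 2 a = 1 := by
    rw [show d 2 a = d 1 a by omega]
    rcases (four_support h.pos (h.norm4 (Or.inl rfl)) (h.deg 1)).1 a haS with e | e | e
    · rw [e]; rfl
    · omega
    · rw [e]; rfl
  rw [haa] at hcount
  obtain ⟨D, hDset⟩ := Finset.card_eq_one.mp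
    (show (S.filter fun χ => d 1 χ + d 2 χ - d 0 χ = 0 ∧ d 1 χ ≠ 0 ∧ d 2 χ ≠ 0).card = 1 by omega)
  obtain ⟨hDS, hDp, hD1, hD2⟩ := Finset.mem_filter.mp (hDset ▸ Finset.mem_singleton_self D)
  have hD12 := h.common hDS hDp hD1 hD2
  obtain ⟨U, V, hUV, haU, haV, hbU, hbV, hs1⟩ := h.two_rest (i := 1) (Or.inl rfl) hab haS hbS
    (by omega) (by omega)
  have hDmem : D ∈ ({a, b, U, V} : Finset ι) := hs1 ▸ Finset.mem_filter.mpr ⟨hDS, hD1⟩
  have hDa : D ≠ a := fun e => ha0 (e ▸ hDp)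
  have hDb : D ≠ b := fun e => hb0 (e ▸ hDp)
  obtain ⟨E, hDE, haE, hbE, hs1⟩ : ∃ E, D ≠ E ∧ a ≠ E ∧ b ≠ E ∧
      (S.filter fun χ => d 1 χ ≠ 0) = {a, b, D, E} := by
    simp only [Finset.mem_insert, Finset.mem_singleton] at hDmem
    rcases hDmem with e | e | e | e
    · exact absurd e hDa
    · exact absurd e hDb
    · exact ⟨V, e ▸ hUV, haV, hbV, by rw [hs1, e]⟩
    · exact ⟨U, e ▸ hUV.symm, haU, hbU, by rw [hs1, e, Finset.pair_comm]⟩
  have mem1 : ∀ χ ∈ ({a, b, D, E} : Finset ι), χ ∈ S ∧ d 1 χ ≠ 0 := fun χ hχ => by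
    rw [← hs1] at hχ; exact Finset.mem_filter.mp hχ
  obtain ⟨hES, hE1⟩ := mem1 E (by simp)
  have hEp : d 1 E + d 2 E - d 0 E = 0 := by
    by_contra hne
    have hh : E ∈ ({o, a, b, c} : Finset ι) := he ▸ Finset.mem_filter.mpr ⟨hES, hne⟩
    simp only [Finset.mem_insert, Finset.mem_singleton] at hh
    rcases hh with rfl | rfl | rfl | rfl
    exacts [hE1 h.triv1, haE rfl, hbE rfl, hE1 h1.2.2]
  have hE2 : d 2 E = 0 := by
    by_contra hne
    have : E ∈ ({D} : Finset ι) := hDset ▸ Finset.mem_filter.mpr ⟨hES, hEp, hE1, hne⟩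
    exact hDE (Finset.mem_singleton.mp this).symm
  have hDo : D ≠ o := fun e => hD1 (e ▸ h.triv1)
  have hEo : E ≠ o := fun e => hE1 (e ▸ h.triv1)
  have s1 := (four_support h.pos (v := d 1) (h.norm4 (Or.inl rfl)) (h.deg 1)).1
  have sa : d 1 a = 1 ∨ d 1 a = -1 := by rcases s1 a haS with e | e | e <;> omega
  have sb : d 1 b = 1 ∨ d 1 b = -1 := by rcases s1 b hbS with e | e | e <;> omega
  have sc : d 2 c = 1 ∨ d 2 c = -1 := by rcases sp c hcS with e | e | e <;> omega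
  have sD : d 1 D = 1 ∨ d 1 D = -1 := by rcases s1 D hDS with e | e | e <;> omega
  have sE : d 1 E = 1 ∨ d 1 E = -1 := by rcases s1 E hES with e | e | e <;> omega
  have dp := h.pdeg
  rw [split_sum (T := {o, a, b, c}) _ (fun χ hχ => (hm χ hχ).1) fun χ hχ hT => by
    rw [← he, Finset.mem_filter, not_and, not_not] at hT; rw [hT hχ, mul_zero],
    Finset.sum_insert (by simp [hoa, hob, hoc]), Finset.sum_insert (by simp [hab, hac]),
    Finset.sum_pair hbc, h.triv, h.triv0, h.triv1, h.triv2, ← h1.1, ← h1.2.1, ← h2.2.1] at dp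
  have du := h.deg 1
  rw [split_sum (T := {a, b, D, E}) _ (fun χ hχ => (mem1 χ hχ).1) fun χ hχ hT => by
    rw [← hs1, Finset.mem_filter, not_and, not_not] at hT; rw [hT hχ, mul_zero],
    Finset.sum_insert (by simp [hab, hDa.symm, haE]), Finset.sum_insert (by simp [hDb.symm, hbE]),
    Finset.sum_pair hDE] at du
  have qa : (d 0 a + 2 * d 1 a + 2 * d 2 a) ^ 2 * d 1 a = 25 * d 1 a := by
    rw [show d 2 a = d 1 a by omega, show d 0 a = d 1 a by omega]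
    rcases sa with e | e <;> rw [e] <;> norm_num
  have qb : (d 0 b + 2 * d 1 b + 2 * d 2 b) ^ 2 * d 1 b = 4 * d 1 b := by
    rw [h2.2.2, show d 0 b = 0 by omega]
    rcases sb with e | e <;> rw [e] <;> norm_num
  have qc : (d 0 c + 2 * d 1 c + 2 * d 2 c) ^ 2 * d 2 c = 4 * d 2 c := by
    rw [h1.2.2, show d 0 c = 0 by omega]
    rcases sc with e | e <;> rw [e] <;> norm_num
  have qD : (d 0 D + 2 * d 1 D + 2 * d 2 D) ^ 2 * d 1 D = 36 * d 1 D := by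
    rw [← hD12, show d 0 D = 2 * d 1 D by omega]
    rcases sD with e | e <;> rw [e] <;> norm_num
  have qE : (d 0 E + 2 * d 1 E + 2 * d 2 E) ^ 2 * d 1 E = 9 * d 1 E := by
    rw [hE2, show d 0 E = d 1 E by omega]
    rcases sE with e | e <;> rw [e] <;> norm_num
  have wp := h.p_weight
  rw [split_sum (T := {o, a, b, c}) _ (fun χ hχ => (hm χ hχ).1) fun χ hχ hT => by
    rw [← he, Finset.mem_filter, not_and, not_not] at hT
    rw [hT hχ, mul_zero, Int.cast_zero, zero_div],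
    Finset.sum_insert (by simp [hoa, hob, hoc]), Finset.sum_insert (by simp [hab, hac]),
    Finset.sum_pair hbc, h.triv, h.triv0, h.triv1, h.triv2, ← h1.1, ← h1.2.1, ← h2.2.1, qa, qb, qc,
    term sa, term sb, term sc] at wp
  have wu := h.weight 1
  rw [split_sum (T := {a, b, D, E}) _ (fun χ hχ => (mem1 χ hχ).1) fun χ hχ hT => by
    rw [← hs1, Finset.mem_filter, not_and, not_not] at hT
    rw [hT hχ, mul_zero, Int.cast_zero, zero_div],
    Finset.sum_insert (by simp [hab, hDa.symm, haE]), Finset.sum_insert (by simp [hDb.symm, hbE]),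
    Finset.sum_pair hDE, qa, qb, qD, qE, term sa, term sb, term sD, term sE] at wu
  obtain ⟨ma, ea, la, pa⟩ := h.sign_facts haS hoa.symm
  obtain ⟨mb, eb, lb, pb⟩ := h.sign_facts hbS hob.symm
  obtain ⟨mc, ec, lc, pc⟩ := h.sign_facts hcS hoc.symm
  obtain ⟨mD, eD, lD, pD⟩ := h.sign_facts hDS hDo
  obtain ⟨mE, eE, lE, pE⟩ := h.sign_facts hES hEo
  refine caseB (A := d 1 a * n a) (B := d 1 b * n b) (C := d 2 c * n c) (D := d 1 D * n D)
    (E := d 1 E * n E) hg hlo ?_ ?_ ?_ ?_ ?_ ?_ ?_ (h.sqX haS sa) (h.sqX hbS sb) (h.sqX hcS sc)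
    (h.sqX hDS sD) ?_ ?_ ?_ ?_
  · rcases sa with e | e <;> rw [e] <;> omega
  · rcases sb with e | e <;> rw [e] <;> omega
  · rcases sD with e | e <;> rw [e] <;> omega
  · rcases sE with e | e <;> rw [e] <;> omega
  · rcases sa with e | e <;> rw [e] <;> rw [le_abs] <;> omega
  · rcases sb with e | e <;> rw [e] <;> rw [le_abs] <;> omega
  · rcases sc with e | e <;> rw [e] <;> rw [le_abs] <;> omega
  · push_cast at dp; linarith
  · linarith
  · push_cast at wp ⊢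
    linear_combination -wp
  · rw [show (![14, 4, 4] : Fin 3 → ℚ) 1 = 4 from rfl] at wu
    push_cast at wu ⊢
    linear_combination wu

/-- The order. -/
theorem order_cases (hg : 840 ∣ g) (hlo : 46920 ≤ g) : g = 175560 ∨ g = 189000 := by
  have hc := (four_support h.pos h.qp h.pdeg).2
  have ho : o ∈ S.filter fun χ => d 1 χ + d 2 χ - d 0 χ ≠ 0 :=
    Finset.mem_filter.mpr ⟨h.mem, by rw [h.triv0, h.triv1, h.triv2]; norm_num⟩
  rw [← Finset.card_erase_add_one ho] at hc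
  obtain ⟨a, b, c, hab, hac, hbc, he⟩ := Finset.card_eq_three.mp
    (show ((S.filter fun χ => d 1 χ + d 2 χ - d 0 χ ≠ 0).erase o).card = 3 by omega)
  have hno : o ∉ ({a, b, c} : Finset ι) := he ▸ Finset.notMem_erase _ _
  simp only [Finset.mem_insert, Finset.mem_singleton, not_or] at hno
  obtain ⟨hoa, hob, hoc⟩ := hno
  have e0 : (S.filter fun χ => d 1 χ + d 2 χ - d 0 χ ≠ 0) = {o, a, b, c} := by
    rw [← Finset.insert_erase ho, he]
  have e1 : (S.filter fun χ => d 1 χ + d 2 χ - d 0 χ ≠ 0) = {o, a, c, b} := by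
    rw [e0, Finset.pair_comm b c]
  have e2 : (S.filter fun χ => d 1 χ + d 2 χ - d 0 χ ≠ 0) = {o, b, a, c} := by
    rw [e0, Finset.insert_comm a b]
  have e3 : (S.filter fun χ => d 1 χ + d 2 χ - d 0 χ ≠ 0) = {o, b, c, a} := by
    rw [e2, Finset.pair_comm a c]
  have e4 : (S.filter fun χ => d 1 χ + d 2 χ - d 0 χ ≠ 0) = {o, c, a, b} := by
    rw [e1, Finset.insert_comm a c]
  have e5 : (S.filter fun χ => d 1 χ + d 2 χ - d 0 χ ≠ 0) = {o, c, b, a} := by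
    rw [e4, Finset.pair_comm a b]
  rcases h.agree hab hac hbc e0 hoa hob hoc (Or.inl rfl) with ⟨u, v, w⟩ | ⟨u, v, w⟩ | ⟨u, v, w⟩ <;>
    rcases h.agree hab hac hbc e0 hoa hob hoc (Or.inr rfl) with
      ⟨u', v', w'⟩ | ⟨u', v', w'⟩ | ⟨u', v', w'⟩
  · exact h.configA hg hlo hab hac hbc e0 hoa hob hoc ⟨u, v, w⟩ ⟨u', v', w'⟩
  · exact (h.configB hg hlo hab hac hbc e0 hoa hob hoc ⟨u, v, w⟩ ⟨u', v', w'⟩).elim
  · exact (h.configB hg hlo hab.symm hbc hac e2 hob hoa hoc ⟨v, u, w⟩ ⟨u', v', w'⟩).elim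
  · exact (h.configB hg hlo hac hab hbc.symm e1 hoa hoc hob ⟨u, v, w⟩ ⟨u', v', w'⟩).elim
  · exact h.configA hg hlo hac hab hbc.symm e1 hoa hoc hob ⟨u, v, w⟩ ⟨u', v', w'⟩
  · exact (h.configB hg hlo hac.symm hbc.symm hab e4 hoc hoa hob ⟨v, u, w⟩ ⟨v', u', w'⟩).elim
  · exact (h.configB hg hlo hbc hab.symm hac.symm e3 hob hoc hoa ⟨u, v, w⟩ ⟨v', u', w'⟩).elim
  · exact (h.configB hg hlo hbc.symm hac.symm hab.symm e5 hoc hob hoa ⟨v, u, w⟩ ⟨v', u', w'⟩).elim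
  · exact h.configA hg hlo hbc hab.symm hac.symm e3 hob hoc hoa ⟨u, v, w⟩ ⟨u', v', w'⟩

end Rows

end CfsgLib.JOneOrder
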