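import Cfsg.Agent.Lib.JOneOrder.Local
import Cfsg.Agent.Lib.Blocks.SectionOrth
import Cfsg.Agent.Lib.Blocks.PrincipalQuot
import Cfsg.Agent.Lib.Blocks.RealBlock
import Cfsg.Agent.Lib.Blocks.Inflate
import Cfsg.Agent.Lib.Blocks.BrauerFeit
import Cfsg.Agent.Lib.Char.Table
import Cfsg.Agent.Lib.Char.Kernel
import Cfsg.Agent.Lib.Char.DefectZero

/-!
# The principal block on the section of the involution
-/

set_option autoImplicit false
set_option Elab.async false
set_option linter.style.haveILetI false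
set_option linter.unusedSectionVars false

namespace CfsgLib.JOneOrder

open Cfsg CfsgLib.Blocks
open scoped ComplexConjugate CfsgLib.Char

theorem centralizer_one {G : Type*} [Group G] : Subgroup.centralizer ({1} : Set G) = ⊤ :=
  eq_top_iff.mpr fun x _ => Subgroup.mem_centralizer_singleton_iff.mpr (by simp)

/-- The numerical data of the principal block on the section. -/
structure Rows {ι : Type*} (S : Finset ι) (o : ι) (d : Fin 3 → ι → ℤ) (n : ι → ℕ) (g : ℕ) :
    Prop where
  mem : o ∈ S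
  pos : ∀ χ ∈ S, 0 < n χ
  triv : n o = 1
  triv0 : d 0 o = 1
  triv1 : d 1 o = 0
  triv2 : d 2 o = 0
  deg : ∀ i, ∑ χ ∈ S, (n χ : ℤ) * d i χ = 0
  gram : ∀ i j, ∑ χ ∈ S, d i χ * d j χ =
    (![![8, 4, 4], ![4, 4, 2], ![4, 2, 4]] : Fin 3 → Fin 3 → ℤ) i j
  mult : ∀ χ ∈ S, ∃ m : ℕ, (n χ : ℤ) + 7 * (d 0 χ + 2 * d 1 χ + 2 * d 2 χ) = 8 * m
  lt : ∀ χ ∈ S, χ ≠ o → (n χ : ℤ) ≠ d 0 χ + 2 * d 1 χ + 2 * d 2 χ
  sq : ∀ χ ∈ S, n χ * n χ < g
  vanish : ∀ χ ∈ S, 8 ∣ n χ → ∀ i, d i χ = 0
  weight : ∀ i, ∑ χ ∈ S, (((d 0 χ + 2 * d 1 χ + 2 * d 2 χ) ^ 2 * d i χ : ℤ) : ℚ) / (n χ : ℚ) =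
    (![14, 4, 4] : Fin 3 → ℚ) i * 14400 / (g : ℚ)

/-- The projective functionals `1 + 3 + 3' + 5`, `3 + 5`, `3' + 5` on the five classes. -/
noncomputable def co : Fin 3 → Fin 5 → ℂ :=
  ![![1 / 5, 0, 0, 2 / 5, 2 / 5], ![2 / 15, 0, -1 / 3, ga / 5, gb / 5],
    ![2 / 15, 0, -1 / 3, gb / 5, ga / 5]]

theorem co_one (i : Fin 3) : co i 1 = 0 := by fin_cases i <;> rfl

theorem co_real (i : Fin 3) (j : Fin 5) : conj (co i j) = co i j := by
  fin_cases i <;> fin_cases j <;> simp [co, map_ofNat, golden_conj.1, golden_conj.2]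

namespace Hyp

variable {G : Type*} [Group G] [Fintype G] (h : Hyp G)
include h

/-- The functional on a character. -/
noncomputable def dval (i : Fin 3) (χ : G → ℂ) : ℂ := ∑ j : Fin 5, co i j * χ (h.sec j)

/-- The projection of the centralizer. -/
def proj : Subgroup.centralizer ({h.t} : Set G) →* A5 :=
  (MonoidHom.snd Z2 A5).comp h.e.toMonoidHom

theorem proj_surjective : Function.Surjective h.proj := fun a =>
  ⟨h.e.symm (1, a), by simp [proj]⟩

/-- The lifted characters. -/
noncomputable def lift (c : Fin 5) : IrrCharacter (Subgroup.centralizer ({h.t} : Set G)) :=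
  inflate h.proj h.proj_surjective (irr c)

theorem lift_apply (c : Fin 5) (r : Subgroup.centralizer ({h.t} : Set G)) :
    (h.lift c : Subgroup.centralizer ({h.t} : Set G) → ℂ) r = tab c (h.e r).2 := rfl

theorem sum_regular [Fintype (Subgroup.centralizer ({h.t} : Set G))] {χ : G → ℂ}
    (hχ : IsClassFunction G χ) (c : Fin 5) :
    ∑ r : Subgroup.centralizer ({h.t} : Set G),
      regPart 2 (fun s : Subgroup.centralizer ({h.t} : Set G) => χ (h.t * (s : G))) r *
        conj ((h.lift c : Subgroup.centralizer ({h.t} : Set G) → ℂ) r) =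
      ∑ j : Fin 5, if j = 1 then 0 else (wt j : ℂ) * (χ (h.sec j) * val c j) := by
  classical
  rw [← h.e.symm.toEquiv.sum_comp, Fintype.sum_prod_type]
  have hreg : ∀ q : Z2 × A5, IsPRegular 2 (h.e.symm q) ↔ q.1 = 1 ∧ q.2 ^ 15 = 1 := by
    intro q
    rw [IsPRegular, MulEquiv.orderOf_eq]
    have key : ∀ q : Z2 × A5, (q.1 = 1 ∧ q.2 ^ 15 = 1) ↔ q ^ 15 = 1 := by decide +kernel
    have key30 : ∀ q : Z2 × A5, q ^ 30 = 1 := by decide +kernel
    rw [key q, ← orderOf_dvd_iff_pow_eq_one]
    have h30 := orderOf_dvd_of_pow_eq_one (key30 q)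
    constructor
    · intro h2
      exact ((Nat.prime_two.coprime_iff_not_dvd.mpr h2).symm).dvd_of_dvd_mul_left
        (show orderOf q ∣ 2 * 15 from h30)
    · intro h15 h2
      have := h2.trans h15
      omega
  set F : A5 → ℂ := fun a => if a ^ 15 = 1 then χ (h.t * h.emb (1, a)) * tab c a else 0 with hF
  rw [show (∑ z : Z2, ∑ a : A5, _) = ∑ a : A5, F a from ?_]
  · rw [sum_classes (F := F) fun a x => ?_]
    · refine Finset.sum_congr rfl fun j _ => ?_
      rw [nsmul_eq_mul]
      by_cases hj : j = 1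
      · rw [if_pos hj, hF]
        simp only [if_neg (fun e => (rep_facts.2.2.1 j).mp e hj), mul_zero]
      · rw [if_neg hj, hF]
        simp only [if_pos ((rep_facts.2.2.1 j).mpr hj), tab_rep, ← h.sec_eq]
    · simp only [hF, tab_class, conj_pow, mul_inv_eq_one, mul_eq_left]
      refine if_congr Iff.rfl ?_ rfl
      congr 1
      rw [show h.t * h.emb (1, x * a * x⁻¹) = h.emb (1, x) * (h.t * h.emb (1, a)) * (h.emb (1, x))⁻¹ from ?_]
      · exact hχ _ _
      · rw [show ((1 : Z2), x * a * x⁻¹) = (1, x) * (1, a) * (1, x)⁻¹ by simp [Prod.ext_iff], map_mul,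
          map_mul, map_inv, ← mul_assoc (h.emb (1, x)) h.t, ← (h.emb_comm (1, x)).eq]
        simp only [mul_assoc]
  · rw [Fintype.sum_eq_single (1 : Z2) fun z hz => Finset.sum_eq_zero fun a _ => ?_]
    · refine Finset.sum_congr rfl fun a _ => ?_
      show regPart 2 _ (h.e.symm (1, a)) * _ = F a
      by_cases ha : a ^ 15 = 1
      · rw [regPart_of_regular ((hreg _).mpr ⟨rfl, ha⟩), hF]
        simp only [if_pos ha]
        show χ (h.t * h.emb (1, a)) * conj (tab c (h.e (h.e.symm (1, a))).2) = _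
        rw [MulEquiv.apply_symm_apply, tab_real]
      · rw [regPart_of_singular (fun e => ha ((hreg _).mp e).2), hF]
        simp only [if_neg ha, zero_mul]
    · show regPart 2 _ (h.e.symm (z, a)) * _ = 0
      rw [regPart_of_singular (fun e => hz ((hreg _).mp e).1), zero_mul]

theorem centralizer_three : (Subgroup.centralizer
    ({h.e.symm (1, rep 2)} : Set (Subgroup.centralizer ({h.t} : Set G)))).index = 20 := by
  haveI : Finite G := inferInstance
  have h6 : Nat.card (Subgroup.centralizer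
      ({h.e.symm (1, rep 2)} : Set (Subgroup.centralizer ({h.t} : Set G)))) = 6 := by
    have key : ((Finset.univ : Finset (Z2 × A5)).filter fun q =>
        q * (1, rep 2) = (1, rep 2) * q).card = 6 := by decide +kernel
    rw [← key, ← Fintype.card_subtype, ← Nat.card_eq_fintype_card]
    refine Nat.card_congr (Equiv.subtypeEquiv h.e.toEquiv fun r => ?_)
    rw [Subgroup.mem_centralizer_singleton_iff, ← h.e.injective.eq_iff, map_mul, map_mul,
      MulEquiv.apply_symm_apply]
    rfl
  have h2 := (Subgroup.centralizer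
    ({h.e.symm (1, rep 2)} : Set (Subgroup.centralizer ({h.t} : Set G)))).card_mul_index
  rw [h6, h.card_centralizer] at h2
  omega

variable {M : Ideal AlgInt}

theorem lift_mem [Fintype (Subgroup.centralizer ({h.t} : Set G))] (hM : IsPModular 2 M) (c : Fin 5)
    (hc : c = 0 ∨ c = 1 ∨ c = 2) :
    h.lift c ∈ principalBlock M (Subgroup.centralizer ({h.t} : Set G)) := by
  haveI := isPrime_of_isPModular hM
  refine mem_principalBlock_of_real_odd hM (fun r => ?_) ?_
  · rw [lift_apply]; exact Complex.conj_eq_iff_im.mp (tab_real c _)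
  · have h1 := (irr_degree_eq (h.lift c)).1
    rw [lift_apply, map_one, Prod.snd_one, ← rep_facts.2.2.2.1, tab_rep] at h1
    rcases hc with rfl | rfl | rfl <;> simp [val] at h1
    · rw [show charDegree (h.lift 0 : Subgroup.centralizer ({h.t} : Set G) → ℂ) = 1 by
        exact_mod_cast h1.symm]
      decide
    all_goals (rw [show charDegree _ = 3 by exact_mod_cast h1.symm]; decide)

theorem lift_four_notMem [Fintype (Subgroup.centralizer ({h.t} : Set G))] (hM : IsPModular 2 M) :
    h.lift 3 ∉ principalBlock M (Subgroup.centralizer ({h.t} : Set G)) := by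
  intro hm
  haveI := isPrime_of_isPModular hM
  rw [principalBlock_eq, mem_blockOf_iff] at hm
  have h1 := hm (h.e.symm (1, rep 2))
  simp only [centralChar, h.centralizer_three, lift_apply, MulEquiv.apply_symm_apply, map_one,
    Prod.snd_one, tab_rep] at h1
  rw [← rep_facts.2.2.2.1, tab_rep] at h1
  simp [val, trivIrr] at h1
  norm_num at h1
  rw [show (15 : ℂ) = ((15 : ℤ) : ℂ) by norm_num, memLocalIdeal_intCast_iff hM] at h1
  norm_num at h1

/-- Outside the principal block the three functionals vanish. -/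
theorem dval_outside (hM : IsPModular 2 M) {χ : IrrCharacter G} (hχ : χ ∉ principalBlock M G)
    (i : Fin 3) : h.dval i (χ : G → ℂ) = 0 := by
  classical
  letI : Fintype (Subgroup.centralizer ({h.t} : Set G)) := Fintype.ofFinite _
  have hx : ∃ k : ℕ, orderOf h.t = 2 ^ k := ⟨1, by rw [h.t_order, pow_one]⟩
  have e : ∀ c : Fin 5, c = 0 ∨ c = 1 ∨ c = 2 →
      ∑ j : Fin 5, (if j = 1 then 0 else (wt j : ℂ) * ((χ : G → ℂ) (h.sec j) * val c j)) = 0 :=
    fun c hc => by
      rw [← h.sum_regular (irr_classFunction χ)]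
      exact sum_regPart_mul_conj_eq_zero hM hx hχ (h.lift_mem hM c hc)
  have e0 := e 0 (Or.inl rfl)
  have e1 := e 1 (Or.inr (Or.inl rfl))
  have e2 := e 2 (Or.inr (Or.inr rfl))
  simp [Fin.sum_univ_five, wt, val] at e0 e1 e2
  fin_cases i <;> simp [dval, co, Fin.sum_univ_five]
  · linear_combination (1 / 30 : ℂ) * e1 + (1 / 30 : ℂ) * e2 -
      (2 / 5 : ℂ) * ((χ : G → ℂ) (h.sec 3) + (χ : G → ℂ) (h.sec 4)) * ga_add
  · linear_combination (-1 / 60 : ℂ) * e0 + (1 / 30 : ℂ) * e1 + (1 / 60 : ℂ) * e2 -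
      (1 / 5 : ℂ) * (χ : G → ℂ) (h.sec 3) * ga_add - (1 / 5 : ℂ) * (χ : G → ℂ) (h.sec 4) * ga_add
  · linear_combination (-1 / 60 : ℂ) * e0 + (1 / 60 : ℂ) * e1 + (1 / 30 : ℂ) * e2 -
      (1 / 5 : ℂ) * (χ : G → ℂ) (h.sec 3) * ga_add - (1 / 5 : ℂ) * (χ : G → ℂ) (h.sec 4) * ga_add

/-- Inside the principal block the section is orthogonal to the character of degree four. -/
theorem section_relation (hM : IsPModular 2 M) {χ : IrrCharacter G} (hχ : χ ∈ principalBlock M G) :
    4 * (χ : G → ℂ) (h.sec 0) + 20 * (χ : G → ℂ) (h.sec 2) - 12 * (χ : G → ℂ) (h.sec 3) -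
      12 * (χ : G → ℂ) (h.sec 4) = 0 := by
  classical
  letI : Fintype (Subgroup.centralizer ({h.t} : Set G)) := Fintype.ofFinite _
  haveI := isPrime_of_isPModular hM
  set C := Subgroup.centralizer ({h.t} : Set G) with hC
  have hx : ∃ k : ℕ, orderOf h.t = 2 ^ k := ⟨1, by rw [h.t_order, pow_one]⟩
  set θ := fun s : C => (χ : G → ℂ) (h.t * (s : G)) with hθ
  set b := principalBlock M C
  have hval : ∀ r : C, regPart 2 θ r =
      ∑ ψ : IrrCharacter C with ψ ∈ b, classInner θ (ψ : C → ℂ) * regPart 2 (ψ : C → ℂ) r := by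
    intro r
    by_cases hr : IsPRegular 2 r
    · rw [regPart_of_regular hr]
      have hv := value_eq_sum_inducing_blocks hM hx (B := principalBlock M G) isPBlock_principalBlock
        hχ hr {principalBlock M C} fun b' => by
          rw [Finset.mem_singleton, isInducedBlock_centralizer_principal_iff hM hx]
      rw [Finset.sum_singleton, blockPart_eq_filter] at hv
      exact hv.trans (Finset.sum_congr rfl fun ψ _ => by rw [regPart_of_regular hr])
    · simp [regPart_of_singular hr]
  have hz : ∑ r : C, regPart 2 θ r * conj ((h.lift 3 : C → ℂ) r) = 0 := by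
    simp only [hval, Finset.sum_mul]
    rw [Finset.sum_comm]
    refine Finset.sum_eq_zero fun ψ hψ => ?_
    have h0 := classInner_regPart_eq_zero hM (IsPBlock.isBlockUnion isPBlock_principalBlock)
      (χ := ψ) (Finset.mem_filter.mp hψ).2 (h.lift_four_notMem hM)
    rw [classInner] at h0
    have h1 := (mul_eq_zero.mp h0).resolve_left (inv_ne_zero (Nat.cast_ne_zero.mpr Nat.card_pos.ne'))
    simp only [mul_assoc]
    rw [← Finset.mul_sum, h1, mul_zero]
  rw [h.sum_regular (irr_classFunction χ)] at hz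
  simp [Fin.sum_univ_five, wt, val] at hz
  linear_combination hz

/-- The functionals take integral values. -/
theorem dval_int (i : Fin 3) (χ : IrrCharacter G) : ∃ d : ℤ, h.dval i (χ : G → ℂ) = d := by
  classical
  set f : A5 → ℂ := fun a => (χ : G → ℂ) (h.t * h.emb (1, a)) with hf
  have hfc : ∀ a x : A5, f (x * a * x⁻¹) = f a := fun a x => by
    simp only [hf]
    rw [show h.t * h.emb (1, x * a * x⁻¹) = h.emb (1, x) * (h.t * h.emb (1, a)) * (h.emb (1, x))⁻¹ from ?_]
    · exact irr_classFunction χ _ _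
    · rw [show ((1 : Z2), x * a * x⁻¹) = (1, x) * (1, a) * (1, x)⁻¹ by simp [Prod.ext_iff], map_mul,
        map_mul, map_inv, ← mul_assoc (h.emb (1, x)) h.t, ← (h.emb_comm (1, x)).eq]
      simp only [mul_assoc]
  have hm : ∀ c : Fin 5, ∃ m : ℤ, classInner f (tab c) = m := by
    intro c
    have hχc := Char.isCharacter_of_isIrr χ.2
    have hψ : IsCharacter A5 (tab c) := Char.isCharacter_of_isIrr (irr c).2
    obtain ⟨m₁, hm₁⟩ := Char.exists_nat_classInner (Char.isCharacter_comp h.emb hχc)
      (Char.isCharacter_comp (MonoidHom.snd Z2 A5) hψ)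
    obtain ⟨m₂, hm₂⟩ := Char.exists_nat_classInner
      (Char.isCharacter_comp (h.emb.comp (MonoidHom.inr Z2 A5)) hχc) hψ
    refine ⟨2 * (m₁ : ℤ) - m₂, ?_⟩
    push_cast
    rw [← hm₁, ← hm₂, classInner, classInner, classInner, Fintype.sum_prod_type, Nat.card_prod,
      show (Finset.univ : Finset Z2) = {1, zb} by decide, Finset.sum_pair (by decide),
      show Nat.card Z2 = 2 by rw [Nat.card_eq_fintype_card]; rfl]
    simp only [hf, h.t_mul_emb, MonoidHom.coe_snd, MonoidHom.coe_comp, Function.comp_apply,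
      MonoidHom.inr_apply, mul_one]
    push_cast
    ring
  obtain ⟨m0, e0⟩ := hm 0
  obtain ⟨m1, e1⟩ := hm 1
  obtain ⟨m2, e2⟩ := hm 2
  obtain ⟨m4, e4⟩ := hm 4
  have ev : ∀ c : Fin 5, classInner f (tab c) =
      (60 : ℂ)⁻¹ * ∑ j : Fin 5, (wt j : ℂ) * (f (rep j) * val c j) := by
    intro c
    rw [classInner, sum_classes (F := fun a => f a * conj (tab c a))
      (fun a x => by rw [hfc, tab_class]), card_A5]
    simp only [nsmul_eq_mul, tab_real]
    simp only [tab_rep, Nat.cast_ofNat]
  rw [ev] at e0 e1 e2 e4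
  simp [Fin.sum_univ_five, wt, val, hf, ← h.sec_eq] at e0 e1 e2 e4
  fin_cases i <;> simp [dval, co, Fin.sum_univ_five]
  · refine ⟨m0 + m1 + m2 + m4, ?_⟩
    push_cast
    linear_combination e0 + e1 + e2 + e4 -
      (1 / 5 : ℂ) * ((χ : G → ℂ) (h.sec 3) + (χ : G → ℂ) (h.sec 4)) * ga_add
  · refine ⟨m1 + m4, ?_⟩
    push_cast
    linear_combination e1 + e4
  · refine ⟨m2 + m4, ?_⟩
    push_cast
    linear_combination e2 + e4

variable [IsSimpleGroup G]

/-- Sums of products of the functionals over all characters. -/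
theorem dval_gram (i j : Fin 3) :
    ∑ χ : IrrCharacter G, h.dval i (χ : G → ℂ) * conj (h.dval j (χ : G → ℂ)) =
      ((![![8, 4, 4], ![4, 4, 2], ![4, 2, 4]] : Fin 3 → Fin 3 → ℤ) i j : ℂ) := by
  classical
  simp only [dval, map_sum, map_mul, co_real, Finset.sum_mul_sum]
  rw [Finset.sum_comm, Finset.sum_congr rfl (g := fun a => co i a * co j a *
    ((![120, 8, 6, 10, 10] : Fin 5 → ℕ) a : ℂ)) fun a _ => ?_]
  · fin_cases i <;> fin_cases j <;> simp [co, Fin.sum_univ_five] <;>
      first
        | ring1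
        | linear_combination (2 / 5 : ℂ) * ga_sq + (2 / 5 : ℂ) * gb_sq + (2 / 5 : ℂ) * ga_add
        | linear_combination (4 / 5 : ℂ) * ga_add
        | linear_combination (4 / 5 : ℂ) * ga_mul
  · rw [Finset.sum_comm, Fintype.sum_eq_single a fun b hb => ?_]
    · by_cases ha : a = 1
      · subst ha; simp [co_one]
      · simp only [show ∀ χ : IrrCharacter G, co i a * (χ : G → ℂ) (h.sec a) *
            (co j a * conj ((χ : G → ℂ) (h.sec a))) = co i a * co j a *
              ((χ : G → ℂ) (h.sec a) * conj ((χ : G → ℂ) (h.sec a))) from fun χ => by ring]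
        rw [← Finset.mul_sum, Char.column_orthogonality, if_pos (IsConj.refl _), h.sec_centralizer ha]
    · by_cases ha : a = 1
      · subst ha; simp [co_one]
      by_cases hb1 : b = 1
      · subst hb1; simp [co_one]
      simp only [show ∀ χ : IrrCharacter G, co i a * (χ : G → ℂ) (h.sec a) *
          (co j b * conj ((χ : G → ℂ) (h.sec b))) = co i a * co j b *
            ((χ : G → ℂ) (h.sec a) * conj ((χ : G → ℂ) (h.sec b))) from fun χ => by ring]
      rw [← Finset.mul_sum, Char.column_orthogonality, if_neg (h.sec_not_isConj ha hb1 (Ne.symm hb)),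
        mul_zero]

/-- The degrees are orthogonal to the functionals. -/
theorem dval_degree (i : Fin 3) :
    ∑ χ : IrrCharacter G, (χ : G → ℂ) 1 * h.dval i (χ : G → ℂ) = 0 := by
  classical
  simp only [dval, Finset.mul_sum]
  rw [Finset.sum_comm]
  refine Finset.sum_eq_zero fun a _ => ?_
  by_cases ha : a = 1
  · subst ha; simp [co_one]
  have hne : ¬ IsConj (h.sec a) (1 : G) := fun hc => by
    have h1 : h.sec a = 1 := isConj_one_left.mp hc
    have := h.sec_centralizer ha
    rw [h1, centralizer_one, Subgroup.card_top] at this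
    · have h120 := h.div840
      have h121 : (![120, 8, 6, 10, 10] : Fin 5 → ℕ) a ≤ 120 := by fin_cases a <;> decide
      have := Nat.le_of_dvd Nat.card_pos h120
      omega
  have h2 := Char.column_orthogonality (h.sec a) (1 : G)
  rw [if_neg hne] at h2
  calc ∑ χ : IrrCharacter G, (χ : G → ℂ) 1 * (co i a * (χ : G → ℂ) (h.sec a))
      = co i a * ∑ χ : IrrCharacter G, (χ : G → ℂ) (h.sec a) * conj ((χ : G → ℂ) 1) := by
        rw [Finset.mul_sum]
        refine Finset.sum_congr rfl fun χ _ => ?_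
        rw [(irr_degree_eq χ).1, Complex.conj_natCast]; ring
    _ = 0 := by rw [h2, mul_zero]

theorem class_card_t : ∑ s : G, classInd h.t s = (Nat.card G : ℂ) / 120 := by
  classical
  simp only [classInd, Finset.sum_boole]
  have h1 := Char.card_centralizer_mul_index (G := G) h.t
  rw [h.card_centralizer, ← Char.card_isConj_eq_index] at h1
  rw [eq_div_iff (by norm_num), ← h1, mul_comm, ← Fintype.card_subtype,
    ← Nat.card_eq_fintype_card, Nat.card_congr (Equiv.subtypeEquivRight
      (p := fun x => IsConj h.t x) (q := fun x => IsConj x h.t) fun x => ⟨IsConj.symm, IsConj.symm⟩)]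
  norm_num

/-- The class multiplication equations. -/
theorem class_weight {j : Fin 5} (hj : j ≠ 1) :
    ∑ χ : IrrCharacter G, conj ((χ : G → ℂ) h.t) * ((χ : G → ℂ) h.t / (χ : G → ℂ) 1) *
      (χ : G → ℂ) (h.sec j) =
        14400 * ((![30, 0, 6, 10, 10] : Fin 5 → ℕ) j : ℂ) / (Nat.card G : ℂ) := by
  classical
  have hg : (Nat.card G : ℂ) ≠ 0 := Nat.cast_ne_zero.mpr Nat.card_pos.ne'
  have hom : ∀ χ : IrrCharacter G, omega (χ : G → ℂ) (classInd h.t) =
      (Nat.card G : ℂ) / 120 * ((χ : G → ℂ) h.t / (χ : G → ℂ) 1) := by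
    intro χ
    rw [omega, ← h.class_card_t, mul_div_assoc', Finset.sum_mul]
    congr 1
    refine Finset.sum_congr rfl fun s _ => ?_
    by_cases hs : IsConj h.t s
    · rw [IsClassFunction.eq_of_isConj (irr_classFunction χ) hs]
    · rw [show classInd h.t s = 0 from if_neg hs, zero_mul, zero_mul]
  have key : ∑ χ : IrrCharacter G, conj ((χ : G → ℂ) h.t) *
      (omega (χ : G → ℂ) (classInd h.t) * (χ : G → ℂ) (h.sec j)) =
        120 * ((![30, 0, 6, 10, 10] : Fin 5 → ℕ) j : ℂ) := by
    simp only [← sum_mul_irr_mul (isClassFunction_classInd h.t), Finset.mul_sum]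
    rw [Finset.sum_comm, Finset.sum_congr rfl (g := fun s =>
      if IsConj h.t s ∧ IsConj h.t (s * h.sec j) then (120 : ℂ) else 0) fun s _ => ?_]
    · rw [← Finset.sum_filter, Finset.sum_const, nsmul_eq_mul, ← Fintype.card_subtype,
        ← Nat.card_eq_fintype_card, h.inverting_count hj, mul_comm]
    · calc ∑ χ : IrrCharacter G, conj ((χ : G → ℂ) h.t) *
            (classInd h.t s * (χ : G → ℂ) (s * h.sec j))
          = classInd h.t s * ∑ χ : IrrCharacter G,
              (χ : G → ℂ) (s * h.sec j) * conj ((χ : G → ℂ) h.t) := by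
            rw [Finset.mul_sum]; exact Finset.sum_congr rfl fun χ _ => by ring
        _ = _ := by
          rw [Char.column_orthogonality, h.card_centralizer]
          simp only [classInd]
          by_cases hs : IsConj h.t s <;> by_cases hu : IsConj h.t (s * h.sec j)
          · rw [if_pos hs, if_pos hu.symm, if_pos (And.intro hs hu)]; norm_num
          · rw [if_pos hs, if_neg (fun e => hu e.symm), if_neg (fun e => hu e.2)]; norm_num
          · rw [if_neg hs, if_neg (fun e : IsConj h.t s ∧ IsConj h.t (s * h.sec j) => hs e.1), zero_mul]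
          · rw [if_neg hs, if_neg (fun e : IsConj h.t s ∧ IsConj h.t (s * h.sec j) => hs e.1), zero_mul]
  simp only [hom] at key
  rw [show ∑ χ : IrrCharacter G, conj ((χ : G → ℂ) h.t) *
      ((Nat.card G : ℂ) / 120 * ((χ : G → ℂ) h.t / (χ : G → ℂ) 1) * (χ : G → ℂ) (h.sec j)) =
    (Nat.card G : ℂ) / 120 * ∑ χ : IrrCharacter G, conj ((χ : G → ℂ) h.t) *
      ((χ : G → ℂ) h.t / (χ : G → ℂ) 1) * (χ : G → ℂ) (h.sec j) by
    rw [Finset.mul_sum]; exact Finset.sum_congr rfl fun χ _ => by ring] at key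
  rw [eq_div_iff hg]
  linear_combination 120 * key

theorem dval_weight (i : Fin 3) :
    ∑ χ : IrrCharacter G, conj ((χ : G → ℂ) h.t) * ((χ : G → ℂ) h.t / (χ : G → ℂ) 1) *
      h.dval i (χ : G → ℂ) = (![14, 4, 4] : Fin 3 → ℂ) i * 14400 / (Nat.card G : ℂ) := by
  classical
  simp only [dval, Finset.mul_sum]
  rw [Finset.sum_comm, Finset.sum_congr rfl (g := fun a => co i a *
    (14400 * ((![30, 0, 6, 10, 10] : Fin 5 → ℕ) a : ℂ) / (Nat.card G : ℂ))) fun a _ => ?_]
  · fin_cases i <;> simp [co, Fin.sum_univ_five] <;>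
      first | ring1 | linear_combination (28800 / (Nat.card G : ℂ)) * ga_add |
        linear_combination (28800 / (Fintype.card G : ℂ)) * ga_add
  · by_cases ha : a = 1
    · subst ha; simp [co_one]
    rw [← h.class_weight ha, Finset.mul_sum]
    exact Finset.sum_congr rfl fun χ _ => by ring

/-- The numerical data hold. -/
theorem exists_rows : ∃ (S : Finset (IrrCharacter G)) (o : IrrCharacter G)
    (d : Fin 3 → IrrCharacter G → ℤ) (n : IrrCharacter G → ℕ), Rows S o d n (Nat.card G) := by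
  classical
  haveI : Fact (Nat.Prime 2) := ⟨Nat.prime_two⟩
  obtain ⟨M, hM⟩ := exists_isPModular Nat.prime_two
  haveI := isPrime_of_isPModular hM
  set S := Finset.univ.filter fun χ : IrrCharacter G => χ ∈ principalBlock M G with hS
  choose d hd using h.dval_int
  set n : IrrCharacter G → ℕ := fun χ => charDegree (χ : G → ℂ)
  have hn : ∀ χ : IrrCharacter G, (χ : G → ℂ) 1 = (n χ : ℂ) := fun χ => (irr_degree_eq χ).1
  have memS : ∀ {χ}, χ ∈ S ↔ χ ∈ principalBlock M G := by simp [hS]
  have hout : ∀ χ, χ ∉ S → ∀ i, h.dval i (χ : G → ℂ) = 0 := fun χ hχ i =>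
    h.dval_outside hM (fun e => hχ (memS.mpr e)) i
  have hq : ∀ χ ∈ S, (χ : G → ℂ) h.t = ((d 0 χ + 2 * d 1 χ + 2 * d 2 χ : ℤ) : ℂ) := by
    intro χ hχ
    push_cast
    rw [← hd, ← hd, ← hd]
    have hr := h.section_relation hM (memS.mp hχ)
    simp [dval, co, Fin.sum_univ_five, ← h.sec_zero]
    linear_combination (1 / 15 : ℂ) * hr -
      (2 / 5 : ℂ) * ((χ : G → ℂ) (h.sec 3) + (χ : G → ℂ) (h.sec 4)) * ga_add
  refine ⟨S, trivIrr G, d, n, ?_⟩
  have ho : trivIrr G ∈ S := memS.mpr (trivIrr_mem_principalBlock G)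
  have ho1 : ∀ i, d i (trivIrr G) = if i = 0 then 1 else 0 := fun i => by
    have e : h.dval i (trivIrr G : G → ℂ) = ((if i = 0 then 1 else 0 : ℤ) : ℂ) := by
      have ga' : gb = 1 - ga := by linear_combination ga_add
      fin_cases i <;> simp [dval, co, Fin.sum_univ_five, trivIrr, ga'] <;> ring1
    rw [hd] at e
    exact_mod_cast e
  refine
    { mem := ho
      pos := fun χ _ => (irr_degree_eq χ).2
      triv := ?_
      triv0 := by simpa using ho1 0
      triv1 := by simpa using ho1 1
      triv2 := by simpa using ho1 2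
      deg := fun i => ?_
      gram := fun i j => ?_
      mult := fun χ hχ => ?_
      lt := fun χ hχ hne e => ?_
      sq := fun χ _ => ?_
      vanish := fun χ hχ h8 i => ?_
      weight := fun i => ?_ }
  · have := hn (trivIrr G)
    simp [trivIrr] at this
    exact_mod_cast this.symm
  · have h1 := h.dval_degree i
    rw [← Finset.sum_subset (Finset.subset_univ S) fun χ _ hχ => by rw [hout χ hχ, mul_zero],
      Finset.sum_congr rfl fun χ _ => by rw [hd, hn]] at h1
    exact_mod_cast h1
  · have h1 := h.dval_gram i j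
    rw [← Finset.sum_subset (Finset.subset_univ S) fun χ _ hχ => by rw [hout χ hχ, zero_mul],
      Finset.sum_congr rfl fun χ _ => by rw [hd, hd, map_intCast]] at h1
    exact_mod_cast h1
  · obtain ⟨Sy, -, hS8⟩ := h.sylow_facts
    letI : Fintype ↥(Sy : Subgroup G) := Fintype.ofFinite _
    obtain ⟨m, hm⟩ := Char.exists_nat_classInner
      (Char.isCharacter_restrict (Sy : Subgroup G) (Char.isCharacter_of_isIrr χ.2))
      (Char.isCharacter_monoidHom (1 : ↥(Sy : Subgroup G) →* ℂˣ))
    refine ⟨m, ?_⟩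
    have e : (8 : ℂ) * m = (χ : G → ℂ) 1 + 7 * (χ : G → ℂ) h.t := by
      rw [← hm, classInner, hS8, Nat.cast_ofNat, mul_inv_cancel_left₀ (by norm_num : (8 : ℂ) ≠ 0),
        ← Finset.add_sum_erase _ _ (Finset.mem_univ (1 : ↥(Sy : Subgroup G))),
        Finset.sum_congr rfl (g := fun _ => (χ : G → ℂ) h.t) fun u hu => ?_, Finset.sum_const,
        Finset.card_erase_of_mem (Finset.mem_univ _), Finset.card_univ, ← Nat.card_eq_fintype_card,
        hS8, nsmul_eq_mul]
      · norm_num
      · have hu1 : (u : G) ≠ 1 := fun e => Finset.ne_of_mem_erase hu (Subtype.ext e)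
        have h2 : (u : G) ^ 2 = 1 := h.elementary.1.2 _ u.2
        simp [IsClassFunction.eq_of_isConj (irr_classFunction χ)
          (h.conj_t (orderOf_eq_prime h2 hu1))]
    rw [hn, hq χ hχ] at e
    exact_mod_cast e.symm
  · -- the kernel
    have h1 : (χ : G → ℂ) h.t = (χ : G → ℂ) 1 := by
      rw [hq χ hχ, hn, ← e]; push_cast; rfl
    obtain ⟨K, hK, hKmem, -⟩ := Char.exists_kernel (Char.isCharacter_of_isIrr χ.2)
    rcases hK.eq_bot_or_eq_top with hb | htop
    · exact h.t_ne (Subgroup.mem_bot.mp (hb ▸ (hKmem h.t).mpr h1))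
    · have hc : ∀ x, (χ : G → ℂ) x = (n χ : ℂ) := fun x => by
        rw [(hKmem x).mp (htop ▸ Subgroup.mem_top x), hn]
      have h2 := Char.classInner_irr_self χ.2
      rw [classInner, Finset.sum_congr rfl fun x _ => by rw [hc, Complex.conj_natCast],
        Finset.sum_const, Finset.card_univ, ← Nat.card_eq_fintype_card, nsmul_eq_mul,
        inv_mul_cancel_left₀ (Nat.cast_ne_zero.mpr Nat.card_pos.ne')] at h2
      have h3 : n χ * n χ = 1 := by exact_mod_cast h2
      refine hne (Subtype.ext (funext fun x => ?_))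
      rw [hc, Nat.eq_one_of_mul_eq_one_right h3]
      simp [trivIrr]
  · have h1 := Char.column_orthogonality (1 : G) (1 : G)
    rw [if_pos (IsConj.refl _), centralizer_one, Subgroup.card_top,
      Finset.sum_congr rfl fun ψ _ => by rw [hn, Complex.conj_natCast, ← Nat.cast_mul],
      ← Nat.cast_sum] at h1
    have h2 : ∑ ψ : IrrCharacter G, n ψ * n ψ = Nat.card G := by exact_mod_cast h1
    have htriv : n (trivIrr G) = 1 := by
      have := hn (trivIrr G)
      simp [trivIrr] at this
      exact_mod_cast this.symm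
    have h840 := h.div840
    have hpos : 0 < Nat.card G := Nat.card_pos
    by_cases hχo : χ = trivIrr G
    · rw [hχo, htriv]; omega
    · rw [← h2, ← Finset.add_sum_erase _ _ (Finset.mem_univ χ)]
      have h3 := Finset.single_le_sum (f := fun ψ => n ψ * n ψ) (fun ψ _ => Nat.zero_le _)
        (Finset.mem_erase.mpr ⟨Ne.symm hχo, Finset.mem_univ (trivIrr G)⟩)
      simp only [htriv] at h3
      omega
  · have hv : ∀ a : Fin 5, a ≠ 1 → (χ : G → ℂ) (h.sec a) = 0 := by
      intro a ha
      refine Char.defect_zero_vanish χ.2 (p := 2) (n := 3) (hn χ) ?_ h.not_sixteen h8 ?_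
      · exact Dvd.dvd.trans (by norm_num) h.dvd_card
      · rw [h.sec_eq, (h.emb_comm _).orderOf_mul_eq_mul_orderOf_of_coprime ?_, h.t_order]
        · exact dvd_mul_right _ _
        · rw [h.t_order]
          exact Nat.prime_two.coprime_iff_not_dvd.mpr (h.odd_rep ha)
    have h1 := hd i χ
    rw [dval, Finset.sum_eq_zero fun a _ => ?_] at h1
    · exact_mod_cast h1.symm
    · by_cases ha : a = 1
      · subst ha; rw [co_one, zero_mul]
      · rw [hv a ha, mul_zero]
  · have h1 := h.dval_weight i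
    rw [← Finset.sum_subset (Finset.subset_univ S) fun χ _ hχ => by rw [hout χ hχ, mul_zero],
      Finset.sum_congr rfl fun χ hχ => by rw [hd, hq χ hχ, map_intCast, hn]] at h1
    apply Rat.cast_injective (α := ℂ)
    push_cast at h1 ⊢
    rw [show ((![14, 4, 4] : Fin 3 → ℚ) i : ℂ) = (![14, 4, 4] : Fin 3 → ℂ) i by
      fin_cases i <;> simp, ← h1]
    exact Finset.sum_congr rfl fun χ _ => by ring

end Hyp

end CfsgLib.JOneOrder
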